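import Groth.Agent.Lib.AdeqA.Cover
import Mathlib.Algebra.Category.ModuleCat.ChangeOfRings
import Mathlib.RingTheory.AdjoinRoot
import Mathlib.RingTheory.Flat.Basic
import Mathlib.RingTheory.RingHom.Flat

/-!
# Base change for adequate functors
-/

set_option autoImplicit false

universe u

open CategoryTheory Opposite Limits TensorProduct
open scoped ChangeOfRings

noncomputable section

namespace Groth.Agent.AdeqA

variable {A : Type u} [CommRing A]

/-! ### Restriction and push forward -/

section ChangeRing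

variable (A' : Type u) [CommRing A'] [Algebra A A']

theorem app_restr_map {F G : Adeq.MVF A} (φ : F ⟶ G) (B : Adeq.Alg A') (x : El ((Adeq.restr A A').obj F) B) :
    app ((Adeq.restr A A').map φ) B x = app φ ((Adeq.Alg.restr A A').obj B) x :=
  rfl

theorem app_push_map {F G : Adeq.MVF A'} (φ : F ⟶ G) (B : Adeq.Alg A) (x : El ((Adeq.push A A').obj F) B) :
    app ((Adeq.push A A').map φ) B x = app φ ((Adeq.Alg.baseChange A A').obj B) x :=
  rfl

theorem fmap_restr {F : Adeq.MVF A} {B B' : Adeq.Alg A'} (f : B ⟶ B') (x : El ((Adeq.restr A A').obj F) B) :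
    fmap ((Adeq.restr A A').obj F) f x = fmap F ((Adeq.Alg.restr A A').map f) x :=
  rfl

theorem fmap_push {F : Adeq.MVF A'} {B B' : Adeq.Alg A} (f : B ⟶ B') (x : El ((Adeq.push A A').obj F) B) :
    fmap ((Adeq.push A A').obj F) f x = fmap F ((Adeq.Alg.baseChange A A').map f) x :=
  rfl

/-- The extension of scalars of a module. -/
abbrev extMod (M : ModuleCat.{u + 1} A) : ModuleCat.{u + 1} A' := ModuleCat.of A' (A' ⊗[A] M)

/-- The comparison `restr (underline M) ≅ underline (A' ⊗ M)`, valuewise. -/
def restrEquiv (M : ModuleCat.{u + 1} A) (B : Adeq.Alg A') :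
    El ((Adeq.restr A A').obj (uO A M)) B ≃ₗ[(B : Type u)] El (uO A' (extMod A' M)) B :=
  letI : Algebra A (B : Type u) := ((algebraMap A' B).comp (algebraMap A A')).toAlgebra
  haveI : IsScalarTower A A' (B : Type u) := IsScalarTower.of_algebraMap_eq' rfl
  (TensorProduct.AlgebraTensorModule.cancelBaseChange A A' (B : Type u) (B : Type u) M).symm

theorem restrEquiv_tmul (M : ModuleCat.{u + 1} A) (B : Adeq.Alg A') (b : B) (m : M) :
    restrEquiv A' M B (ofT (B := (Adeq.Alg.restr A A').obj B) (b ⊗ₜ[A] m)) =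
      ofT (B := B) (M := extMod A' M) (b ⊗ₜ[A'] ((1 : A') ⊗ₜ[A] m)) :=
  letI : Algebra A (B : Type u) := ((algebraMap A' B).comp (algebraMap A A')).toAlgebra
  haveI : IsScalarTower A A' (B : Type u) := IsScalarTower.of_algebraMap_eq' rfl
  TensorProduct.AlgebraTensorModule.cancelBaseChange_symm_tmul A A' (B : Type u) b m

/-- The comparison `restr (underline M) ⟶ underline (A' ⊗ M)`. -/
def restrHom (M : ModuleCat.{u + 1} A) : (Adeq.restr A A').obj (uO A M) ⟶ uO A' (extMod A' M) :=
  mkHom (fun B => (restrEquiv A' M B).toLinearMap) fun B B' f x => by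
    refine el_induction (B := (Adeq.Alg.restr A A').obj B) (p := fun y =>
      restrEquiv A' M B' (fmap ((Adeq.restr A A').obj (uO A M)) f y) =
        fmap (uO A' (extMod A' M)) f (restrEquiv A' M B y)) ?_ (fun b m => ?_) (fun y z hy hz => ?_) x
    · exact (congrArg (restrEquiv A' M B') (map_zero (fmap ((Adeq.restr A A').obj (uO A M)) f))).trans
        ((map_zero (restrEquiv A' M B')).trans ((congrArg (fmap (uO A' (extMod A' M)) f)
          (map_zero (restrEquiv A' M B))).trans (map_zero _)).symm)
    · rw [fmap_restr, fmap_ofT, restrEquiv_tmul, fmap_ofT, LinearMap.rTensor_tmul, LinearMap.rTensor_tmul]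
      exact restrEquiv_tmul A' M B' _ m
    · exact ((congrArg (restrEquiv A' M B') (map_add (fmap ((Adeq.restr A A').obj (uO A M)) f) y z)).trans
        (map_add (restrEquiv A' M B') _ _)).trans ((congrArg₂ (· + ·) hy hz).trans
          ((congrArg (fmap (uO A' (extMod A' M)) f) (map_add (restrEquiv A' M B) y z)).trans (map_add _ _ _)).symm)

theorem restrHom_bijective (M : ModuleCat.{u + 1} A) (B : Adeq.Alg A') :
    Function.Bijective (app (restrHom A' M) B) :=
  (restrEquiv A' M B).bijective

theorem restrHom_natural {M N : ModuleCat.{u + 1} A} (g : M ⟶ N) (B : Adeq.Alg A')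
    (x : El ((Adeq.restr A A').obj (uO A M)) B) :
    app (uM A' (ModuleCat.ofHom (g.hom.baseChange A') : extMod A' M ⟶ extMod A' N)) B (app (restrHom A' M) B x) =
      app (restrHom A' N) B (app ((Adeq.restr A A').map (uM A g)) B x) := by
  refine el_induction (B := (Adeq.Alg.restr A A').obj B) (p := fun y =>
    app (uM A' (ModuleCat.ofHom (g.hom.baseChange A') : extMod A' M ⟶ extMod A' N)) B (app (restrHom A' M) B y) =
      app (restrHom A' N) B (app ((Adeq.restr A A').map (uM A g)) B y)) ?_ (fun b m => ?_) (fun y z hy hz => ?_) x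
  · simp only [← app_comp]
    exact (map_zero _).trans (map_zero _).symm
  · show app (uM A' _) B (restrEquiv A' M B _) = restrEquiv A' N B _
    rw [restrEquiv_tmul, app_uM, LinearMap.lTensor_tmul, app_restr_map, app_uM, LinearMap.lTensor_tmul]
    exact (restrEquiv_tmul A' N B b (g.hom m)).symm
  · simp only [← app_comp] at hy hz ⊢
    exact (map_add _ y z).trans ((congrArg₂ (· + ·) hy hz).trans (map_add _ y z).symm)

theorem adequate_restr {F : Adeq.MVF A} (hF : Adeq.adequate A F) :
    Adeq.adequate A' ((Adeq.restr A A').obj F) := by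
  obtain ⟨M, N, g, ι, hι⟩ := (adequate_iff F).1 hF
  refine (adequate_iff _).2 ⟨extMod A' M, extMod A' N, ModuleCat.ofHom (g.hom.baseChange A'),
    (Adeq.restr A A').map ι ≫ restrHom A' M, ⟨fun B x y h => ?_, fun B x => ?_, fun B z hz => ?_⟩⟩
  · exact hι.inj _ ((restrHom_bijective A' M B).1 h)
  · rw [app_comp, restrHom_natural, app_restr_map, app_restr_map]
    exact (congrArg (app (restrHom A' N) B) (hι.zero _ x)).trans (map_zero _)
  · obtain ⟨w, rfl⟩ := (restrHom_bijective A' M B).2 z
    rw [restrHom_natural] at hz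
    obtain ⟨x, hx⟩ := hι.exists_lift ((Adeq.Alg.restr A A').obj B) w
      ((restrHom_bijective A' N B).1 (hz.trans (map_zero _).symm))
    exact ⟨x, congrArg (app (restrHom A' M) B) hx⟩

/-- Restriction of scalars of a module. -/
abbrev resMod (M : ModuleCat.{u + 1} A') : ModuleCat.{u + 1} A :=
  (ModuleCat.restrictScalars (algebraMap A A')).obj M

/-- The comparison `underline M' → push (underline M')`, valuewise. -/
def pTo (M : ModuleCat.{u + 1} A') (B : Adeq.Alg A) :
    ((B : Type u) ⊗[A] resMod (A := A) A' M) →+ ((A' ⊗[A] (B : Type u)) ⊗[A'] M) :=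
  TensorProduct.liftAddHom
    { toFun := fun b =>
        { toFun := fun m => ((1 : A') ⊗ₜ[A] b) ⊗ₜ[A'] (m : M)
          map_zero' := TensorProduct.tmul_zero _ _
          map_add' := fun m m' => TensorProduct.tmul_add _ _ _ }
      map_zero' := AddMonoidHom.ext fun m => by
        show ((1 : A') ⊗ₜ[A] (0 : B)) ⊗ₜ[A'] (m : M) = 0
        rw [TensorProduct.tmul_zero, TensorProduct.zero_tmul]
      map_add' := fun b b' => AddMonoidHom.ext fun m => by
        show ((1 : A') ⊗ₜ[A] (b + b')) ⊗ₜ[A'] (m : M) = _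
        rw [TensorProduct.tmul_add, TensorProduct.add_tmul]
        rfl }
    (fun r b m => by
      show ((1 : A') ⊗ₜ[A] (r • b)) ⊗ₜ[A'] (m : M) = ((1 : A') ⊗ₜ[A] b) ⊗ₜ[A'] (algebraMap A A' r • (m : M))
      rw [TensorProduct.tmul_smul (R := A') (algebraMap A A' r) ((1 : A') ⊗ₜ[A] b) (m : M),
        TensorProduct.smul_tmul', algebraMap_smul, TensorProduct.tmul_smul])

theorem pTo_tmul (M : ModuleCat.{u + 1} A') (B : Adeq.Alg A) (b : B) (m : M) :
    pTo A' M B (b ⊗ₜ[A] (show resMod (A := A) A' M from m)) = ((1 : A') ⊗ₜ[A] b) ⊗ₜ[A'] m :=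
  rfl

theorem pTo_bijective (M : ModuleCat.{u + 1} A') (B : Adeq.Alg A) :
    Function.Bijective (pTo A' M B) := by
  letI : Module A M := Module.compHom M (algebraMap A A')
  haveI : IsScalarTower A A' M := ⟨fun a a' m => by
    rw [Algebra.smul_def, mul_smul]; rfl⟩
  let e : ((B : Type u) ⊗[A] M) ≃+ ((A' ⊗[A] (B : Type u)) ⊗[A'] M) :=
    ((TensorProduct.comm A (B : Type u) M).toAddEquiv.trans
      (TensorProduct.AlgebraTensorModule.cancelBaseChange A A' A' M (B : Type u)).symm.toAddEquiv).trans
      (TensorProduct.comm A' M (A' ⊗[A] (B : Type u))).toAddEquiv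
  have he : ∀ z, e z = pTo A' M B z := by
    intro z
    induction z using TensorProduct.induction_on with
    | zero => rw [map_zero]; exact (map_zero (pTo A' M B)).symm
    | tmul b m =>
      show TensorProduct.comm A' M (A' ⊗[A] (B : Type u))
        ((TensorProduct.AlgebraTensorModule.cancelBaseChange A A' A' M (B : Type u)).symm (m ⊗ₜ[A] b)) = _
      rw [TensorProduct.AlgebraTensorModule.cancelBaseChange_symm_tmul, TensorProduct.comm_tmul]
      rfl
    | add x y hx hy => rw [map_add, hx, hy]; exact (map_add (pTo A' M B) x y).symm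
  have : (pTo A' M B : _ → _) = e := funext fun z => (he z).symm
  rw [this]
  exact e.bijective

/-- The comparison `underline M' ⟶ push (underline M')`. -/
def pushHom (M : ModuleCat.{u + 1} A') : uO A (resMod (A := A) A' M) ⟶ (Adeq.push A A').obj (uO A' M) :=
  mkHom
    (fun B =>
      { toFun := fun x => ofT (B := (Adeq.Alg.baseChange A A').obj B) (pTo A' M B (toT x))
        map_add' := fun x y => congrArg ofT (map_add (pTo A' M B) (toT x) (toT y))
        map_smul' := fun r x => by
          obtain ⟨z, rfl⟩ : ∃ z, ofT z = x := ⟨toT x, rfl⟩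
          rw [toT_smul, toT_ofT, RingHom.id_apply]
          show ofT (B := (Adeq.Alg.baseChange A A').obj B) (pTo A' M B (r • z)) =
            ofT (B := (Adeq.Alg.baseChange A A').obj B)
              (((1 : A') ⊗ₜ[A] r : A' ⊗[A] (B : Type u)) • pTo A' M B z)
          refine congrArg ofT ?_
          induction z using TensorProduct.induction_on with
          | zero => rw [smul_zero, map_zero, smul_zero]
          | tmul b m =>
            rw [TensorProduct.smul_tmul', pTo_tmul, pTo_tmul, TensorProduct.smul_tmul',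
              smul_eq_mul, smul_eq_mul, Algebra.TensorProduct.tmul_mul_tmul, one_mul]
          | add x y hx hy => rw [smul_add, map_add, hx, hy, map_add, smul_add] })
    (fun B B' f x => by
      obtain ⟨z, rfl⟩ : ∃ z, ofT z = x := ⟨toT x, rfl⟩
      rw [fmap_ofT, fmap_push]
      show ofT (B := (Adeq.Alg.baseChange A A').obj B') (pTo A' M B' (f.hom.toLinearMap.rTensor (resMod (A := A) A' M) z)) =
        ofT (B := (Adeq.Alg.baseChange A A').obj B')
          (((Adeq.Alg.baseChange A A').map f).hom.toLinearMap.rTensor M (pTo A' M B z))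
      refine congrArg ofT ?_
      induction z using TensorProduct.induction_on with
      | zero => simp only [map_zero]
      | tmul b m => rfl
      | add x y hx hy => simp only [map_add, hx, hy])

theorem pushHom_bijective (M : ModuleCat.{u + 1} A') (B : Adeq.Alg A) :
    Function.Bijective (app (pushHom (A := A) A' M) B) :=
  pTo_bijective A' M B

theorem pushHom_natural {M N : ModuleCat.{u + 1} A'} (g : M ⟶ N) (B : Adeq.Alg A) (x : El (uO A (resMod (A := A) A' M)) B) :
    app ((Adeq.push A A').map (uM A' g)) B (app (pushHom (A := A) A' M) B x) =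
      app (pushHom (A := A) A' N) B (app (uM A ((ModuleCat.restrictScalars (algebraMap A A')).map g)) B x) := by
  obtain ⟨z, rfl⟩ : ∃ z, ofT z = x := ⟨toT x, rfl⟩
  rw [app_uM, app_push_map]
  show app (uM A' g) ((Adeq.Alg.baseChange A A').obj B) (ofT (B := (Adeq.Alg.baseChange A A').obj B) (pTo A' M B z)) =
    ofT (B := (Adeq.Alg.baseChange A A').obj B) (pTo A' N B _)
  rw [app_uM]
  simp only [toT_ofT]
  refine congrArg ofT ?_
  induction z using TensorProduct.induction_on with
  | zero => simp only [map_zero]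
  | tmul b m => rfl
  | add x y hx hy => simp only [map_add, hx, hy]

theorem adequate_push {F : Adeq.MVF A'} (hF : Adeq.adequate A' F) :
    Adeq.adequate A ((Adeq.push A A').obj F) := by
  obtain ⟨M, N, g, ι, hι⟩ := (adequate_iff F).1 hF
  let f := (ModuleCat.restrictScalars (algebraMap A A')).map g
  have hinv : IsIso (pushHom (A := A) A' M) := by
    haveI := mono_of_injective _ fun B => (pushHom_bijective (A := A) A' M B).1
    haveI := epi_of_surjective _ fun B => (pushHom_bijective (A := A) A' M B).2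
    exact isIso_of_mono_of_epi _
  refine (adequate_iff _).2 ⟨resMod (A := A) A' M, resMod (A := A) A' N, f, (Adeq.push A A').map ι ≫ inv (pushHom (A := A) A' M),
    ⟨fun B x y h => ?_, fun B x => ?_, fun B z hz => ?_⟩⟩
  · have h' := congrArg (app (pushHom (A := A) A' M) B) h
    rw [← app_comp, ← app_comp, Category.assoc, IsIso.inv_hom_id, Category.comp_id] at h'
    exact hι.inj _ h'
  · refine (pushHom_bijective (A := A) A' N B).1 ?_
    rw [← pushHom_natural, ← app_comp _ (pushHom (A := A) A' M), Category.assoc, IsIso.inv_hom_id, Category.comp_id,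
      map_zero]
    exact hι.zero _ x
  · have h' := congrArg (app (pushHom (A := A) A' N) B) hz
    rw [← pushHom_natural, map_zero] at h'
    obtain ⟨x, hx⟩ := hι.exists_lift ((Adeq.Alg.baseChange A A').obj B) _ h'
    refine ⟨x, (pushHom_bijective (A := A) A' M B).1 ?_⟩
    rw [← app_comp _ (pushHom (A := A) A' M), Category.assoc, IsIso.inv_hom_id, Category.comp_id]
    exact hx

/-- The map `F(B) → F(A' ⊗ B)`. -/
def unitHom (F : Adeq.MVF A) : F ⟶ (Adeq.push A A').obj ((Adeq.restr A A').obj F) :=
  mkHom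
    (fun B =>
      { toFun := fun x => fmap F (Adeq.Alg.unit A A' B) x
        map_add' := map_add (fmap F (Adeq.Alg.unit A A' B))
        map_smul' := fun r x => fmap_smul F (Adeq.Alg.unit A A' B) r x })
    (fun B B' f x => by
      show fmap F (Adeq.Alg.unit A A' B') (fmap F f x) =
        fmap F ((Adeq.Alg.restr A A').map ((Adeq.Alg.baseChange A A').map f)) (fmap F (Adeq.Alg.unit A A' B) x)
      rw [← fmap_comp, ← fmap_comp]
      congr 1)

theorem adequate_of_descent (F : Adeq.MVF A) (h₁ : Adeq.adequate A' ((Adeq.restr A A').obj F))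
    (h₂ : ∀ B : Adeq.Alg A, Function.Injective (fmap F (Adeq.Alg.unit A A' B)) ∧
      ∀ y : El F ((Adeq.Alg.restr A A').obj ((Adeq.Alg.baseChange A A').obj B)),
        fmap F (Adeq.Alg.unit A A' ((Adeq.Alg.restr A A').obj ((Adeq.Alg.baseChange A A').obj B))) y =
          fmap F ((Adeq.Alg.restr A A').map ((Adeq.Alg.baseChange A A').map (Adeq.Alg.unit A A' B))) y →
        y ∈ Set.range (fmap F (Adeq.Alg.unit A A' B))) :
    Adeq.adequate A F := by
  let G₁ := (Adeq.push A A').obj ((Adeq.restr A A').obj F)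
  have a₁ : Adeq.adequate A G₁ := adequate_push A' h₁
  have a₂ : Adeq.adequate A ((Adeq.push A A').obj ((Adeq.restr A A').obj G₁)) :=
    adequate_push A' (adequate_restr A' a₁)
  let d : G₁ ⟶ (Adeq.push A A').obj ((Adeq.restr A A').obj G₁) :=
    (Adeq.push A A').map ((Adeq.restr A A').map (unitHom A' F)) - unitHom A' G₁
  have hk : IsKer d (unitHom A' F) := by
    refine ⟨fun B => (h₂ B).1, fun B x => ?_, fun B y hy => ?_⟩
    · rw [app_sub, sub_eq_zero]
      exact (app_fmap (unitHom A' F) (Adeq.Alg.unit A A' B) x)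
    · rw [app_sub, sub_eq_zero] at hy
      exact (h₂ B).2 y hy
  obtain ⟨e⟩ := hk.nonempty_iso_kernel
  exact (Adeq.adequate A).prop_of_iso e.symm (adequate_kernel d a₁ a₂)

end ChangeRing

/-! ### Flat base change -/

theorem bc_one_tmul (F : Adeq.MVF A) {B B' : Adeq.Alg A} (f : B ⟶ B') (x : El F B) :
    F.bc f ((1 : (B' : Type u)) ⊗ₜ[(B : Type u), f.hom.toRingHom] x) = fmap F f x := by
  have h := ((ModuleCat.extendRestrictScalarsAdj.{u + 1, u, u} f.hom.toRingHom).homEquiv (F.obj (Adeq.pt B))
    (F.obj (Adeq.pt B'))).apply_symm_apply (F.map (Adeq.ptHom f))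
  have h2 := congrArg (fun t => ModuleCat.Hom.hom t x) h
  rw [ModuleCat.extendRestrictScalarsAdj_homEquiv_apply] at h2
  exact h2

/-- The base change map as a linear map. -/
def bcLin (F : Adeq.MVF A) {B B' : Adeq.Alg A} [Algebra (B : Type u) (B' : Type u)] (f : B ⟶ B')
    (hf : ∀ b, algebraMap (B : Type u) (B' : Type u) b = f.hom b) :
    (B' : Type u) ⊗[(B : Type u)] El F B →ₗ[(B' : Type u)] El F B' :=
  letI : Module (B : Type u) (El F B') := Module.compHom _ (algebraMap (B : Type u) (B' : Type u))
  haveI : IsScalarTower (B : Type u) (B' : Type u) (El F B') := ⟨fun b b' x => by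
    rw [Algebra.smul_def, mul_smul]; rfl⟩
  LinearMap.liftBaseChange (B' : Type u)
    { toFun := fmap F f
      map_add' := map_add (fmap F f)
      map_smul' := fun b x => (fmap_smul F f b x).trans (congrArg (· • fmap F f x) (hf b).symm) }

theorem bcLin_tmul (F : Adeq.MVF A) {B B' : Adeq.Alg A} [Algebra (B : Type u) (B' : Type u)] (f : B ⟶ B')
    (hf : ∀ b, algebraMap (B : Type u) (B' : Type u) b = f.hom b) (b' : B') (x : El F B) :
    bcLin F f hf (b' ⊗ₜ[(B : Type u)] x) = b' • fmap F f x := by
  simp only [bcLin, LinearMap.liftBaseChange_tmul]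
  rfl

theorem isIso_bc_of_bijective (F : Adeq.MVF A) {B B' : Adeq.Alg A} (f : B ⟶ B')
    (h : letI := f.hom.toRingHom.toAlgebra; Function.Bijective (bcLin F f (fun _ => rfl))) : IsIso (F.bc f) := by
  letI := f.hom.toRingHom.toAlgebra
  refine (ConcreteCategory.isIso_iff_bijective (F.bc f)).2 ?_
  have key : ∀ z, F.bc f z = bcLin F f (fun _ => rfl) z := by
    intro z
    induction z using TensorProduct.induction_on with
    | zero => exact (map_zero _).trans (map_zero (bcLin F f (fun _ => rfl))).symm
    | tmul b'' x =>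
      obtain ⟨b', rfl⟩ : ∃ b' : (B' : Type u), b' = b'' := ⟨b'', rfl⟩
      refine Eq.trans ?_ (bcLin_tmul F f (fun _ => rfl) (b' : (B' : Type u)) x).symm
      have e : ((b' : (B' : Type u)) ⊗ₜ[(B : Type u), f.hom.toRingHom] x) =
          (b' : (B' : Type u)) • ((1 : (B' : Type u)) ⊗ₜ[(B : Type u), f.hom.toRingHom] x) := by
        refine Eq.trans ?_ (ModuleCat.ExtendScalars.smul_tmul f.hom.toRingHom b' 1 x).symm
        rw [mul_one]
      exact ((congrArg (F.bc f) e).trans (map_smul (F.bc f).hom (b' : (B' : Type u)) _)).trans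
        (congrArg ((b' : (B' : Type u)) • ·) (bc_one_tmul F f x))
    | add x y hx hy =>
      exact ((map_add _ x y).trans (congrArg₂ (· + ·) hx hy)).trans
        (map_add (bcLin F f (fun _ => rfl)) x y).symm
  exact (show (F.bc f : _ → _) = bcLin F f (fun _ => rfl) from funext key) ▸ h

theorem bcLin_uO_bijective (M : ModuleCat.{u + 1} A) {B B' : Adeq.Alg A} [Algebra (B : Type u) (B' : Type u)]
    (f : B ⟶ B') (hf : ∀ b, algebraMap (B : Type u) (B' : Type u) b = f.hom b) :
    Function.Bijective (bcLin (uO A M) f hf) := by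
  haveI : IsScalarTower A (B : Type u) (B' : Type u) :=
    IsScalarTower.of_algebraMap_eq fun a => by rw [hf, f.hom.commutes]
  let e : (B' : Type u) ⊗[(B : Type u)] El (uO A M) B ≃+ El (uO A M) B' :=
    (TensorProduct.AlgebraTensorModule.cancelBaseChange A (B : Type u) (B' : Type u) (B' : Type u) M).toAddEquiv
  have he : ∀ z, bcLin (uO A M) f hf z = e z := by
    intro z
    induction z using TensorProduct.induction_on with
    | zero => rw [map_zero, map_zero]
    | tmul b' x =>
      rw [bcLin_tmul]
      refine el_induction (p := fun x => b' • fmap (uO A M) f x = e (b' ⊗ₜ[(B : Type u)] x)) ?_ (fun b m => ?_)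
        (fun y z hy hz => ?_) x
      · rw [map_zero, smul_zero, TensorProduct.tmul_zero, map_zero]
      · rw [fmap_ofT, LinearMap.rTensor_tmul, ← ofT_smul, TensorProduct.smul_tmul']
        refine Eq.trans ?_ (TensorProduct.AlgebraTensorModule.cancelBaseChange_tmul A (B : Type u)
          (B' : Type u) b' m b).symm
        show (b' * f.hom b) ⊗ₜ[A] m = (b • b') ⊗ₜ[A] m
        rw [Algebra.smul_def, hf, mul_comm]
      · rw [map_add, smul_add, hy, hz, TensorProduct.tmul_add, map_add]
    | add x y hx hy => rw [map_add, map_add, hx, hy]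
  rw [show (bcLin (uO A M) f hf : _ → _) = e from funext he]
  exact e.bijective

theorem bcLin_natural {F G : Adeq.MVF A} (φ : F ⟶ G) {B B' : Adeq.Alg A} [Algebra (B : Type u) (B' : Type u)]
    (f : B ⟶ B') (hf : ∀ b, algebraMap (B : Type u) (B' : Type u) b = f.hom b)
    (z : (B' : Type u) ⊗[(B : Type u)] El F B) :
    app φ B' (bcLin F f hf z) = bcLin G f hf ((app φ B).lTensor (B' : Type u) z) := by
  induction z using TensorProduct.induction_on with
  | zero => simp only [map_zero]
  | tmul b' x => rw [LinearMap.lTensor_tmul, bcLin_tmul, bcLin_tmul, map_smul, app_fmap]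
  | add x y hx hy => simp only [map_add, hx, hy]

theorem bcLin_bijective {F : Adeq.MVF A} (hF : Adeq.adequate A F) {B B' : Adeq.Alg A}
    [Algebra (B : Type u) (B' : Type u)] [Module.Flat (B : Type u) (B' : Type u)]
    (f : B ⟶ B') (hf : ∀ b, algebraMap (B : Type u) (B' : Type u) b = f.hom b) :
    Function.Bijective (bcLin F f hf) := by
  obtain ⟨M, N, g, ι, hι⟩ := (adequate_iff F).1 hF
  have hM := bcLin_uO_bijective M f hf
  have hN := bcLin_uO_bijective N f hf
  have hex : Function.Exact (app ι B) (app (uM A g) B) := fun y =>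
    ⟨fun h => hι.exists_lift B y h, fun ⟨x, hx⟩ => hx ▸ hι.zero B x⟩
  refine ⟨fun z w h => ?_, fun y => ?_⟩
  · refine Module.Flat.lTensor_preserves_injective_linearMap (M := (B' : Type u)) (app ι B) (hι.inj B)
      (hM.1 ?_)
    rw [← bcLin_natural, ← bcLin_natural, h]
  · obtain ⟨w, hw⟩ := hM.2 (app ι B' y)
    have h0 : (app (uM A g) B).lTensor (B' : Type u) w = 0 := hN.1 (by
      rw [← bcLin_natural, hw, hι.zero, map_zero])
    obtain ⟨z, rfl⟩ := (Module.Flat.lTensor_exact (B' : Type u) hex w).1 h0
    exact ⟨z, hι.inj B' (by rw [bcLin_natural, hw])⟩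

theorem isIso_bc {F : Adeq.MVF A} (hF : Adeq.adequate A F) {B B' : Adeq.Alg A} (f : B ⟶ B')
    (hf : f.hom.toRingHom.Flat) : IsIso (F.bc f) :=
  isIso_bc_of_bijective F f (by
    letI := f.hom.toRingHom.toAlgebra
    haveI : Module.Flat (B : Type u) (B' : Type u) := hf
    exact bcLin_bijective hF f fun _ => rfl)

/-- Additive transformations commuting with units are linear. -/
theorem map_smul_of_units (F G : Adeq.MVF A) (φ : ∀ B : Adeq.Alg A, El F B → El G B)
    (hnat : ∀ ⦃B B' : Adeq.Alg A⦄ (f : B ⟶ B') (x : El F B), φ B' (fmap F f x) = fmap G f (φ B x))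
    (hadd : ∀ (B : Adeq.Alg A) (x y : El F B), φ B (x + y) = φ B x + φ B y)
    (hunit : ∀ (B : Adeq.Alg A) (v : (B : Type u)ˣ) (x : El F B), φ B ((v : B) • x) = (v : B) • φ B x)
    (hG : ∀ ⦃B B' : Adeq.Alg A⦄ (f : B ⟶ B'), f.hom.toRingHom.Flat → IsIso (G.bc f))
    (B : Adeq.Alg A) (b : B) (x : El F B) : φ B (b • x) = b • φ B x := by
  rcases subsingleton_or_nontrivial (B : Type u) with hB | hB
  · haveI : Subsingleton (El G B) := Module.subsingleton (B : Type u) _
    exact Subsingleton.elim _ _
  let q : Polynomial (B : Type u) := Polynomial.X * (Polynomial.X + Polynomial.C b) + 1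
  have hq' : q = Polynomial.X ^ 2 + (Polynomial.C b * Polynomial.X + Polynomial.C 1) := by
    simp only [q, map_one]
    ring
  have hdeg : (Polynomial.C b * Polynomial.X + Polynomial.C 1).degree < 2 :=
    lt_of_le_of_lt Polynomial.degree_linear_le (by decide)
  have hq : q.Monic := hq' ▸ Polynomial.monic_X_pow_add hdeg
  let B' : Adeq.Alg A := Adeq.algOf A (AdjoinRoot q)
  let f : B ⟶ B' := CommAlgCat.ofHom (IsScalarTower.toAlgHom A (B : Type u) (AdjoinRoot q))
  have ht : IsUnit (AdjoinRoot.root q) ∧ IsUnit (AdjoinRoot.root q + AdjoinRoot.of q b) := by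
    have h := AdjoinRoot.eval₂_root q
    simp only [q, Polynomial.eval₂_add, Polynomial.eval₂_mul, Polynomial.eval₂_X, Polynomial.eval₂_C,
      Polynomial.eval₂_one] at h
    refine IsUnit.mul_iff.1 ?_
    rw [eq_neg_of_add_eq_zero_left h]
    exact isUnit_one.neg
  obtain ⟨⟨v, hv⟩, ⟨w, hw⟩⟩ := ht
  have hinj : Function.Injective (fmap G f) := by
    haveI : Module.Free (B : Type u) (AdjoinRoot q) := Module.Free.of_basis (AdjoinRoot.powerBasis' hq).basis
    haveI := hG f (show f.hom.toRingHom.Flat from RingHom.flat_algebraMap_iff.2 inferInstance)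
    intro y z hyz
    rw [← bc_one_tmul, ← bc_one_tmul] at hyz
    have h' := ((ConcreteCategory.isIso_iff_bijective (G.bc f)).1 inferInstance).1 hyz
    have hd : (AdjoinRoot.powerBasis' hq).dim = 2 := by
      rw [AdjoinRoot.powerBasis'_dim]
      show q.natDegree = 2
      refine Polynomial.natDegree_eq_of_degree_eq_some ?_
      rw [hq', Polynomial.degree_add_eq_left_of_degree_lt (by rw [Polynomial.degree_X_pow]; exact hdeg),
        Polynomial.degree_X_pow]
    let i0 : Fin (AdjoinRoot.powerBasis' hq).dim := ⟨0, by omega⟩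
    let ρ : AdjoinRoot q →ₗ[(B : Type u)] (B : Type u) := (AdjoinRoot.powerBasis' hq).basis.coord i0
    have hρ : ρ 1 = 1 := by
      have h1 : (AdjoinRoot.powerBasis' hq).basis i0 = 1 := by
        rw [PowerBasis.coe_basis]
        exact pow_zero _
      show (AdjoinRoot.powerBasis' hq).basis.repr 1 i0 = 1
      rw [← h1, Module.Basis.repr_self, Finsupp.single_eq_same]
    let ρ' : (ModuleCat.restrictScalars f.hom.toRingHom).obj (ModuleCat.of (B' : Type u) (B' : Type u)) ⟶
        ModuleCat.of (B : Type u) (B : Type u) :=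
      ModuleCat.ofHom (X := (ModuleCat.restrictScalars f.hom.toRingHom).obj (ModuleCat.of (B' : Type u) (B' : Type u)))
        { toFun := fun s => ρ s
          map_add' := fun s s' => map_add ρ s s'
          map_smul' := fun r s => by
            obtain ⟨c, rfl⟩ : ∃ c : AdjoinRoot q, c = s := ⟨s, rfl⟩
            show ρ (algebraMap (B : Type u) (AdjoinRoot q) r * c) = r • ρ c
            rw [← Algebra.smul_def, map_smul] }
    have h2 := congrArg (fun t => TensorProduct.lid (B : Type u) (El G B) (ρ'.hom.rTensor (El G B) t)) h'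
    calc y = (1 : (B : Type u)) • y := (one_smul _ y).symm
      _ = ρ (1 : AdjoinRoot q) • y := by rw [hρ]
      _ = ρ (1 : AdjoinRoot q) • z := h2
      _ = z := by rw [hρ, one_smul]
  refine hinj ?_
  have hb : f.hom b = (w : AdjoinRoot q) - (v : AdjoinRoot q) := by
    rw [hw, hv, add_sub_cancel_left]
    rfl
  have hsub : ∀ y z, φ B' (y - z) = φ B' y - φ B' z := fun y z =>
    eq_sub_of_add_eq (by rw [← hadd, sub_add_cancel])
  rw [← hnat, fmap_smul, fmap_smul, ← hnat, hb, sub_smul, sub_smul, hsub, hunit B' w, hunit B' v]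

end Groth.Agent.AdeqA
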