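import Groth.Prelude.Def_Adeq
import Mathlib.Algebra.Homology.ShortComplex.ExactFunctor
import Mathlib.Algebra.Homology.ShortComplex.ModuleCat

/-!
# Elementwise description of module-valued functors on algebras

`El F B` is the value `F(B)`, `fmap F f` the transition map, `app φ B` the component of a morphism.
`IsKer β ι` says that `ι` is a kernel of `β`, elementwise.
-/

set_option autoImplicit false

universe u

open CategoryTheory Opposite Limits TensorProduct

noncomputable section

namespace Groth.Agent.AdeqA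

variable {A : Type u} [CommRing A]

/-- The value `F(B)`. -/
abbrev El (F : Adeq.MVF A) (B : Adeq.Alg A) : Type (u + 1) := F.obj (Adeq.pt B)

/-- The transition map of a module-valued functor. -/
def fmap (F : Adeq.MVF A) {B B' : Adeq.Alg A} (f : B ⟶ B') : El F B →+ El F B' where
  toFun x := F.map (Adeq.ptHom f) x
  map_zero' := map_zero (F.map (Adeq.ptHom f)).hom
  map_add' := map_add (F.map (Adeq.ptHom f)).hom

theorem fmap_comp (F : Adeq.MVF A) {B B' B'' : Adeq.Alg A} (f : B ⟶ B') (g : B' ⟶ B'') (x : El F B) :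
    fmap F (f ≫ g) x = fmap F g (fmap F f x) :=
  F.map_comp_apply (Adeq.ptHom f) (Adeq.ptHom g) x

theorem fmap_id (F : Adeq.MVF A) (B : Adeq.Alg A) (x : El F B) : fmap F (𝟙 B) x = x := by
  show F.map (𝟙 (Adeq.pt B)) x = x
  rw [F.map_id]
  rfl

theorem fmap_smul (F : Adeq.MVF A) {B B' : Adeq.Alg A} (f : B ⟶ B') (b : B) (x : El F B) :
    fmap F f (b • x) = f.hom b • fmap F f x :=
  F.map_smul (Adeq.ptHom f) b x

/-- The component of a morphism of module-valued functors. -/
def app {F G : Adeq.MVF A} (φ : F ⟶ G) (B : Adeq.Alg A) : El F B →ₗ[(B : Type u)] El G B :=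
  (φ.app (Adeq.pt B)).hom

theorem app_fmap {F G : Adeq.MVF A} (φ : F ⟶ G) {B B' : Adeq.Alg A} (f : B ⟶ B') (x : El F B) :
    app φ B' (fmap F f x) = fmap G f (app φ B x) :=
  PresheafOfModules.naturality_apply φ (Adeq.ptHom f) x

theorem app_comp {F G H : Adeq.MVF A} (φ : F ⟶ G) (ψ : G ⟶ H) (B : Adeq.Alg A) (x : El F B) :
    app (φ ≫ ψ) B x = app ψ B (app φ B x) :=
  rfl

theorem app_id (F : Adeq.MVF A) (B : Adeq.Alg A) (x : El F B) : app (𝟙 F) B x = x :=
  rfl

theorem app_zero {F G : Adeq.MVF A} (B : Adeq.Alg A) (x : El F B) : app (0 : F ⟶ G) B x = 0 :=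
  rfl

theorem app_add {F G : Adeq.MVF A} (φ ψ : F ⟶ G) (B : Adeq.Alg A) (x : El F B) :
    app (φ + ψ) B x = app φ B x + app ψ B x :=
  rfl

theorem app_sub {F G : Adeq.MVF A} (φ ψ : F ⟶ G) (B : Adeq.Alg A) (x : El F B) :
    app (φ - ψ) B x = app φ B x - app ψ B x :=
  rfl

theorem hom_ext {F G : Adeq.MVF A} {φ ψ : F ⟶ G} (h : ∀ B x, app φ B x = app ψ B x) : φ = ψ :=
  PresheafOfModules.hom_ext fun X => ModuleCat.hom_ext (LinearMap.ext (h X.unop.unop))

/-- Build a morphism from natural linear maps. -/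
def mkHom {F G : Adeq.MVF A} (t : ∀ B : Adeq.Alg A, El F B →ₗ[(B : Type u)] El G B)
    (ht : ∀ ⦃B B' : Adeq.Alg A⦄ (f : B ⟶ B') (x : El F B), t B' (fmap F f x) = fmap G f (t B x)) :
    F ⟶ G :=
  PresheafOfModules.homMk
    { app X := AddCommGrpCat.ofHom (t X.unop.unop).toAddMonoidHom
      naturality {X Y} f := by
        ext x
        exact ht f.unop.unop x }
    (fun X r m => (t X.unop.unop).map_smul r m)

theorem app_mkHom {F G : Adeq.MVF A} (t : ∀ B : Adeq.Alg A, El F B →ₗ[(B : Type u)] El G B)
    (ht : ∀ ⦃B B' : Adeq.Alg A⦄ (f : B ⟶ B') (x : El F B), t B' (fmap F f x) = fmap G f (t B x))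
    (B : Adeq.Alg A) (x : El F B) : app (mkHom t ht) B x = t B x :=
  rfl

theorem mono_of_injective {F G : Adeq.MVF A} (φ : F ⟶ G) (h : ∀ B, Function.Injective (app φ B)) :
    Mono φ :=
  PresheafOfModules.mono_of_injective fun X => h X.unop.unop

theorem injective_of_mono {F G : Adeq.MVF A} (φ : F ⟶ G) [Mono φ] (B : Adeq.Alg A) :
    Function.Injective (app φ B) :=
  PresheafOfModules.injective_of_mono φ (Adeq.pt B)

theorem epi_of_surjective {F G : Adeq.MVF A} (φ : F ⟶ G) (h : ∀ B, Function.Surjective (app φ B)) :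
    Epi φ :=
  PresheafOfModules.epi_of_surjective fun X => h X.unop.unop

theorem surjective_of_epi {F G : Adeq.MVF A} (φ : F ⟶ G) [Epi φ] (B : Adeq.Alg A) :
    Function.Surjective (app φ B) :=
  PresheafOfModules.surjective_of_epi φ (Adeq.pt B)

/-! ### Elementwise exactness and kernels -/

theorem exists_of_exact {S : ShortComplex (Adeq.MVF A)} (hS : S.Exact) (B : Adeq.Alg A)
    (y : El S.X₂ B) (hy : app S.g B y = 0) : ∃ x : El S.X₁ B, app S.f B x = y :=
  haveI : (PresheafOfModules.evaluation.{u + 1} (Adeq.ringOf A) (Adeq.pt B)).Additive := ⟨rfl⟩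
  haveI : PreservesFiniteLimits (PresheafOfModules.evaluation.{u + 1} (Adeq.ringOf A) (Adeq.pt B)) :=
    PresheafOfModules.evaluation_preservesFiniteLimits.{u + 1} _ _
  haveI : PreservesFiniteColimits (PresheafOfModules.evaluation.{u + 1} (Adeq.ringOf A) (Adeq.pt B)) :=
    PresheafOfModules.Finite.evaluation_preservesFiniteColimits.{u + 1} _ _
  haveI : (PresheafOfModules.evaluation.{u + 1} (Adeq.ringOf A) (Adeq.pt B)).PreservesHomology :=
    inferInstance
  (ShortComplex.moduleCat_exact_iff _).1
    (hS.map (PresheafOfModules.evaluation.{u + 1} (Adeq.ringOf A) (Adeq.pt B))) y hy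

/-- `ι` is a kernel of `β`, elementwise. -/
structure IsKer {F G H : Adeq.MVF A} (β : G ⟶ H) (ι : F ⟶ G) : Prop where
  inj : ∀ B, Function.Injective (app ι B)
  zero : ∀ B (x : El F B), app β B (app ι B x) = 0
  exists_lift : ∀ B (y : El G B), app β B y = 0 → ∃ x : El F B, app ι B x = y

theorem isKer_kernel {G H : Adeq.MVF A} (β : G ⟶ H) : IsKer β (kernel.ι β) where
  inj B := injective_of_mono (kernel.ι β) B
  zero B x := by rw [← app_comp, kernel.condition, app_zero]
  exists_lift B y hy :=
    exists_of_exact (S := ShortComplex.mk (kernel.ι β) β (kernel.condition β))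
      (ShortComplex.exact_of_f_is_kernel _ (kernelIsKernel β)) B y hy

theorem IsKer.of_iso {F F' G H : Adeq.MVF A} {β : G ⟶ H} {ι : F ⟶ G} (h : IsKer β ι) (e : F' ≅ F) :
    IsKer β (e.hom ≫ ι) where
  inj B := fun x y hxy => injective_of_mono e.hom B (h.inj B hxy)
  zero B x := h.zero B (app e.hom B x)
  exists_lift B y hy := by
    obtain ⟨x, hx⟩ := h.exists_lift B y hy
    refine ⟨app e.inv B x, ?_⟩
    rw [app_comp, ← app_comp e.inv e.hom, e.inv_hom_id, app_id, hx]

theorem IsKer.nonempty_iso_kernel {F G H : Adeq.MVF A} {β : G ⟶ H} {ι : F ⟶ G} (h : IsKer β ι) :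
    Nonempty (F ≅ kernel β) := by
  have w : ι ≫ β = 0 := hom_ext fun B x => h.zero B x
  have : Mono (kernel.lift β ι w) := by
    haveI := mono_of_injective ι h.inj
    exact mono_of_mono_fac (kernel.lift_ι β ι w)
  have : Epi (kernel.lift β ι w) := by
    refine epi_of_surjective _ fun B z => ?_
    obtain ⟨x, hx⟩ := h.exists_lift B (app (kernel.ι β) B z) ((isKer_kernel β).zero B z)
    refine ⟨x, (isKer_kernel β).inj B ?_⟩
    rw [← app_comp, kernel.lift_ι, hx]
  haveI := isIso_of_mono_of_epi (kernel.lift β ι w)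
  exact ⟨asIso (kernel.lift β ι w)⟩

/-! ### The functors `underline M` -/

variable (A) in
/-- The functor `underline M`. -/
abbrev uO (M : ModuleCat.{u + 1} A) : Adeq.MVF A := (Adeq.underline A).obj M

variable (A) in
/-- The morphism `underline g`. -/
abbrev uM {M N : ModuleCat.{u + 1} A} (g : M ⟶ N) : uO A M ⟶ uO A N := (Adeq.underline A).map g

/-- An element of `B ⊗ M` as an element of the value of `underline M`. -/
def ofT {M : ModuleCat.{u + 1} A} {B : Adeq.Alg A} (z : (B : Type u) ⊗[A] M) : El (uO A M) B :=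
  z

/-- An element of the value of `underline M` as an element of `B ⊗ M`. -/
def toT {M : ModuleCat.{u + 1} A} {B : Adeq.Alg A} (x : El (uO A M) B) : (B : Type u) ⊗[A] M :=
  x

/-- `toT` as a linear equivalence. -/
def toTE (M : ModuleCat.{u + 1} A) (B : Adeq.Alg A) :
    El (uO A M) B ≃ₗ[(B : Type u)] (B : Type u) ⊗[A] M where
  toFun := toT
  invFun := ofT
  map_add' _ _ := rfl
  map_smul' _ _ := rfl
  left_inv _ := rfl
  right_inv _ := rfl

section ofT

variable {M : ModuleCat.{u + 1} A} {B : Adeq.Alg A}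

@[simp] theorem toT_ofT (z : (B : Type u) ⊗[A] M) : toT (ofT z) = z := rfl
@[simp] theorem ofT_toT (x : El (uO A M) B) : ofT (toT x) = x := rfl
theorem ofT_zero : ofT (0 : (B : Type u) ⊗[A] M) = 0 := rfl
theorem ofT_add (z w : (B : Type u) ⊗[A] M) : ofT (z + w) = ofT z + ofT w := rfl
theorem ofT_sub (z w : (B : Type u) ⊗[A] M) : ofT (z - w) = ofT z - ofT w := rfl
theorem ofT_smul (b : B) (z : (B : Type u) ⊗[A] M) : ofT (b • z) = b • ofT z := rfl
theorem toT_zero : toT (0 : El (uO A M) B) = 0 := rfl
theorem toT_add (x y : El (uO A M) B) : toT (x + y) = toT x + toT y := rfl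
theorem toT_sub (x y : El (uO A M) B) : toT (x - y) = toT x - toT y := rfl
theorem toT_smul (b : B) (x : El (uO A M) B) : toT (b • x) = b • toT x := rfl
theorem ofT_inj {z w : (B : Type u) ⊗[A] M} : ofT z = ofT w ↔ z = w := Iff.rfl
theorem ofT_eq_zero {z : (B : Type u) ⊗[A] M} : ofT z = 0 ↔ z = 0 := Iff.rfl

end ofT

theorem fmap_ofT {M : ModuleCat.{u + 1} A} {B B' : Adeq.Alg A} (f : B ⟶ B') (z : (B : Type u) ⊗[A] M) :
    fmap (uO A M) f (ofT z) = ofT (f.hom.toLinearMap.rTensor M z) :=
  rfl

theorem app_uM {M N : ModuleCat.{u + 1} A} (g : M ⟶ N) (B : Adeq.Alg A) (z : (B : Type u) ⊗[A] M) :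
    app (uM A g) B (ofT z) = ofT (g.hom.lTensor (B : Type u) z) := by
  induction z using TensorProduct.induction_on with
  | zero => rw [map_zero, ofT_zero, map_zero]; rfl
  | tmul b m => rfl
  | add x y hx hy => rw [map_add, ofT_add, map_add, hx, hy]; rfl

theorem el_induction {M : ModuleCat.{u + 1} A} {B : Adeq.Alg A} {p : El (uO A M) B → Prop}
    (h0 : p 0) (ht : ∀ (b : B) (m : M), p (ofT (b ⊗ₜ[A] m))) (ha : ∀ x y, p x → p y → p (x + y))
    (x : El (uO A M) B) : p x := by
  obtain ⟨z, rfl⟩ := (toTE M B).symm.surjective x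
  induction z using TensorProduct.induction_on with
  | zero => exact h0
  | tmul b m => exact ht b m
  | add x y hx hy => exact ha _ _ hx hy

theorem adequate_iff (F : Adeq.MVF A) :
    Adeq.adequate A F ↔ ∃ (M N : ModuleCat.{u + 1} A) (g : M ⟶ N) (ι : F ⟶ uO A M), IsKer (uM A g) ι := by
  constructor
  · rintro ⟨M, N, g, ⟨e⟩⟩
    exact ⟨M, N, g, e.hom ≫ kernel.ι _, (isKer_kernel _).of_iso e⟩
  · rintro ⟨M, N, g, ι, h⟩
    exact ⟨M, N, g, h.nonempty_iso_kernel⟩

theorem linAdequate_iff (F : Adeq.MVF A) :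
    Adeq.linAdequate A F ↔ ∃ (M N : ModuleCat.{u + 1} A) (g : M ⟶ N) (ι : F ⟶ uO A M),
      Module.Finite A M ∧ Module.Free A M ∧ Module.Finite A N ∧ Module.Free A N ∧ IsKer (uM A g) ι := by
  constructor
  · rintro ⟨M, N, g, h1, h2, h3, h4, ⟨e⟩⟩
    exact ⟨M, N, g, e.hom ≫ kernel.ι _, h1, h2, h3, h4, (isKer_kernel _).of_iso e⟩
  · rintro ⟨M, N, g, ι, h1, h2, h3, h4, h⟩
    exact ⟨M, N, g, h1, h2, h3, h4, h.nonempty_iso_kernel⟩

/-- The functor `underline` is full. -/
theorem exists_uM_eq {M Q : ModuleCat.{u + 1} A} (ψ : uO A M ⟶ uO A Q) : ∃ g : M ⟶ Q, uM A g = ψ := by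
  let A₀ : Adeq.Alg A := Adeq.algOf A A
  let k : M →ₗ[A] Q :=
    { toFun := fun m => TensorProduct.lid A Q (toT (app ψ A₀ (ofT ((1 : A) ⊗ₜ[A] m))))
      map_add' := fun x y => by rw [TensorProduct.tmul_add, ofT_add, map_add, toT_add, map_add]
      map_smul' := fun a m => by
        rw [TensorProduct.tmul_smul, ofT_smul (B := A₀) (a : A), (app ψ A₀).map_smul, toT_smul]
        exact map_smul (TensorProduct.lid A Q) a _ }
  refine ⟨ModuleCat.ofHom k, hom_ext fun B => el_induction (by simp only [map_zero]) (fun b m => ?_)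
    (fun x y hx hy => by simp only [map_add, hx, hy])⟩
  let i : A₀ ⟶ B := CommAlgCat.ofHom (Algebra.ofId A (B : Type u))
  have h1 : (ofT ((b : (B : Type u)) ⊗ₜ[A] m) : El (uO A M) B) =
      b • fmap (uO A M) i (ofT ((1 : A) ⊗ₜ[A] m)) := by
    rw [fmap_ofT, LinearMap.rTensor_tmul, ← ofT_smul, TensorProduct.smul_tmul']
    congr 2
    show b = b • algebraMap A B 1
    rw [map_one, smul_eq_mul, mul_one]
  have h2 : ∀ z : A ⊗[A] Q, i.hom.toLinearMap.rTensor Q z = (1 : (B : Type u)) ⊗ₜ[A] TensorProduct.lid A Q z := by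
    intro z
    induction z using TensorProduct.induction_on with
    | zero => simp only [map_zero, TensorProduct.tmul_zero]
    | tmul a q =>
      rw [LinearMap.rTensor_tmul, TensorProduct.lid_tmul, TensorProduct.tmul_smul, TensorProduct.smul_tmul']
      congr 1
      show algebraMap A B a = a • 1
      rw [Algebra.algebraMap_eq_smul_one]
    | add x y hx hy => simp only [map_add, hx, hy, TensorProduct.tmul_add]
  rw [app_uM, LinearMap.lTensor_tmul, h1, (app ψ B).map_smul, app_fmap,
    ← ofT_toT (app ψ A₀ (ofT ((1 : A) ⊗ₜ[A] m))), fmap_ofT, h2, ← ofT_smul, TensorProduct.smul_tmul',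
    smul_eq_mul, mul_one]
  rfl

/-! ### Coproducts -/

section Coproduct

open scoped DirectSum

variable {ι : Type (u + 1)} [DecidableEq ι] {L : ι → Adeq.MVF A}

/-- The map `⨁ L_i(B) → G(B)` of a family of morphisms. -/
def sumApp {G : Adeq.MVF A} (s : ∀ i, L i ⟶ G) (B : Adeq.Alg A) :
    (⨁ i, El (L i) B) →ₗ[(B : Type u)] El G B :=
  DirectSum.toModule _ _ _ fun i => app (s i) B

theorem sumApp_lof {G : Adeq.MVF A} (s : ∀ i, L i ⟶ G) (B : Adeq.Alg A) (i : ι) (x : El (L i) B) :
    sumApp s B (DirectSum.lof (B : Type u) ι (fun i => El (L i) B) i x) = app (s i) B x := by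
  unfold sumApp
  rw [DirectSum.toModule_lof]

/-- A cofan is a colimit if it is one at every algebra. -/
def isColimitOfBijective (c : Cofan L) (h : ∀ B, Function.Bijective (sumApp c.inj B)) : IsColimit c :=
  mkCofanColimit c
    (fun s => mkHom
      (fun B => (sumApp s.inj B).comp (LinearEquiv.ofBijective (sumApp c.inj B) (h B)).symm.toLinearMap)
      (fun B B' f x => by
        obtain ⟨z, rfl⟩ := (h B).2 x
        show sumApp s.inj B' ((LinearEquiv.ofBijective _ (h B')).symm (fmap c.pt f (sumApp c.inj B z))) =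
          fmap s.pt f (sumApp s.inj B ((LinearEquiv.ofBijective _ (h B)).symm (sumApp c.inj B z)))
        rw [show (LinearEquiv.ofBijective _ (h B)).symm (sumApp c.inj B z) = z from
          (LinearEquiv.ofBijective _ (h B)).symm_apply_apply z]
        induction z using DirectSum.induction_on with
        | zero => simp only [map_zero]
        | of i y =>
          rw [← DirectSum.lof_eq_of (B : Type u), sumApp_lof, sumApp_lof, ← app_fmap, ← app_fmap, ← sumApp_lof c.inj, ← sumApp_lof s.inj]
          exact congrArg (sumApp s.inj B') ((LinearEquiv.ofBijective _ (h B')).symm_apply_apply _)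
        | add x y hx hy => simp only [map_add, hx, hy]))
    (fun s i => hom_ext fun B x => by
      rw [app_comp, app_mkHom]
      show sumApp s.inj B ((LinearEquiv.ofBijective _ (h B)).symm (app (c.inj i) B x)) = _
      rw [← sumApp_lof c.inj, show (LinearEquiv.ofBijective _ (h B)).symm (sumApp c.inj B _) = _ from
        (LinearEquiv.ofBijective _ (h B)).symm_apply_apply _, sumApp_lof])
    (fun s m hm => hom_ext fun B x => by
      obtain ⟨z, rfl⟩ := (h B).2 x
      rw [app_mkHom]
      show app m B (sumApp c.inj B z) =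
        sumApp s.inj B ((LinearEquiv.ofBijective _ (h B)).symm (sumApp c.inj B z))
      rw [show (LinearEquiv.ofBijective _ (h B)).symm (sumApp c.inj B z) = z from
        (LinearEquiv.ofBijective _ (h B)).symm_apply_apply z]
      induction z using DirectSum.induction_on with
      | zero => simp only [map_zero]
      | of i y => rw [← DirectSum.lof_eq_of (B : Type u), sumApp_lof, sumApp_lof, ← app_comp, hm i]
      | add x y hx hy => simp only [map_add, hx, hy])

/-- The direct sum of `A`-modules in `ModuleCat`. -/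
abbrev sumMod (M : ι → ModuleCat.{u + 1} A) : ModuleCat.{u + 1} A := ModuleCat.of A (⨁ i, M i)

/-- The inclusion of a summand. -/
abbrev sumInj (M : ι → ModuleCat.{u + 1} A) (i : ι) : M i ⟶ sumMod M :=
  ModuleCat.ofHom (DirectSum.lof A ι (fun i => M i) i)

/-- The direct sum of a family of linear maps. -/
abbrev sumMap {M N : ι → ModuleCat.{u + 1} A} (g : ∀ i, M i ⟶ N i) : sumMod M ⟶ sumMod N :=
  ModuleCat.ofHom (DirectSum.lmap fun i => (g i).hom)

theorem directSumRight_lof {M : ι → ModuleCat.{u + 1} A} (B : Adeq.Alg A) (i : ι) (z : (B : Type u) ⊗[A] M i) :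
    TensorProduct.directSumRight A (B : Type u) (B : Type u) (fun i => M i)
        ((DirectSum.lof A ι (fun i => M i) i).lTensor (B : Type u) z) =
      DirectSum.lof (B : Type u) ι (fun i => (B : Type u) ⊗[A] M i) i z := by
  induction z using TensorProduct.induction_on with
  | zero => simp only [map_zero]
  | tmul b m => rw [LinearMap.lTensor_tmul, TensorProduct.directSumRight_tmul_lof]
  | add x y hx hy => simp only [map_add, hx, hy]

/-- A coproduct of kernels of maps between modules `underline M` is such a kernel. -/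
theorem exists_coproduct {M N : ι → ModuleCat.{u + 1} A} (g : ∀ i, M i ⟶ N i)
    (k : ∀ i, L i ⟶ uO A (M i)) (hk : ∀ i, IsKer (uM A (g i)) (k i)) :
    ∃ (c : Cofan L) (_ : IsColimit c) (K : c.pt ⟶ uO A (sumMod M)),
      IsKer (uM A (sumMap g)) K ∧ ∀ i, c.inj i ≫ K = k i ≫ uM A (sumInj M i) := by
  have hj : ∀ i, sumInj M i ≫ sumMap g = g i ≫ sumInj N i := fun i =>
    ModuleCat.hom_ext (LinearMap.ext fun m => by
      show DirectSum.lmap (fun i => (g i).hom) (DirectSum.lof A ι (fun i => M i) i m) =
        DirectSum.lof A ι (fun i => N i) i ((g i).hom m)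
      exact DirectSum.lmap_lof (fun i => (g i).hom) i m)
  have hz : ∀ i, (k i ≫ uM A (sumInj M i)) ≫ uM A (sumMap g) = 0 := fun i => by
    rw [Category.assoc, ← Functor.map_comp, hj, Functor.map_comp, ← Category.assoc,
      show k i ≫ uM A (g i) = 0 from hom_ext fun B x => (hk i).zero B x, zero_comp]
  let c : Cofan L := Cofan.mk (kernel (uM A (sumMap g))) fun i => kernel.lift _ _ (hz i)
  have hci : ∀ i, c.inj i ≫ kernel.ι (uM A (sumMap g)) = k i ≫ uM A (sumInj M i) := fun i =>
    kernel.lift_ι _ _ _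
  refine ⟨c, isColimitOfBijective c fun B => ?_, kernel.ι _, isKer_kernel _, hci⟩
  -- coordinates
  let T : El (uO A (sumMod M)) B → ⨁ i, (B : Type u) ⊗[A] M i := fun z =>
    TensorProduct.directSumRight A (B : Type u) (B : Type u) (fun i => M i) (toT z)
  have hT : ∀ z : ⨁ i, El (L i) B,
      T (app (kernel.ι (uM A (sumMap g))) B (sumApp c.inj B z)) =
        DirectSum.lmap (fun i => (toTE (M i) B).toLinearMap.comp (app (k i) B)) z := by
    intro z
    induction z using DirectSum.induction_on with
    | zero => simp only [map_zero, T, toT_zero]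
    | of i y =>
      rw [← DirectSum.lof_eq_of (B : Type u), sumApp_lof, ← app_comp, hci, app_comp, DirectSum.lmap_lof]
      show TensorProduct.directSumRight A (B : Type u) (B : Type u) (fun i => M i)
          (toT (app (uM A (sumInj M i)) B (ofT (toT (app (k i) B y))))) = _
      rw [app_uM, toT_ofT]
      exact directSumRight_lof B i _
    | add x y hx hy =>
      simp only [T, map_add, toT_add] at hx hy ⊢
      rw [hx, hy]
  have hinj : Function.Injective (DirectSum.lmap
      (fun i => (toTE (M i) B).toLinearMap.comp (app (k i) B))) :=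
    fun x y hxy => DFinsupp.ext fun i => (hk i).inj B (DFinsupp.ext_iff.1 hxy i)
  refine ⟨fun x y hxy => hinj ?_, fun z => ?_⟩
  · rw [← hT, ← hT, hxy]
  · -- surjectivity: split the coordinates
    obtain ⟨w, hw⟩ : ∃ w, ofT w = app (kernel.ι (uM A (sumMap g))) B z := ⟨toT _, rfl⟩
    have h0 := (isKer_kernel (uM A (sumMap g))).zero B z
    rw [← hw, app_uM, ofT_eq_zero] at h0
    have hcomm : ∀ w, TensorProduct.directSumRight A (B : Type u) (B : Type u) (fun i => N i)
        ((sumMap g).hom.lTensor (B : Type u) w) =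
        DirectSum.lmap (fun i => ((g i).hom.baseChange (B : Type u)))
          (TensorProduct.directSumRight A (B : Type u) (B : Type u) (fun i => M i) w) := by
      intro w
      induction w using TensorProduct.induction_on with
      | zero => simp only [map_zero]
      | tmul b m =>
        induction m using DirectSum.induction_on with
        | zero => simp only [TensorProduct.tmul_zero, map_zero]
        | of i y =>
          rw [← DirectSum.lof_eq_of A, LinearMap.lTensor_tmul, ModuleCat.hom_ofHom, DirectSum.lmap_lof,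
            TensorProduct.directSumRight_tmul_lof, TensorProduct.directSumRight_tmul_lof,
            DirectSum.lmap_lof, LinearMap.baseChange_tmul]
        | add x y hx hy => simp only [TensorProduct.tmul_add, map_add, hx, hy]
      | add x y hx hy => simp only [map_add, hx, hy]
    have h1 : DirectSum.lmap (fun i => ((g i).hom.baseChange (B : Type u)))
        (TensorProduct.directSumRight A (B : Type u) (B : Type u) (fun i => M i) w) = 0 := by
      rw [← hcomm, h0, map_zero]
    have h2 : ∀ i, ∃ x : El (L i) B, app (k i) B x =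
        ofT (TensorProduct.directSumRight A (B : Type u) (B : Type u) (fun i => M i) w i) := by
      intro i
      refine (hk i).exists_lift B _ ?_
      rw [app_uM, ofT_eq_zero]
      exact DFinsupp.ext_iff.1 h1 i
    choose x hx using h2
    classical
    refine ⟨∑ i ∈ DFinsupp.support (TensorProduct.directSumRight A (B : Type u) (B : Type u) (fun i => M i) w),
      DirectSum.lof (B : Type u) ι (fun i => El (L i) B) i (x i), (isKer_kernel _).inj B ?_⟩
    refine (toTE (sumMod M) B).injective
      ((TensorProduct.directSumRight A (B : Type u) (B : Type u) (fun i => M i)).injective ?_)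
    refine (hT _).trans ?_
    rw [← hw, map_sum]
    simp only [DirectSum.lmap_lof, LinearMap.comp_apply, hx]
    exact DFinsupp.sum_single

end Coproduct

end Groth.Agent.AdeqA
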