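import Groth.Agent.Lib.AdeqA.Split
import Mathlib.Algebra.Homology.ShortComplex.ShortExact

/-!
# Extensions of adequate functors
-/

set_option autoImplicit false

universe u

open CategoryTheory Opposite Limits TensorProduct

noncomputable section

namespace Groth.Agent.AdeqA

variable {A : Type u} [CommRing A]

theorem adequate_uO (M : ModuleCat.{u + 1} A) : Adeq.adequate A (uO A M) :=
  (adequate_iff _).2 ⟨M, M, 0, 𝟙 _,
    ⟨fun B => fun x y h => h, fun B x => by rw [uM_zero, app_zero], fun B y _ => ⟨y, rfl⟩⟩⟩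

theorem adequate_of_linAdequate {L : Adeq.MVF A} (h : Adeq.linAdequate A L) : Adeq.adequate A L := by
  obtain ⟨M, N, g, -, -, -, -, e⟩ := h
  exact ⟨M, N, g, e⟩

theorem biprod_el_eq {F G : Adeq.MVF A} (B : Adeq.Alg A) (z : El (F ⊞ G) B) :
    app biprod.inl B (app biprod.fst B z) + app biprod.inr B (app biprod.snd B z) = z := by
  rw [← app_comp, ← app_comp, ← app_add, biprod.total, app_id]

theorem adequate_biprod {F G : Adeq.MVF A} (hF : Adeq.adequate A F) (hG : Adeq.adequate A G) :
    Adeq.adequate A (F ⊞ G) := by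
  obtain ⟨M, N, f, k, hk⟩ := (adequate_iff F).1 hF
  obtain ⟨M', N', f', k', hk'⟩ := (adequate_iff G).1 hG
  let inl : M ⟶ ModuleCat.of A (M × M') := ModuleCat.ofHom (LinearMap.inl A M M')
  let inr : M' ⟶ ModuleCat.of A (M × M') := ModuleCat.ofHom (LinearMap.inr A M M')
  let fst : ModuleCat.of A (M × M') ⟶ M := ModuleCat.ofHom (LinearMap.fst A M M')
  let snd : ModuleCat.of A (M × M') ⟶ M' := ModuleCat.ofHom (LinearMap.snd A M M')
  have hlf : inl ≫ fst = 𝟙 M := ModuleCat.hom_ext (LinearMap.ext fun _ => rfl)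
  have hrf : inr ≫ fst = 0 := ModuleCat.hom_ext (LinearMap.ext fun _ => rfl)
  have hls : inl ≫ snd = 0 := ModuleCat.hom_ext (LinearMap.ext fun _ => rfl)
  have hrs : inr ≫ snd = 𝟙 M' := ModuleCat.hom_ext (LinearMap.ext fun _ => rfl)
  have htot : fst ≫ inl + snd ≫ inr = 𝟙 _ := ModuleCat.hom_ext (LinearMap.ext fun z =>
    show (z.1, (0 : M')) + ((0 : M), z.2) = z from Prod.ext (add_zero _) (zero_add _))
  let K : F ⊞ G ⟶ uO A (ModuleCat.of A (M × M')) :=
    biprod.desc (k ≫ uM A inl) (k' ≫ uM A inr)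
  have hfst : K ≫ uM A fst = biprod.fst ≫ k := by
    refine biprod.hom_ext' _ _ ?_ ?_
    · rw [biprod.inl_desc_assoc, Category.assoc, ← uM_comp, hlf, uM_id, Category.comp_id, biprod.inl_fst_assoc]
    · rw [biprod.inr_desc_assoc, Category.assoc, ← uM_comp, hrf, uM_zero, comp_zero, biprod.inr_fst_assoc,
        zero_comp]
  have hsnd : K ≫ uM A snd = biprod.snd ≫ k' := by
    refine biprod.hom_ext' _ _ ?_ ?_
    · rw [biprod.inl_desc_assoc, Category.assoc, ← uM_comp, hls, uM_zero, comp_zero, biprod.inl_snd_assoc,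
        zero_comp]
    · rw [biprod.inr_desc_assoc, Category.assoc, ← uM_comp, hrs, uM_id, Category.comp_id, biprod.inr_snd_assoc]
  refine (adequate_iff _).2 ⟨_, _, prodHom (fst ≫ f) (snd ≫ f'), K, ⟨fun B x y h => ?_, fun B x => ?_,
    fun B z hz => ?_⟩⟩
  · rw [← biprod_el_eq B x, ← biprod_el_eq B y]
    have h1 : app biprod.fst B x = app biprod.fst B y := hk.inj B (by
      rw [← app_comp, ← app_comp, ← hfst, app_comp, app_comp, h])
    have h2 : app biprod.snd B x = app biprod.snd B y := hk'.inj B (by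
      rw [← app_comp, ← app_comp, ← hsnd, app_comp, app_comp, h])
    rw [h1, h2]
  · rw [app_uM_prodHom_eq_zero, app_uM_uM, app_uM_uM, ← app_comp K, hfst, app_comp, hk.zero, ← app_comp K, hsnd,
      app_comp, hk'.zero]
    exact ⟨rfl, rfl⟩
  · rw [app_uM_prodHom_eq_zero, app_uM_uM, app_uM_uM] at hz
    obtain ⟨x, hx⟩ := hk.exists_lift B _ hz.1
    obtain ⟨y, hy⟩ := hk'.exists_lift B _ hz.2
    refine ⟨app biprod.inl B x + app biprod.inr B y, ?_⟩
    rw [map_add, ← app_comp, ← app_comp, biprod.inl_desc, biprod.inr_desc, app_comp, app_comp, hx, hy,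
      ← app_uM_uM, ← app_uM_uM, ← app_add, ← Functor.map_add, htot]
    exact congrArg (fun t => app t B z) (uM_id (ModuleCat.of A (M × M')))

theorem isKer_of_shortExact {S : ShortComplex (Adeq.MVF A)} (hS : S.ShortExact) : IsKer S.g S.f where
  inj B := by haveI := hS.mono_f; exact injective_of_mono S.f B
  zero B x := by rw [← app_comp, S.zero, app_zero]
  exists_lift B y hy := exists_of_exact hS.exact B y hy

theorem adequate_of_shortExact {S : ShortComplex (Adeq.MVF A)} (hS : S.ShortExact)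
    (h₁ : Adeq.adequate A S.X₁) (h₃ : Adeq.adequate A S.X₃) : Adeq.adequate A S.X₂ := by
  classical
  haveI := hS.epi_g
  have hi := isKer_of_shortExact hS
  obtain ⟨w, L, hL, c, hc, P, P', φ₀, k, π, hk, hπ⟩ := exists_cover h₃
  have hlift : ∀ i, ∃ l : L i ⟶ S.X₂, l ≫ S.g = c.inj i ≫ π := by
    intro i
    obtain ⟨M, N, g, j, h1, h2, h3, h4, hj⟩ := (linAdequate_iff _).1 (hL i)
    exact exists_lift hj hi (fun B => surjective_of_epi S.g B) h₁ _
  choose l hl using hlift
  let lD : c.pt ⟶ S.X₂ := Cofan.IsColimit.desc hc l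
  have hlD : lD ≫ S.g = π := Cofan.IsColimit.hom_ext hc _ _ fun i => by
    rw [← Category.assoc, Cofan.IsColimit.fac, hl]
  obtain ⟨ψ, hψ⟩ := hi.exists_hom (kernel.ι π ≫ lD) fun B x => by
    rw [← app_comp, Category.assoc, hlD, kernel.condition, app_zero]
  let δ : kernel π ⟶ S.X₁ ⊞ c.pt := ψ ≫ biprod.inl - kernel.ι π ≫ biprod.inr
  let d : S.X₁ ⊞ c.pt ⟶ S.X₂ := biprod.desc S.f lD
  have hd : δ ≫ d = 0 := by
    simp only [δ, d, Preadditive.sub_comp, Category.assoc, biprod.inl_desc, biprod.inr_desc, hψ, sub_self]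
  have hsurj : ∀ B, Function.Surjective (app (cokernel.desc δ d hd) B) := by
    intro B x
    obtain ⟨y, hy⟩ := hπ B (app S.g B x)
    obtain ⟨z, hz⟩ := hi.exists_lift B (x - app lD B y) (by
      rw [map_sub, ← app_comp lD, hlD, hy, sub_self])
    refine ⟨app (cokernel.π δ) B (app biprod.inl B z + app biprod.inr B y), ?_⟩
    rw [← app_comp, cokernel.π_desc, map_add, ← app_comp, ← app_comp, biprod.inl_desc, biprod.inr_desc, hz,
      sub_add_cancel]
  have hinj : ∀ B, Function.Injective (app (cokernel.desc δ d hd) B) := by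
    intro B
    rw [injective_iff_map_eq_zero]
    intro x hx
    obtain ⟨z, rfl⟩ := surjective_of_epi (cokernel.π δ) B x
    rw [← app_comp, cokernel.π_desc, ← biprod_el_eq B z, map_add, ← app_comp, ← app_comp biprod.inr,
      biprod.inl_desc, biprod.inr_desc] at hx
    have h0 : app π B (app biprod.snd B z) = 0 := by
      have h := congrArg (app S.g B) hx
      rwa [map_add, map_zero, hi.zero, zero_add, ← app_comp lD, hlD] at h
    obtain ⟨w', hw'⟩ := (isKer_kernel π).exists_lift B _ h0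
    have hψw : app biprod.fst B z = -app ψ B w' := hi.inj B (by
      rw [map_neg, ← app_comp ψ, hψ, app_comp, hw', eq_neg_iff_add_eq_zero, hx])
    have : z = -app δ B w' := by
      conv_lhs => rw [← biprod_el_eq B z, hψw, ← hw']
      rw [map_neg]
      simp only [δ, app_sub, app_comp]
      abel
    rw [this, map_neg, ← app_comp, cokernel.condition, app_zero, neg_zero]
  haveI := mono_of_injective _ hinj
  haveI := epi_of_surjective _ hsurj
  haveI := isIso_of_mono_of_epi (cokernel.desc δ d hd)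
  have hcpt : Adeq.adequate A c.pt := by
    obtain ⟨c', hc', h'⟩ := exists_adequate_coproduct L fun i => adequate_of_linAdequate (hL i)
    exact (Adeq.adequate A).prop_of_iso (hc'.coconePointUniqueUpToIso hc) h'
  exact (Adeq.adequate A).prop_of_iso (asIso (cokernel.desc δ d hd))
    (adequate_cokernel δ (adequate_kernel π hcpt h₃) (adequate_biprod h₁ hcpt))

theorem nonempty_splitting {S : ShortComplex (Adeq.MVF A)} (hS : S.ShortExact)
    (h₁ : Adeq.adequate A S.X₁) (h₃ : Adeq.linAdequate A S.X₃) : Nonempty S.Splitting := by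
  haveI := hS.epi_g
  haveI := hS.mono_f
  obtain ⟨M, N, g, j, h1, h2, h3, h4, hj⟩ := (linAdequate_iff _).1 h₃
  obtain ⟨s, hs⟩ := exists_lift hj (isKer_of_shortExact hS) (fun B => surjective_of_epi S.g B) h₁ (𝟙 S.X₃)
  exact ⟨ShortComplex.Splitting.ofExactOfSection S hS.exact s hs inferInstance⟩

end Groth.Agent.AdeqA
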