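import Groth.Agent.Lib.AdeqA.BaseChange
import Groth.Agent.Lib.AdeqA.Ext
import Mathlib.CategoryTheory.Limits.Shapes.Biproducts
import Mathlib.CategoryTheory.Preadditive.Biproducts
import Mathlib.RingTheory.Flat.FaithfullyFlat.Algebra

/-!
# Descent of adequacy along finite families, descent for adequate functors
-/

set_option autoImplicit false
set_option maxHeartbeats 400000

universe u w

open CategoryTheory Opposite Limits TensorProduct

noncomputable section

namespace Groth.Agent.AdeqA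

variable {A : Type u} [CommRing A]

attribute [local instance] Abelian.hasFiniteBiproducts

/-- Evaluation of morphisms at a point, additively. -/
def evHom {F G : Adeq.MVF A} (B : Adeq.Alg A) (x : El F B) : (F ⟶ G) →+ El G B where
  toFun φ := app φ B x
  map_zero' := app_zero B x
  map_add' φ ψ := app_add φ ψ B x

theorem app_sum {F G : Adeq.MVF A} {ι : Type w} (s : Finset ι) (φ : ι → (F ⟶ G)) (B : Adeq.Alg A) (x : El F B) :
    app (∑ i ∈ s, φ i) B x = ∑ i ∈ s, app (φ i) B x :=
  map_sum (evHom (G := G) B x) φ s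

theorem el_biproduct_ext {J : Type} [Finite J] {f : J → Adeq.MVF A} {B : Adeq.Alg A} {x y : El (⨁ f) B}
    (h : ∀ j, app (biproduct.π f j) B x = app (biproduct.π f j) B y) : x = y := by
  haveI := Fintype.ofFinite J
  have key : ∀ z : El (⨁ f) B, z = ∑ j, app (biproduct.ι f j) B (app (biproduct.π f j) B z) := fun z => by
    have h0 : ∑ j, biproduct.π f j ≫ biproduct.ι f j = 𝟙 (⨁ f) := biproduct.total
    have h1 := congrArg (fun φ => app φ B z) h0
    simp only [app_sum, app_comp, app_id] at h1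
    exact h1.symm
  rw [key x, key y]
  simp only [h]

theorem adequate_biproduct {J : Type} [Finite J] (f : J → Adeq.MVF A) (h : ∀ j, Adeq.adequate A (f j)) :
    Adeq.adequate A (⨁ f) := by
  obtain ⟨c, hc, hA⟩ := exists_adequate_coproduct (fun i : ULift.{u + 1} J => f i.down) fun i => h i.down
  refine (Adeq.adequate A).prop_of_iso ?_ hA
  exact
    { hom := Cofan.IsColimit.desc hc fun i => biproduct.ι f i.down
      inv := biproduct.desc fun j => c.inj ⟨j⟩
      hom_inv_id := by
        refine Cofan.IsColimit.hom_ext hc _ _ fun i => ?_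
        rw [← Category.assoc, Cofan.IsColimit.fac, biproduct.ι_desc, Category.comp_id]
      inv_hom_id := by
        refine biproduct.hom_ext' _ _ fun j => ?_
        rw [← Category.assoc, biproduct.ι_desc, Cofan.IsColimit.fac, Category.comp_id] }

/-- A functor which is the equalizer of two maps between finite sums of adequate functors is adequate. -/
theorem adequate_of_fork {J I : Type} [Finite J] [Finite I] (F : Adeq.MVF A) (G : J → Adeq.MVF A)
    (H : I → Adeq.MVF A) (aG : ∀ j, Adeq.adequate A (G j)) (aH : ∀ i, Adeq.adequate A (H i))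
    (η : ∀ j, F ⟶ G j) (l r : I → J) (a : ∀ i, G (l i) ⟶ H i) (b : ∀ i, G (r i) ⟶ H i)
    (hinj : ∀ (B : Adeq.Alg A) (x : El F B), (∀ j, app (η j) B x = 0) → x = 0)
    (hcomm : ∀ (B : Adeq.Alg A) (x : El F B) (i : I),
      app (a i) B (app (η (l i)) B x) = app (b i) B (app (η (r i)) B x))
    (hglue : ∀ (B : Adeq.Alg A) (y : ∀ j, El (G j) B),
      (∀ i, app (a i) B (y (l i)) = app (b i) B (y (r i))) → ∃ x, ∀ j, app (η j) B x = y j) :
    Adeq.adequate A F := by
  let d : (⨁ G) ⟶ ⨁ H := biproduct.lift fun i => biproduct.π G (l i) ≫ a i - biproduct.π G (r i) ≫ b i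
  have hη : ∀ (B : Adeq.Alg A) (x : El F B) j,
      app (biproduct.π G j) B (app (biproduct.lift η) B x) = app (η j) B x := fun B x j => by
    rw [← app_comp, biproduct.lift_π]
  have hd : ∀ (B : Adeq.Alg A) (z : El (⨁ G) B) (i : I), app (biproduct.π H i) B (app d B z) =
      app (a i) B (app (biproduct.π G (l i)) B z) - app (b i) B (app (biproduct.π G (r i)) B z) := fun B z i => by
    rw [← app_comp, biproduct.lift_π, app_sub, app_comp, app_comp]
  have hk : IsKer d (biproduct.lift η) := by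
    refine ⟨fun B x y h => ?_, fun B x => ?_, fun B z hz => ?_⟩
    · have h' : ∀ j, app (η j) B (x - y) = 0 := fun j => by
        rw [map_sub, sub_eq_zero, ← hη, ← hη, h]
      exact sub_eq_zero.mp (hinj B (x - y) h')
    · refine el_biproduct_ext fun i => ?_
      rw [map_zero, hd, hη, hη, sub_eq_zero]
      exact hcomm B x i
    · obtain ⟨x, hx⟩ := hglue B (fun j => app (biproduct.π G j) B z) fun i => by
        have h0 := hd B z i
        rw [hz, map_zero, eq_comm, sub_eq_zero] at h0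
        exact h0
      exact ⟨x, el_biproduct_ext fun j => by rw [hη, hx]⟩
  obtain ⟨e⟩ := hk.nonempty_iso_kernel
  exact (Adeq.adequate A).prop_of_iso e.symm
    (adequate_kernel d (adequate_biproduct G aG) (adequate_biproduct H aH))

section Family

variable {J : Type} [Finite J] (A' : J → Type u) [∀ j, CommRing (A' j)] [∀ j, Algebra A (A' j)]

/-- `B ↦ A' j ⊗ B` as an endofunctor of algebras. -/
abbrev rb (j : J) : Adeq.Alg A ⥤ Adeq.Alg A := Adeq.Alg.baseChange A (A' j) ⋙ Adeq.Alg.restr A (A' j)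

/-- `B ↦ F (A' j ⊗ B)`. -/
abbrev pr (F : Adeq.MVF A) (j : J) : Adeq.MVF A := (Adeq.push A (A' j)).obj ((Adeq.restr A (A' j)).obj F)

theorem adequate_of_descentFamily (F : Adeq.MVF A) (h₁ : ∀ j, Adeq.adequate (A' j) ((Adeq.restr A (A' j)).obj F))
    (hinj : ∀ (B : Adeq.Alg A) (x : El F B), (∀ j, fmap F (Adeq.Alg.unit A (A' j) B) x = 0) → x = 0)
    (hglue : ∀ (B : Adeq.Alg A) (y : ∀ j, El F ((rb A' j).obj B)),
      (∀ j k, fmap F (Adeq.Alg.unit A (A' k) ((rb A' j).obj B)) (y j) =
        fmap F ((rb A' k).map (Adeq.Alg.unit A (A' j) B)) (y k)) →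
      ∃ x : El F B, ∀ j, fmap F (Adeq.Alg.unit A (A' j) B) x = y j) :
    Adeq.adequate A F :=
  adequate_of_fork F (pr A' F) (fun p : J × J => pr A' (pr A' F p.2) p.1)
    (fun j => adequate_push (A' j) (h₁ j))
    (fun p => adequate_push (A' p.1) (adequate_restr (A' p.1) (adequate_push (A' p.2) (h₁ p.2))))
    (fun j => unitHom (A' j) F) Prod.fst Prod.snd
    (fun p => (Adeq.push A (A' p.1)).map ((Adeq.restr A (A' p.1)).map (unitHom (A' p.2) F)))
    (fun p => unitHom (A' p.1) (pr A' F p.2))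
    hinj
    (fun B x p => app_fmap (unitHom (A' p.2) F) (Adeq.Alg.unit A (A' p.1) B) x)
    (fun B y hy => hglue B y fun j k => hy (j, k))

end Family

/-! ### Faithfully flat descent for adequate functors -/

section Amitsur

variable (B : Type u) [CommRing B] [Algebra A B] (M : Type w) [AddCommGroup M] [Module A M]

/-- Multiplication of the two outer factors. -/
def mulOuter : B ⊗[A] ((B ⊗[A] B) ⊗[A] M) →ₗ[A] B ⊗[A] (B ⊗[A] M) :=
  ((LinearMap.mul' A B).rTensor (B ⊗[A] M)) ∘ₗ (TensorProduct.assoc A B B (B ⊗[A] M)).symm.toLinearMap ∘ₗ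
    (TensorProduct.assoc A B B M).toLinearMap.lTensor B

theorem mulOuter_tmul (a b c : B) (m : M) :
    mulOuter B M (a ⊗ₜ[A] ((b ⊗ₜ[A] c) ⊗ₜ[A] m)) = (a * b) ⊗ₜ[A] (c ⊗ₜ[A] m) := by
  simp [mulOuter]

theorem amitsur_exact [Module.FaithfullyFlat A B] :
    Function.Exact (TensorProduct.mk A B M 1)
      ((Algebra.TensorProduct.includeLeft : B →ₐ[A] B ⊗[A] B).toLinearMap.rTensor M -
        (Algebra.TensorProduct.includeRight : B →ₐ[A] B ⊗[A] B).toLinearMap.rTensor M) := by
  set δ := (Algebra.TensorProduct.includeLeft : B →ₐ[A] B ⊗[A] B).toLinearMap.rTensor M -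
      (Algebra.TensorProduct.includeRight : B →ₐ[A] B ⊗[A] B).toLinearMap.rTensor M
  let t : B ⊗[A] (B ⊗[A] M) →ₗ[A] B ⊗[A] M :=
    (LinearMap.mul' A B).rTensor M ∘ₗ (TensorProduct.assoc A B B M).symm.toLinearMap
  refine (Module.FaithfullyFlat.lTensor_exact_iff_exact A B _ _).1 fun y => ⟨fun hy => ?_, ?_⟩
  · refine ⟨t y, ?_⟩
    have h : LinearMap.id - (TensorProduct.mk A B M 1).lTensor B ∘ₗ t =
        -(mulOuter B M ∘ₗ δ.lTensor B) := by
      ext a b m
      simp [t, δ, mulOuter_tmul]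
    have h2 := LinearMap.congr_fun h y
    simp only [LinearMap.sub_apply, LinearMap.id_apply, LinearMap.neg_apply, LinearMap.comp_apply] at h2
    rw [hy, map_zero, neg_zero, sub_eq_zero] at h2
    exact h2.symm
  · rintro ⟨x, rfl⟩
    have h0 : δ ∘ₗ TensorProduct.mk A B M 1 = 0 := by ext m; simp [δ]
    rw [← LinearMap.comp_apply, ← LinearMap.lTensor_comp, h0, LinearMap.lTensor_zero, LinearMap.zero_apply]

end Amitsur

/-- Faithfully flat descent for adequate functors. -/
theorem exact_of_faithfullyFlat {F : Adeq.MVF A} (hF : Adeq.adequate A F) (B : Type u) [CommRing B] [Algebra A B]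
    [Module.FaithfullyFlat A B] :
    Function.Injective (fmap F (CommAlgCat.ofHom (Algebra.ofId A B) : Adeq.algOf A A ⟶ Adeq.algOf A B)) ∧
      ∀ y : El F (Adeq.algOf A B),
        fmap F (CommAlgCat.ofHom (Algebra.TensorProduct.includeLeft : B →ₐ[A] B ⊗[A] B) :
            Adeq.algOf A B ⟶ Adeq.algOf A (B ⊗[A] B)) y =
          fmap F (CommAlgCat.ofHom (Algebra.TensorProduct.includeRight : B →ₐ[A] B ⊗[A] B) :
            Adeq.algOf A B ⟶ Adeq.algOf A (B ⊗[A] B)) y →
        y ∈ Set.range (fmap F (CommAlgCat.ofHom (Algebra.ofId A B) : Adeq.algOf A A ⟶ Adeq.algOf A B)) := by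
  obtain ⟨M, N, g, ι, hι⟩ := (adequate_iff F).1 hF
  let e := (CommAlgCat.ofHom (Algebra.ofId A B) : Adeq.algOf A A ⟶ Adeq.algOf A B)
  have he : ∀ (Q : ModuleCat.{u + 1} A) (q : El (uO A Q) (Adeq.algOf A A)),
      toT (fmap (uO A Q) e q) = TensorProduct.mk A B Q 1 (TensorProduct.lid A Q (toT q)) := fun Q q => by
    obtain ⟨q', hq'⟩ := (TensorProduct.lid A Q).symm.surjective (toT q)
    rw [← hq', LinearEquiv.apply_symm_apply, ← ofT_toT q, ← hq', fmap_ofT, toT_ofT]
    show (Algebra.ofId A B).toLinearMap.rTensor Q ((TensorProduct.lid A Q).symm q') = _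
    simp
  have hinjQ : ∀ Q : ModuleCat.{u + 1} A, Function.Injective (fmap (uO A Q) e) := fun Q p q h => by
    have h' := congrArg toT h
    rw [he, he] at h'
    exact (TensorProduct.lid A Q).injective (Module.FaithfullyFlat.tensorProduct_mk_injective (A := A) (B := B) Q h')
  refine ⟨fun p q h => hι.inj _ (hinjQ M ?_), fun y hy => ?_⟩
  · rw [← app_fmap ι, ← app_fmap ι, h]
  have hy' := congrArg (app ι (Adeq.algOf A (B ⊗[A] B))) hy
  rw [app_fmap ι, app_fmap ι] at hy'
  obtain ⟨z, hz⟩ : ∃ z, app ι (Adeq.algOf A B) y = ofT z := ⟨toT (app ι (Adeq.algOf A B) y), rfl⟩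
  rw [hz, fmap_ofT, fmap_ofT, ofT_inj] at hy'
  obtain ⟨m, hm⟩ := (amitsur_exact B M z).1 (sub_eq_zero.2 hy')
  have hxy : fmap (uO A M) e (ofT ((TensorProduct.lid A M).symm m)) = app ι (Adeq.algOf A B) y := by
    rw [hz, ← ofT_toT (fmap (uO A M) e _), he, toT_ofT, LinearEquiv.apply_symm_apply, hm]
  have h0 : app (uM A g) (Adeq.algOf A A) (ofT ((TensorProduct.lid A M).symm m)) = 0 := by
    apply hinjQ N
    rw [← app_fmap (uM A g), hxy, hι.zero, map_zero]
  obtain ⟨x, hx⟩ := hι.exists_lift _ _ h0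
  exact ⟨x, hι.inj _ (by rw [app_fmap ι, hx]; exact hxy)⟩

end Groth.Agent.AdeqA
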