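import Groth.Agent.Lib.AdeqA.FamDescent
import Groth.Agent.Lib.AdeqA.DescFam

/-!
# Vanishing of the first Čech cohomology of adequate functors
-/

set_option autoImplicit false
set_option maxHeartbeats 400000

universe u

open CategoryTheory Limits TensorProduct

noncomputable section

namespace Groth.Agent.AdeqA

attribute [local instance] Abelian.hasFiniteBiproducts

variable {A : Type u} [CommRing A] {J : Type} [Fintype J] (A' : J → Type u) [∀ j, CommRing (A' j)]
  [∀ j, Algebra A (A' j)]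

/-- The map `a ↦ a ⊗ 1`. -/
def lMap (l : J) (T : Adeq.Alg A) : Adeq.algOf A (A' l) ⟶ (rb A' l).obj T :=
  ConcreteCategory.ofHom (C := Adeq.Alg A)
    (@AlgHom.mk A (A' l) ((A' l) ⊗[A] (T : Type u)) _ _ _ _
      ((algebraMap (A' l) ((A' l) ⊗[A] (T : Type u))).comp (algebraMap A (A' l))).toAlgebra
      (Algebra.TensorProduct.includeLeftRingHom : A' l →+* (A' l) ⊗[A] (T : Type u)) fun _ => rfl)

theorem lMap_natural (l : J) {T T' : Adeq.Alg A} (f : T ⟶ T') :
    lMap A' l T ≫ (rb A' l).map f = lMap A' l T' := by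
  refine ConcreteCategory.hom_ext _ _ fun a => ?_
  show Algebra.TensorProduct.map (AlgHom.id (A' l) (A' l)) f.hom (a ⊗ₜ[A] (1 : (T : Type u))) = a ⊗ₜ[A] 1
  rw [Algebra.TensorProduct.map_tmul, map_one]
  rfl

theorem unit_natural (l : J) {T T' : Adeq.Alg A} (f : T ⟶ T') :
    f ≫ Adeq.Alg.unit A (A' l) T' = Adeq.Alg.unit A (A' l) T ≫ (rb A' l).map f := by
  refine ConcreteCategory.hom_ext _ _ fun b => ?_
  show (1 : A' l) ⊗ₜ[A] f.hom b = Algebra.TensorProduct.map (AlgHom.id (A' l) (A' l)) f.hom ((1 : A' l) ⊗ₜ[A] b)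
  rw [Algebra.TensorProduct.map_tmul]
  rfl

theorem eq_zero_of_one_tmul [DecidableEq J] [Module.FaithfullyFlat A (∀ j, A' j)] {Z : Type (u + 1)}
    [AddCommGroup Z] [Module A Z] (z : Z) (h : ∀ l, (1 : A' l) ⊗ₜ[A] z = 0) : z = 0 := by
  apply Module.FaithfullyFlat.tensorProduct_mk_injective (A := A) (B := ∀ j, A' j) Z
  rw [map_zero]
  show (1 : ∀ j, A' j) ⊗ₜ[A] z = 0
  rw [show (1 : ∀ j, A' j) = ∑ l, Pi.single l (1 : A' l) from (Finset.univ_sum_single (1 : ∀ j, A' j)).symm,
    TensorProduct.sum_tmul]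
  refine Finset.sum_eq_zero fun l _ => ?_
  have := congrArg (TensorProduct.map (LinearMap.single A A' l) (LinearMap.id : Z →ₗ[A] Z)) (h l)
  rw [TensorProduct.map_tmul, map_zero] at this
  exact this

theorem one_tmul_eq_zero {B : Type u} [CommRing B] [Algebra A B] {X Y : Type u} [AddCommGroup X] [Module A X]
    [AddCommGroup Y] [Module A Y] {M : Type (u + 1)} [AddCommGroup M] [Module A M] (φ : X →ₗ[A] Y)
    (e : Y →ₗ[A] B ⊗[A] X) (he : ∀ x, e (φ x) = (1 : B) ⊗ₜ[A] x) {z : X ⊗[A] M} (h : φ.rTensor M z = 0) :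
    (1 : B) ⊗ₜ[A] z = 0 := by
  have key : ∀ z : X ⊗[A] M, TensorProduct.assoc A B X M (e.rTensor M (φ.rTensor M z)) = (1 : B) ⊗ₜ[A] z := fun z => by
    induction z using TensorProduct.induction_on with
    | zero => simp
    | tmul a m => simp [he]
    | add a b ha hb => simp only [map_add, ha, hb, TensorProduct.tmul_add]
  rw [← key z, h, map_zero, map_zero]

theorem injective_family [Module.FaithfullyFlat A (∀ j, A' j)] {F : Adeq.MVF A} (hF : Adeq.adequate A F)
    (T : Adeq.Alg A) (x : El F T) (hx : ∀ l, fmap F (Adeq.Alg.unit A (A' l) T) x = 0) : x = 0 := by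
  classical
  obtain ⟨M, N, g, ι, hι⟩ := (adequate_iff F).1 hF
  refine hι.inj T ?_
  rw [map_zero]
  refine congrArg ofT (@eq_zero_of_one_tmul A _ J _ A' _ _ _ _ ((T : Type u) ⊗[A] (M : Type (u + 1))) _ _
    (toT (app ι T x)) fun l => ?_)
  have h' := app_fmap ι (Adeq.Alg.unit A (A' l) T) x
  rw [hx, map_zero, ← ofT_toT (app ι T x), fmap_ofT] at h'
  let e : ((rb A' l).obj T : Type u) →ₗ[A] (A' l) ⊗[A] T :=
    { toFun := fun z => z
      map_add' := fun _ _ => rfl
      map_smul' := fun r z => by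
        refine (@Algebra.smul_def A ((rb A' l).obj T) _ _ ((rb A' l).obj T).algebra r z).trans ?_
        exact (Algebra.smul_def r (show (A' l) ⊗[A] (T : Type u) from z)).symm }
  exact one_tmul_eq_zero (B := A' l) _ e (fun _ => rfl) (congrArg toT h').symm

set_option maxHeartbeats 1600000 in
/-- A cocycle of a finite faithfully flat family with values in an adequate functor is a coboundary. -/
theorem exists_coboundary [Module.FaithfullyFlat A (∀ j, A' j)] {F : Adeq.MVF A} (hF : Adeq.adequate A F)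
    (c : ∀ (T : Adeq.Alg A) (j k : J), (Adeq.algOf A (A' j) ⟶ T) → (Adeq.algOf A (A' k) ⟶ T) → El F T)
    (hnat : ∀ {T T' : Adeq.Alg A} (h : T ⟶ T') (j k : J) (f : Adeq.algOf A (A' j) ⟶ T)
      (g : Adeq.algOf A (A' k) ⟶ T), fmap F h (c T j k f g) = c T' j k (f ≫ h) (g ≫ h))
    (hcoc : ∀ (T : Adeq.Alg A) (i j k : J) (f : Adeq.algOf A (A' i) ⟶ T) (g : Adeq.algOf A (A' j) ⟶ T)
      (h : Adeq.algOf A (A' k) ⟶ T), c T i j f g + c T j k g h = c T i k f h) :
    ∃ e : ∀ j, El F (Adeq.algOf A (A' j)), ∀ (T : Adeq.Alg A) (j k : J) (f : Adeq.algOf A (A' j) ⟶ T)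
      (g : Adeq.algOf A (A' k) ⟶ T), c T j k f g = fmap F g (e k) - fmap F f (e j) := by
  classical
  let G : J → Adeq.MVF A := fun l => pr A' F l
  let η : F ⟶ ⨁ G := biproduct.lift fun l => unitHom (A' l) F
  have hη : ∀ (T : Adeq.Alg A) (x : El F T) l,
      app (biproduct.π G l) T (app η T x) = fmap F (Adeq.Alg.unit A (A' l) T) x := fun T x l => by
    rw [← app_comp, biproduct.lift_π]
    rfl
  have hsd := exact_of_family (A := A) A' hF
  have aG : Adeq.adequate A (⨁ G) := adequate_biproduct G fun l => adequate_push (A' l) (adequate_restr (A' l) hF)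
  have aQ : Adeq.adequate A (cokernel η) := adequate_cokernel η hF aG
  -- elements with given components
  have mk : ∀ (T : Adeq.Alg A) (w : ∀ l, El (G l) T),
      ∃ z : El (⨁ G) T, ∀ l, app (biproduct.π G l) T z = w l := fun T w => by
    refine ⟨∑ l, app (biproduct.ι G l) T (w l), fun l => ?_⟩
    rw [map_sum, Finset.sum_eq_single l]
    · rw [← app_comp, biproduct.ι_π_self, app_id]
    · intro k _ hk
      rw [← app_comp, biproduct.ι_π_ne _ hk, app_zero]
    · intro hl
      exact absurd (Finset.mem_univ l) hl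
  choose γ hγ using fun (T : Adeq.Alg A) (j : J) (f : Adeq.algOf A (A' j) ⟶ T) =>
    mk T fun l => c ((rb A' l).obj T) l j (lMap A' l T) (f ≫ Adeq.Alg.unit A (A' l) T)
  have γnat : ∀ {T T' : Adeq.Alg A} (h : T ⟶ T') (j : J) (f : Adeq.algOf A (A' j) ⟶ T),
      fmap (⨁ G) h (γ T j f) = γ T' j (f ≫ h) := fun {T T'} h j f => by
    refine el_biproduct_ext fun l => ?_
    rw [app_fmap, hγ, hγ]
    show fmap F ((rb A' l).map h) _ = _
    rw [hnat, lMap_natural, Category.assoc, Category.assoc, ← unit_natural]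
  have γsub : ∀ (T : Adeq.Alg A) (j k : J) (f : Adeq.algOf A (A' j) ⟶ T) (g : Adeq.algOf A (A' k) ⟶ T),
      γ T k g - γ T j f = app η T (c T j k f g) := fun T j k f g => by
    refine el_biproduct_ext fun l => ?_
    rw [map_sub, hγ, hγ, hη, hnat]
    refine @sub_eq_of_eq_add' (El F ((rb A' l).obj T)) _ _ _ _ ?_
    exact (hcoc ((rb A' l).obj T) l j k (lMap A' l T) (f ≫ Adeq.Alg.unit A (A' l) T)
      (g ≫ Adeq.Alg.unit A (A' l) T)).symm
  -- descend to the base
  obtain ⟨q, hq⟩ := (exact_of_family A' aQ).2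
    (fun j => app (cokernel.π η) (Adeq.algOf A (A' j)) (γ (Adeq.algOf A (A' j)) j (𝟙 _))) fun j k => by
      rw [← app_fmap, ← app_fmap, γnat, γnat, Category.id_comp, Category.id_comp, ← sub_eq_zero, ← map_sub,
        ← neg_sub, map_neg, γsub, ← app_comp, cokernel.condition, app_zero, neg_zero]
  obtain ⟨g₀, hg₀⟩ := surjective_of_epi (cokernel.π η) (Adeq.algOf A A) q
  have hk : ∀ j, ∃ e : El F (Adeq.algOf A (A' j)), app η (Adeq.algOf A (A' j)) e = γ (Adeq.algOf A (A' j)) j (𝟙 _) -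
      fmap (⨁ G) (CommAlgCat.ofHom (Algebra.ofId A (A' j)) : Adeq.algOf A A ⟶ Adeq.algOf A (A' j)) g₀ := fun j => by
    refine exists_of_exact (ShortComplex.exact_cokernel η) _ _ ?_
    show app (cokernel.π η) (Adeq.algOf A (A' j)) _ = 0
    rw [map_sub, app_fmap, hg₀, hq, sub_self]
  choose e he using hk
  refine ⟨e, fun T j k f g => ?_⟩
  have hinj : ∀ x : El F T, app η T x = 0 → x = 0 := fun x hx => by
    obtain ⟨M, N, φ, ι, hι⟩ := (adequate_iff F).1 hF
    exact injective_family A' hF T x fun l => by rw [← hη, hx, map_zero]; rfl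
  refine sub_eq_zero.1 (hinj _ ?_)
  rw [map_sub, map_sub, ← γsub, app_fmap η g, app_fmap η f, he, he, map_sub, map_sub, γnat, γnat,
    ← fmap_comp, ← fmap_comp,
    show (CommAlgCat.ofHom (Algebra.ofId A (A' k)) : Adeq.algOf A A ⟶ _) ≫ g =
      (CommAlgCat.ofHom (Algebra.ofId A (A' j)) : Adeq.algOf A A ⟶ _) ≫ f from
      CommAlgCat.hom_ext (Subsingleton.elim _ _), Category.id_comp, Category.id_comp]
  abel

end Groth.Agent.AdeqA
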