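import Groth.Agent.Lib.AdeqA.SiteColim
import Groth.Agent.Lib.AdeqA.CechFam
import Groth.Agent.Lib.AdeqA.Ext

/-!
# Extensions of adequate modules on the big fppf site
-/

set_option autoImplicit false
set_option maxHeartbeats 800000

universe u

open CategoryTheory CategoryTheory.Limits AlgebraicGeometry Opposite

noncomputable section

namespace Groth.Agent.AdeqA

variable {S : Scheme.{u}}

/-- Sections of the target of an epimorphism of modules lift locally. -/
theorem imageSieve_mem_of_epi {M N : BigSite.Mod Scheme.fppfPrecoverage S} (g : M ⟶ N) [Epi g] {U : Over S}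
    (s : N.val.presheaf.obj (op U)) :
    Presheaf.imageSieve ((PresheafOfModules.toPresheaf _).map g.val) s ∈
      QuotSh.J Scheme.fppfPrecoverage S U := by
  let F := SheafOfModules.forget (BigSite.ORing Scheme.fppfPrecoverage S)
  let sh := PresheafOfModules.sheafification.{u + 1} (𝟙 (BigSite.ORing Scheme.fppfPrecoverage S).obj)
  haveI : sh.IsLeftAdjoint := inferInstance
  let e := forgetShIso S
  haveI : Epi (sh.map (F.map g)) := by
    have h : sh.map (F.map g) = e.hom.app M ≫ g ≫ e.inv.app N := by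
      have h' := e.hom.naturality g
      dsimp at h'
      rw [← Category.assoc, ← h', Category.assoc]
      simp [F, sh]
    rw [h]
    haveI h1 : Epi (e.hom.app M) := (inferInstance : Epi ((e.app M).hom))
    haveI h2 : Epi (e.inv.app N) := (inferInstance : Epi ((e.app N).inv))
    haveI h3 := @epi_comp _ _ _ _ _ g inferInstance (e.inv.app N) h2
    exact @epi_comp _ _ _ _ _ _ h1 _ h3
  have hπ : sh.map (cokernel.π (F.map g)) = 0 := by
    rw [← cancel_epi (sh.map (F.map g)), ← sh.map_comp, cokernel.condition, Functor.map_zero, comp_zero]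
  have hz : IsZero (sh.obj (cokernel (F.map g))) := by
    haveI : Epi (0 : sh.obj (F.obj N) ⟶ sh.obj (cokernel (F.map g))) := by
      rw [← hπ]
      infer_instance
    exact IsZero.of_epi_zero (sh.obj (F.obj N)) _
  let q : (cokernel (F.map g)).presheaf.obj (op U) := (cokernel.π (F.map g)).app (op U) s
  have hq : (CategoryTheory.toSheafify (QuotSh.J Scheme.fppfPrecoverage S) (cokernel (F.map g)).presheaf).app (op U) q =
      (CategoryTheory.toSheafify (QuotSh.J Scheme.fppfPrecoverage S) (cokernel (F.map g)).presheaf).app (op U) 0 := by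
    have h0 : ∀ z : (sh.obj (cokernel (F.map g))).val.presheaf.obj (op U), z = 0 := fun z =>
      congrArg (fun φ : sh.obj (cokernel (F.map g)) ⟶ sh.obj (cokernel (F.map g)) => φ.val.app (op U) z)
        (hz.eq_of_src (𝟙 _) 0)
    exact (h0 _).trans (h0 _).symm
  refine GrothendieckTopology.superset_covering _ (fun V v hv => ?_)
    (Presheaf.equalizerSieve_mem (QuotSh.J Scheme.fppfPrecoverage S)
      (CategoryTheory.toSheafify (QuotSh.J Scheme.fppfPrecoverage S) (cokernel (F.map g)).presheaf) q 0 hq)
  have hex : ((ShortComplex.mk (F.map g) (cokernel.π (F.map g)) (cokernel.condition _)).map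
      (PresheafOfModules.evaluation (BigSite.ORing Scheme.fppfPrecoverage S).obj (op V))).Exact :=
    (ShortComplex.exact_cokernel (F.map g)).map _
  have h1 : (cokernel.π (F.map g)).app (op V) (N.val.presheaf.map v.op s) = 0 :=
    (PresheafOfModules.naturality_apply (cokernel.π (F.map g)) v.op s).trans
      (hv.trans (map_zero ((cokernel (F.map g)).presheaf.map v.op).hom))
  obtain ⟨x, hx⟩ := (ShortComplex.moduleCat_exact_iff _).1 hex _ h1
  exact ⟨x, hx⟩

variable (C : ShortComplex (BigSite.Mod Scheme.fppfPrecoverage S)) (hC : C.ShortExact)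

set_option backward.isDefEq.respectTransparency.types false in
include hC in
theorem surjective_of_shortExact (h₁ : Adeq.adequateMod Scheme.fppfPrecoverage S C.X₁) (R : CommRingCat.{u})
    (a : Spec R ⟶ S) :
    Function.Surjective (app ((Adeq.toMVF Scheme.fppfPrecoverage a).map C.g) (Adeq.algOf R R)) := by
  haveI : BigSite.OSh (Scheme.precoverage (@Flat ⊓ @LocallyOfFinitePresentation : MorphismProperty Scheme.{u})) := inferInstanceAs (BigSite.OSh Scheme.fppfPrecoverage.{u})
  haveI : (@Flat ⊓ @LocallyOfFinitePresentation : MorphismProperty Scheme.{u}).IsMultiplicative :=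
    { id_mem := fun _ => ⟨inferInstance, inferInstance⟩
      comp_mem := fun f g hf hg => by
        haveI := hf.1; haveI := hf.2; haveI := hg.1; haveI := hg.2
        exact ⟨inferInstance, inferInstance⟩ }
  intro s
  haveI := hC.epi_g
  haveI := hC.mono_f
  obtain ⟨J, _, _, A', _, _, hff, hcov, hT⟩ := mem_fam
    (@Flat ⊓ @LocallyOfFinitePresentation : MorphismProperty Scheme.{u})
    (fun _ _ f ⟨_, _⟩ => f.isOpenMap) (fun _ _ _ _ => ⟨inferInstance, inferInstance⟩) (fun _ _ _ h => h.1) a _
    (imageSieve_mem_of_epi C.g (U := sOb a (Adeq.algOf R R)) s)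
  choose y₀ hy using hT
  let T := Adeq.toMVF Scheme.fppfPrecoverage a
  let i : ∀ j, Adeq.algOf R R ⟶ Adeq.algOf R (A' j) := fun j => CommAlgCat.ofHom (Algebra.ofId R (A' j))
  let y : ∀ j, El (T.obj C.X₂) (Adeq.algOf R (A' j)) := y₀
  have hy' : ∀ j, app (T.map C.g) (Adeq.algOf R (A' j)) (y j) = fmap (T.obj C.X₃) (i j) s := hy
  haveI : Mono (T.map C.f) := inferInstance
  have hex : (C.map T).Exact := hC.exact.map_of_mono_of_preservesKernel T inferInstance inferInstance
  have hcex : ∀ (B : Adeq.Alg R) (j k : J) (f : Adeq.algOf R (A' j) ⟶ B) (g : Adeq.algOf R (A' k) ⟶ B),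
      ∃ x : El (T.obj C.X₁) B, app (T.map C.f) B x = fmap (T.obj C.X₂) g (y k) - fmap (T.obj C.X₂) f (y j) :=
    fun B j k f g => by
      refine exists_of_exact hex B _ ?_
      show app (T.map C.g) B _ = 0
      rw [map_sub, app_fmap, app_fmap, hy', hy', ← fmap_comp, ← fmap_comp,
        show i k ≫ g = i j ≫ f from CommAlgCat.hom_ext (Subsingleton.elim _ _), sub_self]
  choose c hc using hcex
  have hinj : ∀ B, Function.Injective (app (T.map C.f) B) := fun B => injective_of_mono _ B
  obtain ⟨e, he⟩ := exists_coboundary A' (adequate_toMVF_fppf h₁ R a) c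
    (fun {B B'} h j k f g => hinj B' (by
      rw [app_fmap, hc, hc, map_sub, ← fmap_comp, ← fmap_comp]))
    (fun B i j k f g h => hinj B (by rw [map_add, hc, hc, hc]; abel))
  have hz : ∀ (B : Adeq.Alg R) (j k : J) (f : Adeq.algOf R (A' j) ⟶ B) (g : Adeq.algOf R (A' k) ⟶ B),
      fmap (T.obj C.X₂) f (y j - app (T.map C.f) (Adeq.algOf R (A' j)) (e j)) =
        fmap (T.obj C.X₂) g (y k - app (T.map C.f) (Adeq.algOf R (A' k)) (e k)) := fun B j k f g => by
    have h := congrArg (app (T.map C.f) B) (he B j k f g)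
    rw [hc, map_sub, app_fmap, app_fmap] at h
    rw [map_sub, map_sub, sub_eq_sub_iff_sub_eq_sub, ← neg_sub (fmap (T.obj C.X₂) g (y k)), h, neg_sub]
  have hcov' : Sieve.ofArrows (fun j => Spec (CommRingCat.of (A' j)))
      (fun j => Spec.map (CommRingCat.ofHom (algebraMap R (A' j)))) ∈
        Scheme.fppfPrecoverage.toGrothendieck (Spec R) := by
    have h := hcov
    rw [GrothendieckTopology.mem_over_iff, Sieve.overEquiv_ofArrows] at h
    exact h
  obtain ⟨x, hx⟩ := (sheaf_condition C.X₂ a A' hcov' (Adeq.algOf R R)).2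
    (fun j => fmap (T.obj C.X₂) (lMap A' j (Adeq.algOf R R))
      (y j - app (T.map C.f) (Adeq.algOf R (A' j)) (e j)))
    fun j k => by
      rw [← fmap_comp, ← fmap_comp]
      exact hz _ j k _ _
  refine ⟨x, sub_eq_zero.1 ((sheaf_condition C.X₃ a A' hcov' (Adeq.algOf R R)).1 _ fun j => ?_)⟩
  rw [map_sub, ← app_fmap (T.map C.g), hx, app_fmap, map_sub, hy', ← app_comp, ← T.map_comp, C.zero, T.map_zero,
    app_zero, sub_zero, ← fmap_comp,
    show i j ≫ lMap A' j (Adeq.algOf R R) = Adeq.Alg.unit R (A' j) (Adeq.algOf R R) from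
      CommAlgCat.hom_ext (Subsingleton.elim _ _)]
  exact sub_self _

include hC in
theorem shortExact_toMVF (h₁ : Adeq.adequateMod Scheme.fppfPrecoverage S C.X₁) (R : CommRingCat.{u})
    (a : Spec R ⟶ S) : (C.map (Adeq.toMVF Scheme.fppfPrecoverage a)).ShortExact := by
  haveI := hC.mono_f
  have hm : Mono ((Adeq.toMVF Scheme.fppfPrecoverage a).map C.f) := inferInstance
  refine ShortComplex.ShortExact.mk' (hC.exact.map_of_mono_of_preservesKernel _ inferInstance inferInstance)
    hm (epi_of_surjective _ fun B s => ?_)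
  obtain ⟨R', a', ⟨e⟩⟩ := exists_sOb_iso a B
  obtain ⟨x, hx⟩ := surjective_of_shortExact C hC h₁ R' a' (C.X₃.val.presheaf.map e.inv.op s)
  refine ⟨C.X₂.val.presheaf.map e.hom.op x, ?_⟩
  refine (PresheafOfModules.naturality_apply C.g.val e.hom.op x).trans ?_
  refine (congrArg (C.X₃.val.presheaf.map e.hom.op) hx).trans ?_
  exact ConcreteCategory.congr_hom
    ((C.X₃.val.presheaf.map_comp e.inv.op e.hom.op).symm.trans
      ((congrArg C.X₃.val.presheaf.map ((op_comp).symm.trans ((congrArg Quiver.Hom.op e.hom_inv_id).trans op_id))).trans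
        (C.X₃.val.presheaf.map_id _))) s

include hC in
theorem adequateMod_of_shortExact (h₁ : Adeq.adequateMod Scheme.fppfPrecoverage S C.X₁)
    (h₃ : Adeq.adequateMod Scheme.fppfPrecoverage S C.X₃) : Adeq.adequateMod Scheme.fppfPrecoverage S C.X₂ :=
  adequateMod_fppf_of_forall fun R a => adequate_of_shortExact (shortExact_toMVF C hC h₁ R a)
    (adequate_toMVF_fppf h₁ R a) (adequate_toMVF_fppf h₃ R a)

end Groth.Agent.AdeqA
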