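import Groth.Agent.Lib.AdeqA.CechSite
import Groth.Agent.Lib.AdeqA.SiteExt
import Groth.Agent.Lib.BigSite16.Res
import Mathlib.CategoryTheory.Sites.EpiMono

/-!
# Sheaves with exact Čech complexes on affines have no higher cohomology there
-/

set_option autoImplicit false
set_option maxHeartbeats 800000

universe u

open CategoryTheory CategoryTheory.Limits AlgebraicGeometry Opposite TensorProduct Abelian

set_option backward.isDefEq.respectTransparency false
set_option backward.isDefEq.respectTransparency.types false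

noncomputable section

namespace Groth.Agent.AdeqA

variable {S : Scheme.{u}}

/-- The covering families of a point. -/
abbrev IsCovAlg {R : CommRingCat.{u}} (B : Type u) [CommRing B] [Algebra R B] : Prop :=
  Sieve.ofArrows (fun _ : PUnit.{1} => Spec (CommRingCat.of B))
    (fun _ => Spec.map (CommRingCat.ofHom (algebraMap R B))) ∈ Scheme.fppfPrecoverage.toGrothendieck (Spec R)

/-- The restriction of a sheaf to the schemes over an affine scheme. -/
abbrev resP {R : CommRingCat.{u}} (a : Spec R ⟶ S) (F : BigSite.Ab Scheme.fppfPrecoverage S) :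
    (Over (Spec R))ᵒᵖ ⥤ AddCommGrpCat.{u + 1} :=
  (Over.map a).op ⋙ F.obj

/-- The Čech complexes of affine coverings of affine objects are exact in positive degrees. -/
def CechAcyc (F : BigSite.Ab Scheme.fppfPrecoverage S) : Prop :=
  ∀ (R : CommRingCat.{u}) (a : Spec R ⟶ S) (B : Type u) [CommRing B] [Algebra R B] [Module.FaithfullyFlat R B],
    IsCovAlg (R := R) B → ∀ n, (cechOne (uB B) (resP a F)).ExactAt (n + 1)

theorem injective_obj (I : BigSite.Ab Scheme.fppfPrecoverage S) [Injective I] : Injective I.obj :=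
  Injective.injective_of_adjoint (sheafificationAdjunction (QuotSh.J Scheme.fppfPrecoverage S) AddCommGrpCat.{u + 1}) I

theorem cechAcyc_of_injective (I : BigSite.Ab Scheme.fppfPrecoverage S) [Injective I] : CechAcyc I := by
  intro R a B _ _ _ hB n
  let I' := (BigSite.pullBig Scheme.fppfPrecoverage a AddCommGrpCat.{u + 1}).obj I
  haveI : Injective I' := Groth.Agent.BigSite16.injective_pullBig a Scheme.fppfPrecoverage I
  haveI : Injective (resP a I) := injective_obj I'
  let η : resP a I ⟶ prodU (uB B) (resP a I) :=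
    { app := fun V => (resP a I).map (prod.fst : V.unop ⨯ uB B ⟶ V.unop).op
      naturality := fun V W g => by
        show (resP a I).map g ≫ (resP a I).map _ = (resP a I).map _ ≫ (resP a I).map _
        rw [← Functor.map_comp, ← Functor.map_comp]
        refine congrArg (resP a I).map (Quiver.Hom.unop_inj ?_)
        show prod.fst ≫ g.unop = prod.map g.unop (𝟙 _) ≫ prod.fst
        rw [prod.map_fst] }
  haveI : ∀ V, Mono (η.app V) := fun V => by
    rw [AddCommGrpCat.mono_iff_injective]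
    intro x y hxy
    have hF := (isSheaf_iff_isSheaf_of_type _ _).1
      ((Presheaf.isSheaf_iff_isSheaf_forget _ I'.obj (forget AddCommGrpCat.{u + 1})).1 I'.property)
    have hcov : Sieve.ofArrows (fun _ : PUnit.{1} => V.unop ⨯ uB (R := R) B) (fun _ => prod.fst) ∈
        QuotSh.J Scheme.fppfPrecoverage (Spec R) V.unop := by
      rw [GrothendieckTopology.mem_over_iff, Sieve.overEquiv_ofArrows]
      refine GrothendieckTopology.superset_covering _ ?_
        (Scheme.fppfPrecoverage.toGrothendieck.pullback_stable V.unop.hom hB)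
      intro Z g hg
      obtain ⟨_, c, _, ⟨⟨⟩⟩, hc⟩ := hg
      refine ⟨_, (prod.lift (Over.homMk g rfl) (Over.homMk (U := Over.mk (g ≫ V.unop.hom)) (V := uB (R := R) B) c hc) :
        Over.mk (g ≫ V.unop.hom) ⟶ V.unop ⨯ uB (R := R) B).left, _, Presieve.ofArrows.mk PUnit.unit, ?_⟩
      exact congrArg CommaMorphism.left (prod.lift_fst (Over.homMk g rfl :
        Over.mk (g ≫ V.unop.hom) ⟶ V.unop) (Over.homMk (U := Over.mk (g ≫ V.unop.hom)) (V := uB (R := R) B) c hc))
    refine (hF _ hcov).isSeparatedFor.ext fun Z g hg => ?_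
    obtain ⟨_, c, _, ⟨⟨⟩⟩, rfl⟩ := hg
    rw [op_comp, Functor.map_comp]
    exact congrArg (fun z => ((I'.obj ⋙ forget AddCommGrpCat.{u + 1}).map c.op) z) hxy
  haveI : Mono η := NatTrans.mono_of_mono_app η
  let r : prodU (uB B) (resP a I) ⟶ resP a I := Injective.factorThru (𝟙 _) η
  have hr : η ≫ r = 𝟙 _ := Injective.comp_factorThru _ _
  rw [HomologicalComplex.exactAt_iff_isZero_homology]
  have hz := (exactAt_prodU (uB B) (resP a I) n).isZero_homology
  let C := cechComplexFunctor (A := AddCommGrpCat.{u + 1}) (fun _ : PUnit.{u + 2} => uB (R := R) B)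
  haveI : Mono (HomologicalComplex.homologyMap (C.map η) (n + 1)) :=
    mono_of_mono_fac (f := HomologicalComplex.homologyMap (C.map r) (n + 1)) (h := 𝟙 _) (by
      rw [← HomologicalComplex.homologyMap_comp, ← C.map_comp, hr, C.map_id, HomologicalComplex.homologyMap_id])
  exact IsZero.of_mono (HomologicalComplex.homologyMap (C.map η) (n + 1)) hz

theorem cechAcyc_pullBig {T : Scheme.{u}} (g : T ⟶ S) {F : BigSite.Ab Scheme.fppfPrecoverage S} (hF : CechAcyc F) :
    CechAcyc ((BigSite.pullBig Scheme.fppfPrecoverage g AddCommGrpCat.{u + 1}).obj F) := by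
  intro R a B _ _ _ hB n
  let ν : resP (a ≫ g) F ⟶ resP a ((BigSite.pullBig Scheme.fppfPrecoverage g AddCommGrpCat.{u + 1}).obj F) :=
    Functor.whiskerRight (NatTrans.op (Over.mapComp a g).inv) F.obj
  haveI := isIso_cech_map (uB B) ν fun m => inferInstanceAs (IsIso (F.obj.map _))
  exact HomologicalComplex.ExactAt.of_iso (hF R (a ≫ g) B hB n)
    (asIso ((cechComplexFunctor (fun _ : PUnit.{u + 2} => uB B)).map ν))

/-! ### Short exact sequences -/

section ShortExact

variable {C : ShortComplex (BigSite.Ab Scheme.fppfPrecoverage S)} (hC : C.ShortExact)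

include hC in
theorem injective_app_f (V : (Over S)ᵒᵖ) : Function.Injective (C.f.hom.app V) := by
  haveI := hC.mono_f
  haveI : Mono (((sheafToPresheaf _ _) ⋙ (evaluation _ _).obj V).map C.f) := inferInstance
  exact (AddCommGrpCat.mono_iff_injective _).1 this

include hC in
theorem exists_app_f (V : (Over S)ᵒᵖ) (x : C.X₂.obj.obj V) (hx : C.g.hom.app V x = 0) :
    ∃ z, C.f.hom.app V z = x := by
  haveI := hC.mono_f
  exact (ShortComplex.ab_exact_iff _).1 (hC.exact.map_of_mono_of_preservesKernel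
    ((sheafToPresheaf _ _) ⋙ (evaluation _ _).obj V) inferInstance inferInstance) x hx

theorem mem_fam_fppf {R : CommRingCat.{u}} (a : Spec R ⟶ S) (T : Sieve (sOb a (Adeq.algOf R R)))
    (hT : T ∈ QuotSh.J Scheme.fppfPrecoverage S (sOb a (Adeq.algOf R R))) :
    ∃ (J : Type) (_ : Fintype J) (_ : DecidableEq J) (A' : J → Type u) (_ : ∀ j, CommRing (A' j))
      (_ : ∀ j, Algebra R (A' j)), Module.FaithfullyFlat R (∀ j, A' j) ∧
      Sieve.ofArrows (fun j => sOb a (Adeq.algOf R (A' j)))
          (fun j => sMap a (CommAlgCat.ofHom (Algebra.ofId R (A' j)) : Adeq.algOf R R ⟶ Adeq.algOf R (A' j))) ∈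
        QuotSh.J Scheme.fppfPrecoverage S (sOb a (Adeq.algOf R R)) ∧
      ∀ j, T (sMap a (CommAlgCat.ofHom (Algebra.ofId R (A' j)) : Adeq.algOf R R ⟶ Adeq.algOf R (A' j))) := by
  haveI : BigSite.OSh (Scheme.precoverage (@Flat ⊓ @LocallyOfFinitePresentation : MorphismProperty Scheme.{u})) := inferInstanceAs (BigSite.OSh Scheme.fppfPrecoverage.{u})
  haveI : (@Flat ⊓ @LocallyOfFinitePresentation : MorphismProperty Scheme.{u}).IsMultiplicative :=
    { id_mem := fun _ => ⟨inferInstance, inferInstance⟩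
      comp_mem := fun f g hf hg => by
        haveI := hf.1; haveI := hf.2; haveI := hg.1; haveI := hg.2
        exact ⟨inferInstance, inferInstance⟩ }
  exact mem_fam (@Flat ⊓ @LocallyOfFinitePresentation : MorphismProperty Scheme.{u})
    (fun _ _ f ⟨_, _⟩ => f.isOpenMap) (fun _ _ _ _ => ⟨inferInstance, inferInstance⟩) (fun _ _ _ h => h.1) a T hT

variable {R : CommRingCat.{u}} (a : Spec R ⟶ S)

theorem subsingleton_of_isEmpty (F : BigSite.Ab Scheme.fppfPrecoverage S) (V : Over S) [IsEmpty V.left] :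
    Subsingleton (F.obj.obj (op V)) := by
  have hF := (isSheaf_iff_isSheaf_of_type _ _).1
    ((Presheaf.isSheaf_iff_isSheaf_forget _ F.obj (forget AddCommGrpCat.{u + 1})).1 F.property)
  have hT : (Sieve.overEquiv V).symm (Sieve.generate ⊥) ∈ QuotSh.J Scheme.fppfPrecoverage S V := by
    rw [GrothendieckTopology.mem_over_iff]
    exact ((Sieve.overEquiv V).apply_symm_apply _).symm ▸
      Precoverage.generate_mem_toGrothendieck (J := Scheme.fppfPrecoverage) (Scheme.bot_mem_precoverage _ _)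
  refine ⟨fun x y => (hF _ hT).isSeparatedFor.ext fun Z g hg => ?_⟩
  obtain ⟨_, _, _, h, -⟩ := (Sieve.overEquiv_symm_iff _ g).1 hg
  exact h.elim

theorem cover_prod {J : Type} [Fintype J] [DecidableEq J]
    (A' : J → Type u) [∀ j, CommRing (A' j)] [∀ j, Algebra R (A' j)] :
    Sieve.ofArrows (fun j => sOb a (Adeq.algOf R (A' j))) (fun j => sMap a
        (CommAlgCat.ofHom (Pi.evalAlgHom R A' j) : Adeq.algOf R (∀ j, A' j) ⟶ Adeq.algOf R (A' j))) ∈
      QuotSh.J Scheme.fppfPrecoverage S (sOb a (Adeq.algOf R (∀ j, A' j))) := by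
  rw [GrothendieckTopology.mem_over_iff, Sieve.overEquiv_ofArrows]
  refine Precoverage.generate_mem_toGrothendieck ((Scheme.ofArrows_mem_precoverage_iff _).2 ⟨fun x => ?_, fun j =>
    ⟨show Flat (Spec.map (CommRingCat.ofHom (Pi.evalRingHom A' j))) from inferInstance,
      show LocallyOfFinitePresentation (Spec.map (CommRingCat.ofHom (Pi.evalRingHom A' j))) from inferInstance⟩⟩)
  let q : PrimeSpectrum (∀ j, A' j) := x
  obtain ⟨j, hj⟩ : ∃ j, Pi.single j (1 : A' j) ∉ q.asIdeal := by
    by_contra h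
    refine q.2.ne_top ((Ideal.eq_top_iff_one _).2 ?_)
    rw [← Finset.univ_sum_single (1 : ∀ j, A' j)]
    exact q.asIdeal.sum_mem fun j _ => by_contra fun hj => h ⟨j, hj⟩
  refine ⟨j, ?_⟩
  have hq : q ∈ Set.range (PrimeSpectrum.comap (Pi.evalRingHom A' j)) := by
    rw [range_comap_of_surjective _ _ (fun b => ⟨Pi.single j b, Pi.single_eq_same j b⟩)]
    intro t (ht : t j = 0)
    refine (q.2.mem_or_mem ?_).resolve_right hj
    have h0 : t * Pi.single j (1 : A' j) = 0 := funext fun i => by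
      obtain rfl | h := eq_or_ne i j
      · simp [ht]
      · simp [Pi.single_eq_of_ne h]
    rw [h0]
    exact q.asIdeal.zero_mem
  exact hq

/-- Sections over finitely many affine schemes give a section over their disjoint union. -/
theorem exists_prod_glue (F : BigSite.Ab Scheme.fppfPrecoverage S) {J : Type} [Fintype J] [DecidableEq J]
    (A' : J → Type u) [∀ j, CommRing (A' j)] [∀ j, Algebra R (A' j)]
    (y : ∀ j, F.obj.obj (op (sOb a (Adeq.algOf R (A' j))))) :
    ∃ z : F.obj.obj (op (sOb a (Adeq.algOf R (∀ j, A' j)))), ∀ j,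
      F.obj.map (sMap a (CommAlgCat.ofHom (Pi.evalAlgHom R A' j) : Adeq.algOf R (∀ j, A' j) ⟶ Adeq.algOf R (A' j))).op z =
        y j := by
  have hF := (isSheaf_iff_isSheaf_of_type _ _).1
    ((Presheaf.isSheaf_iff_isSheaf_forget _ F.obj (forget AddCommGrpCat.{u + 1})).1 F.property)
  let p : ∀ j, sOb a (Adeq.algOf R (A' j)) ⟶ sOb a (Adeq.algOf R (∀ j, A' j)) := fun j =>
    sMap a (CommAlgCat.ofHom (Pi.evalAlgHom R A' j))
  have hcov : Sieve.ofArrows (fun j => sOb a (Adeq.algOf R (A' j))) p ∈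
      QuotSh.J Scheme.fppfPrecoverage S (sOb a (Adeq.algOf R (∀ j, A' j))) := cover_prod a A'
  obtain ⟨z, hz, -⟩ := (Presieve.isSheafFor_arrows_iff _ _).1 (hF.isSheafFor _ hcov) y fun j k Z gj gk h => by
    obtain rfl | hjk := eq_or_ne j k
    · haveI : Mono (p j) := by
        haveI : Mono ((Over.forget S).map (p j)) :=
          inferInstanceAs (Mono (Spec.map (CommRingCat.ofHom (Pi.evalRingHom A' j))))
        exact (Over.forget S).mono_of_mono_map this
      rw [(cancel_mono (p j)).1 h]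
    · haveI : IsEmpty Z.left := by
        have e := congrArg (fun t => (toSec t).hom (Pi.single j (1 : A' j))) (congrArg CommaMorphism.left h)
        change (toSec (gj.left ≫ Spec.map (CommRingCat.ofHom (Pi.evalRingHom A' j)))).hom _ =
          (toSec (gk.left ≫ Spec.map (CommRingCat.ofHom (Pi.evalRingHom A' k)))).hom _ at e
        rw [toSec_comp, toSec_comp] at e
        change (toSec gj.left).hom (Pi.single j (1 : A' j) j) = (toSec gk.left).hom (Pi.single j (1 : A' j) k) at e
        rw [Pi.single_eq_same, Pi.single_eq_of_ne hjk.symm] at e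
        have e' : (1 : Γ(Z.left, ⊤)) = 0 :=
          (map_one (toSec gj.left).hom).symm.trans (e.trans (map_zero _))
        refine ⟨fun x => ?_⟩
        have := congrArg (Z.left.presheaf.germ ⊤ x trivial).hom e'
        rw [map_one, map_zero] at this
        exact one_ne_zero this
      haveI := subsingleton_of_isEmpty F Z
      exact @Subsingleton.elim (F.obj.obj (op Z)) _ _ _
  exact ⟨z, hz⟩

include hC in
theorem surjective_of_cechAcyc (hF : CechAcyc C.X₁) :
    Function.Surjective (C.g.hom.app (op (sOb a (Adeq.algOf R R)))) := by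
  intro s
  haveI := hC.epi_g
  haveI : Sheaf.IsLocallySurjective C.g := (Sheaf.isLocallySurjective_iff_epi' _ C.g).2 inferInstance
  obtain ⟨J, _, _, A', _, _, hff, hcov, hT⟩ :=
    mem_fam_fppf a _ (Presheaf.imageSieve_mem _ C.g.hom (U := op (sOb a (Adeq.algOf R R))) s)
  choose y hy using hT
  obtain ⟨z, hz⟩ := exists_prod_glue a C.X₂ A' y
  let B : Type u := ∀ j, A' j
  let e : sOb a (Adeq.algOf R B) ⟶ sOb a (Adeq.algOf R R) :=
    sMap a (CommAlgCat.ofHom (Algebra.ofId R B) : Adeq.algOf R R ⟶ Adeq.algOf R B)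
  have hS₃ := (isSheaf_iff_isSheaf_of_type _ _).1
    ((Presheaf.isSheaf_iff_isSheaf_forget _ C.X₃.obj (forget AddCommGrpCat.{u + 1})).1 C.X₃.property)
  have hS₂ := (isSheaf_iff_isSheaf_of_type _ _).1
    ((Presheaf.isSheaf_iff_isSheaf_forget _ C.X₂.obj (forget AddCommGrpCat.{u + 1})).1 C.X₂.property)
  have hcB : Sieve.ofArrows (fun _ : PUnit.{1} => sOb a (Adeq.algOf R B)) (fun _ => e) ∈
      QuotSh.J Scheme.fppfPrecoverage S (sOb a (Adeq.algOf R R)) := by
    refine GrothendieckTopology.superset_covering _ ?_ hcov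
    rw [Sieve.generate_le_iff]
    rintro _ _ ⟨j⟩
    exact ⟨_, sMap a (CommAlgCat.ofHom (Pi.evalAlgHom R A' j) : Adeq.algOf R B ⟶ Adeq.algOf R (A' j)), e,
      Presieve.ofArrows.mk PUnit.unit, by
        rw [← (Adeq.specOver a).map_comp]
        exact congrArg (sMap a) (CommAlgCat.hom_ext (Subsingleton.elim _ _))⟩
  have hB : IsCovAlg (R := R) B := by
    have h := hcB
    rw [GrothendieckTopology.mem_over_iff, Sieve.overEquiv_ofArrows] at h
    exact h
  -- the section on the cover has image the given one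
  have hzs : C.g.hom.app (op (sOb a (Adeq.algOf R B))) z = C.X₃.obj.map e.op s := by
    have hc : Sieve.ofArrows (fun j => sOb a (Adeq.algOf R (A' j))) (fun j => sMap a
        (CommAlgCat.ofHom (Pi.evalAlgHom R A' j) : Adeq.algOf R B ⟶ Adeq.algOf R (A' j))) ∈
        QuotSh.J Scheme.fppfPrecoverage S (sOb a (Adeq.algOf R B)) := cover_prod a A'
    refine (hS₃ _ hc).isSeparatedFor.ext fun Z g hg => ?_
    obtain ⟨_, c, _, ⟨j⟩, rfl⟩ := hg
    rw [op_comp, Functor.map_comp]
    refine congrArg (fun w => ((C.X₃.obj ⋙ forget AddCommGrpCat.{u + 1}).map c.op) w) ?_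
    refine (NatTrans.naturality_apply C.g.hom _ z).symm.trans ((congrArg _ (hz j)).trans ((hy j).trans ?_))
    have he : sMap a (CommAlgCat.ofHom (Pi.evalAlgHom R A' j) : Adeq.algOf R B ⟶ Adeq.algOf R (A' j)) ≫ e =
        sMap a (CommAlgCat.ofHom (Algebra.ofId R (A' j))) := by
      rw [← (Adeq.specOver a).map_comp]
      exact congrArg (sMap a) (CommAlgCat.hom_ext (Subsingleton.elim _ _))
    exact ConcreteCategory.congr_hom
      ((congrArg (fun t => C.X₃.obj.map (Quiver.Hom.op t)) he.symm).trans (C.X₃.obj.map_comp e.op _)) s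
  -- correct it to a cocycle
  haveI := hff
  let F' := resP a C.X₁
  let G' := resP a C.X₂
  let φ : F' ⟶ G' := Functor.whiskerLeft (Over.map a).op C.f.hom
  let u₀ : Over (Spec R) := uB B
  let π₀ : pw u₀ 0 ⟶ u₀ := Pi.π (fun _ : Fin 1 => u₀) 0
  let l : u₀ ⟶ pw u₀ 0 := Pi.lift fun _ => 𝟙 _
  let fc : Fin 2 → (pw u₀ 1 ⟶ pw u₀ 0) := fun i => Pi.lift fun k => Pi.π (fun _ : Fin 2 => u₀) (i.succAbove k)
  let x₀ : G'.obj (op (pw u₀ 0)) := G'.map π₀.op z
  have hres : ∀ {W : Over (Spec R)} (q₁ q₂ : W ⟶ u₀),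
      (C.X₃.obj.map ((Over.map a).map q₁).op) (C.X₃.obj.map e.op s) =
        (C.X₃.obj.map ((Over.map a).map q₂).op) (C.X₃.obj.map e.op s) := fun {W} q₁ q₂ => by
    have he : (Over.map a).map q₁ ≫ e = (Over.map a).map q₂ ≫ e :=
      Over.OverMorphism.ext ((Over.w q₁).trans (Over.w q₂).symm)
    exact ConcreteCategory.congr_hom ((C.X₃.obj.map_comp e.op ((Over.map a).map q₁).op).symm.trans
      ((congrArg (fun t => C.X₃.obj.map (Quiver.Hom.op t)) he).trans (C.X₃.obj.map_comp e.op ((Over.map a).map q₂).op))) s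
  obtain ⟨v, hv⟩ := exists_app_f hC (op ((Over.map a).obj (pw u₀ 1)))
    (G'.map (fc 0).op x₀ - G'.map (fc 1).op x₀) (by
      have key : ∀ i, C.g.hom.app (op ((Over.map a).obj (pw u₀ 1))) (G'.map (fc i).op x₀) =
          C.X₃.obj.map ((Over.map a).map (fc i ≫ π₀)).op (C.X₃.obj.map e.op s) := fun i => by
        show C.g.hom.app _ (G'.map (fc i).op (G'.map π₀.op z)) = _
        rw [← ConcreteCategory.comp_apply, ← Functor.map_comp, ← op_comp]
        exact (NatTrans.naturality_apply C.g.hom _ z).trans (congrArg _ hzs)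
      rw [map_sub, key, key, sub_eq_zero]
      exact hres _ _)
  have hd : (cechOne u₀ F').d 1 2 (inc u₀ F' 1 v) = 0 := by
    haveI := isIso_cmp u₀ F' 2
    refine (ConcreteCategory.bijective_of_isIso (cmp u₀ F' 2)).1 (injective_app_f hC _ ?_)
    rw [map_zero, map_zero]
    refine (ConcreteCategory.congr_hom (map_cmp u₀ φ 2) _).symm.trans ?_
    rw [ConcreteCategory.comp_apply, ← ConcreteCategory.comp_apply _ (((cechComplexFunctor
      (fun _ : PUnit.{u + 2} => u₀)).map φ).f 2), ← HomologicalComplex.Hom.comm, ConcreteCategory.comp_apply]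
    have h1 : ((cechComplexFunctor (fun _ : PUnit.{u + 2} => u₀)).map φ).f 1 (inc u₀ F' 1 v) =
        (cechOne u₀ G').d 0 1 (inc u₀ G' 0 x₀) := by
      haveI := isIso_cmp u₀ G' 1
      refine (ConcreteCategory.bijective_of_isIso (cmp u₀ G' 1)).1 ?_
      refine (ConcreteCategory.congr_hom (map_cmp u₀ φ 1) _).trans ?_
      rw [d_zero_one, show cmp u₀ G' 0 (inc u₀ G' 0 x₀) = x₀ from ConcreteCategory.congr_hom (cmp_inc u₀ G' 0) x₀]
      exact (congrArg (φ.app _) (ConcreteCategory.congr_hom (cmp_inc u₀ F' 1) v)).trans hv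
    rw [h1, ← ConcreteCategory.comp_apply _ ((cechOne u₀ G').d 1 2), HomologicalComplex.d_comp_d]
    exact map_zero _
  have hex := hF R a B hB 0
  rw [HomologicalComplex.exactAt_iff' _ 0 1 2 (by simp) (by simp), ShortComplex.ab_exact_iff] at hex
  obtain ⟨w, hw⟩ := hex (inc u₀ F' 1 v) hd
  have hw' : (cechOne u₀ F').d 0 1 w = inc u₀ F' 1 v := hw
  let y₀ : G'.obj (op (pw u₀ 0)) := x₀ - φ.app _ (cmp u₀ F' 0 w)
  have hy₀ : G'.map (fc 0).op y₀ = G'.map (fc 1).op y₀ := by
    have h := congrArg (fun t => φ.app _ (cmp u₀ F' 1 t)) hw'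
    rw [d_zero_one, show cmp u₀ F' 1 (inc u₀ F' 1 v) = v from ConcreteCategory.congr_hom (cmp_inc u₀ F' 1) v,
      map_sub, show φ.app (op (pw u₀ 1)) v = _ from hv, NatTrans.naturality_apply, NatTrans.naturality_apply] at h
    rw [map_sub, map_sub, sub_eq_sub_iff_sub_eq_sub]
    exact h.symm
  -- glue
  let y₁ : C.X₂.obj.obj (op (sOb a (Adeq.algOf R B))) := G'.map l.op y₀
  obtain ⟨t, ht, -⟩ := (Presieve.isSheafFor_arrows_iff _ _).1 (hS₂.isSheafFor _ hcB) (fun _ => y₁)
    fun _ _ W gj gk h => by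
      let W' : Over (Spec R) := Over.mk (gj.left ≫ Spec.map (CommRingCat.ofHom (algebraMap R B)))
      let j : W ⟶ (Over.map a).obj W' := Over.homMk (𝟙 _) (by
        rw [← Over.w gj]
        exact (Category.id_comp _).trans (Category.assoc _ _ _))
      let qj : W' ⟶ u₀ := Over.homMk gj.left rfl
      let qk : W' ⟶ u₀ := Over.homMk gk.left (congrArg CommaMorphism.left h).symm
      let hh : W' ⟶ pw u₀ 1 := Pi.lift (Fin.cases qj fun _ => qk)
      have hl : π₀ ≫ l = 𝟙 _ := Pi.hom_ext _ _ fun k => by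
        obtain rfl : k = 0 := Fin.fin_one_eq_zero k
        simp [π₀, l]
      have f1 : hh ≫ fc 1 = qj ≫ l := Pi.hom_ext _ _ fun k => by
        obtain rfl : k = 0 := Fin.fin_one_eq_zero k
        simp [hh, fc, l]
      have f0 : hh ≫ fc 0 = qk ≫ l := Pi.hom_ext _ _ fun k => by
        obtain rfl : k = 0 := Fin.fin_one_eq_zero k
        simp [hh, fc, l]
        rfl
      have hg : ∀ (g : W ⟶ sOb a (Adeq.algOf R B)) (q : W' ⟶ u₀) (i : Fin 2), g.left = q.left → hh ≫ fc i = q ≫ l →
          C.X₂.obj.map g.op y₁ = C.X₂.obj.map j.op (G'.map hh.op (G'.map (fc i).op y₀)) := fun g q i hgq hi => by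
        have hgj : g = j ≫ (Over.map a).map q := Over.OverMorphism.ext (hgq.trans (Category.id_comp _).symm)
        rw [← ConcreteCategory.comp_apply (G'.map (fc i).op), ← Functor.map_comp, ← op_comp, hi, hgj,
          op_comp, Functor.map_comp, op_comp, Functor.map_comp]
        rfl
      show C.X₂.obj.map gj.op y₁ = C.X₂.obj.map gk.op y₁
      rw [hg gj qj 1 rfl f1, hg gk qk 0 rfl f0, hy₀]
  refine ⟨t, (hS₃ _ hcB).isSeparatedFor.ext fun Z g hg => ?_⟩
  obtain ⟨_, c, _, ⟨⟨⟩⟩, rfl⟩ := hg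
  rw [op_comp, Functor.map_comp]
  refine congrArg (fun w => ((C.X₃.obj ⋙ forget AddCommGrpCat.{u + 1}).map c.op) w) ?_
  refine (NatTrans.naturality_apply C.g.hom e.op t).symm.trans ?_
  refine (congrArg (C.g.hom.app _) (ht PUnit.unit)).trans ?_
  show C.g.hom.app _ (C.X₂.obj.map ((Over.map a).map l).op y₀) = C.X₃.obj.map e.op s
  rw [NatTrans.naturality_apply C.g.hom]
  have hfg : ∀ (U : (Over S)ᵒᵖ) (x : C.X₁.obj.obj U), C.g.hom.app U (C.f.hom.app U x) = 0 := fun U x =>
    ConcreteCategory.congr_hom (congrArg (fun k : C.X₁ ⟶ C.X₃ => k.hom.app U) C.zero) x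
  have hgy : C.g.hom.app (op ((Over.map a).obj (pw u₀ 0))) y₀ =
      C.X₃.obj.map ((Over.map a).map π₀).op (C.X₃.obj.map e.op s) := by
    refine (map_sub (C.g.hom.app (op ((Over.map a).obj (pw u₀ 0)))).hom x₀ (φ.app _ (cmp u₀ F' 0 w))).trans ?_
    exact (congrArg₂ (fun p q : C.X₃.obj.obj (op ((Over.map a).obj (pw u₀ 0))) => p - q)
      ((NatTrans.naturality_apply C.g.hom _ z).trans (congrArg _ hzs))
      (hfg _ (cmp u₀ F' 0 w))).trans (sub_zero _)
  refine (congrArg _ hgy).trans ?_
  have hl' : (Over.map a).map l ≫ (Over.map a).map π₀ = 𝟙 _ :=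
    ((Over.map a).map_comp _ _).symm.trans ((congrArg (Over.map a).map (show l ≫ π₀ = 𝟙 _ from Pi.lift_π _ _)).trans
      ((Over.map a).map_id _))
  exact ConcreteCategory.congr_hom
    ((C.X₃.obj.map_comp ((Over.map a).map π₀).op ((Over.map a).map l).op).symm.trans
      ((congrArg (fun t => C.X₃.obj.map (Quiver.Hom.op t)) hl').trans (C.X₃.obj.map_id _))) (C.X₃.obj.map e.op s)

include hC in
theorem surjective_of_cechAcyc' (hF : CechAcyc C.X₁) (V : Over S) [IsAffine V.left] :
    Function.Surjective (C.g.hom.app (op V)) := by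
  intro s
  let a' : Spec Γ(V.left, ⊤) ⟶ S := V.left.isoSpec.inv ≫ V.hom
  let e : sOb a' (Adeq.algOf Γ(V.left, ⊤) Γ(V.left, ⊤)) ≅ V :=
    Over.isoMk V.left.isoSpec.symm (by
      show V.left.isoSpec.inv ≫ V.hom = Spec.map (CommRingCat.ofHom (algebraMap Γ(V.left, ⊤) Γ(V.left, ⊤))) ≫ a'
      rw [Algebra.algebraMap_self, CommRingCat.ofHom_id, Spec.map_id, Category.id_comp])
  obtain ⟨x, hx⟩ := surjective_of_cechAcyc hC a' hF (C.X₃.obj.map e.hom.op s)
  refine ⟨C.X₂.obj.map e.inv.op x, ?_⟩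
  rw [NatTrans.naturality_apply C.g.hom, hx, ← ConcreteCategory.comp_apply, ← Functor.map_comp, ← op_comp,
    e.inv_hom_id, op_id, CategoryTheory.Functor.map_id]
  rfl

include hC in
theorem cechAcyc_quotient (hF : CechAcyc C.X₁) (hG : CechAcyc C.X₂) : CechAcyc C.X₃ := by
  intro R a B _ _ _ hB n
  let φ : resP a C.X₁ ⟶ resP a C.X₂ := Functor.whiskerLeft (Over.map a).op C.f.hom
  let ψ : resP a C.X₂ ⟶ resP a C.X₃ := Functor.whiskerLeft (Over.map a).op C.g.hom
  have hφψ : φ ≫ ψ = 0 := by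
    ext V : 2
    show C.f.hom.app _ ≫ C.g.hom.app _ = 0
    rw [← NatTrans.comp_app, ← ObjectProperty.FullSubcategory.comp_hom, C.zero]
    rfl
  haveI : Mono φ := by
    haveI : ∀ V, Mono (φ.app V) := fun V => (AddCommGrpCat.mono_iff_injective _).2 (injective_app_f hC _)
    exact NatTrans.mono_of_mono_app φ
  have hS := shortExact_cech (uB B) (S := ShortComplex.mk φ (cokernel.π φ) (cokernel.condition φ))
    { exact := ShortComplex.exact_cokernel φ }
  let ν : cokernel φ ⟶ resP a C.X₃ := cokernel.desc φ ψ hφψ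
  haveI := isIso_cech_map (uB B) ν fun m => by
    haveI := isAffine_pw (R := R) B m
    haveI : IsAffine ((Over.map a).obj (pw (uB (R := R) B) m)).left := inferInstanceAs (IsAffine (pw (uB B) m).left)
    refine (ConcreteCategory.isIso_iff_bijective (ν.app (op (pw (uB B) m)))).2 ?_
    have hπ : Function.Surjective ((cokernel.π φ).app (op (pw (uB B) m))) :=
      (AddCommGrpCat.epi_iff_surjective _).1 inferInstance
    have hν : ∀ y, ν.app (op (pw (uB B) m)) ((cokernel.π φ).app _ y) = ψ.app _ y := fun y =>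
      ConcreteCategory.congr_hom (NatTrans.congr_app (cokernel.π_desc φ ψ hφψ) _) y
    refine ⟨(injective_iff_map_eq_zero (ν.app _).hom).2 fun x hx => ?_, fun x => ?_⟩
    · obtain ⟨y, rfl⟩ := hπ x
      obtain ⟨z, rfl⟩ := exists_app_f hC _ y ((hν y).symm.trans hx)
      exact ConcreteCategory.congr_hom (NatTrans.congr_app (cokernel.condition φ) _) z
    · obtain ⟨y, hy⟩ := surjective_of_cechAcyc' hC hF ((Over.map a).obj (pw (uB B) m)) x
      exact ⟨(cokernel.π φ).app _ y, (hν y).trans hy⟩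
  refine HomologicalComplex.ExactAt.of_iso ?_ (asIso ((cechComplexFunctor (fun _ : PUnit.{u + 2} => uB B)).map ν))
  rw [HomologicalComplex.exactAt_iff_isZero_homology]
  exact (hS.homology_exact₃ (n + 1) (n + 2) rfl).isZero_of_both_zeros
    (((hG R a B hB n).isZero_homology).eq_of_src _ _) (((hF R a B hB (n + 1)).isZero_homology).eq_of_tgt _ _)

end ShortExact

/-! ### Vanishing -/

theorem exists_constant_lift {G Q : BigSite.Ab Scheme.fppfPrecoverage S} (π : G ⟶ Q)
    (h : Function.Surjective (π.hom.app (op (Over.mk (𝟙 S)))))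
    (f : (constantSheaf (QuotSh.J Scheme.fppfPrecoverage S) AddCommGrpCat.{u + 1}).obj
      (AddCommGrpCat.of (ULift.{u + 1} ℤ)) ⟶ Q) :
    ∃ g, g ≫ π = f := by
  let A := constantSheafAdj (QuotSh.J Scheme.fppfPrecoverage S) AddCommGrpCat.{u + 1}
    (Over.mkIdTerminal (X := S))
  obtain ⟨t, ht⟩ := h ((A.homEquiv _ _ f) (ULift.up 1))
  refine ⟨(A.homEquiv _ _).symm (AddCommGrpCat.ofHom
    ((zmultiplesHom _ t).comp (AddEquiv.ulift.{0, u + 1}).toAddMonoidHom)), (A.homEquiv _ _).injective ?_⟩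
  rw [A.homEquiv_naturality_right, Equiv.apply_symm_apply]
  refine ConcreteCategory.hom_ext _ _ fun ⟨k⟩ => ?_
  show π.hom.app _ (k • t) = _
  rw [map_zsmul, ht]
  refine (map_zsmul ((A.homEquiv _ Q) f).hom k (ULift.up 1)).symm.trans (congrArg _ ?_)
  ext
  simp

theorem subsingleton_H_of_cechAcyc [IsAffine S] : ∀ (n : ℕ) (F : BigSite.Ab Scheme.fppfPrecoverage S), CechAcyc F →
    Subsingleton (Sheaf.H F (n + 1)) := by
  intro n
  induction n with
  | zero =>
    intro F hF
    let T := ShortComplex.mk (Injective.ι F) (cokernel.π (Injective.ι F)) (cokernel.condition _)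
    have hT : T.ShortExact :=
      { exact := ShortComplex.exact_of_g_is_cokernel _ (cokernelIsCokernel _) }
    haveI : IsAffine (Over.mk (𝟙 S)).left := inferInstanceAs (IsAffine S)
    refine subsingleton_of_forall_eq 0 fun x => ?_
    obtain ⟨y, rfl⟩ := Ext.covariant_sequence_exact₁ _ hT x (Ext.eq_zero_of_injective _) (n₀ := 0) rfl
    obtain ⟨f, rfl⟩ := (Ext.mk₀_bijective _ _).2 y
    obtain ⟨g, hg⟩ := exists_constant_lift T.g (surjective_of_cechAcyc' hT hF _) f
    rw [← hg, ← Ext.mk₀_comp_mk₀, Ext.comp_assoc_of_second_deg_zero, hT.comp_extClass, Ext.comp_zero]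
  | succ n ih =>
    intro F hF
    let T := ShortComplex.mk (Injective.ι F) (cokernel.π (Injective.ι F)) (cokernel.condition _)
    have hT : T.ShortExact :=
      { exact := ShortComplex.exact_of_g_is_cokernel _ (cokernelIsCokernel _) }
    refine subsingleton_of_forall_eq 0 fun x => ?_
    obtain ⟨y, rfl⟩ := Ext.covariant_sequence_exact₁ _ hT x (Ext.eq_zero_of_injective _) (n₀ := n + 1) rfl
    rw [(ih T.X₃ (cechAcyc_quotient hT hF (cechAcyc_of_injective _))).elim y 0, Ext.zero_comp]

theorem subsingleton_HU_of_cechAcyc {F : BigSite.Ab Scheme.fppfPrecoverage S} (hF : CechAcyc F) (U : Over S)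
    [IsAffine U.left] (n : ℕ) : Subsingleton (BigSite.HU Scheme.fppfPrecoverage F (n + 1) U) :=
  subsingleton_H_of_cechAcyc n _ (cechAcyc_pullBig U.hom hF)

theorem cechAcyc_toAbMod {M : BigSite.Mod Scheme.fppfPrecoverage S}
    (hM : Adeq.adequateMod Scheme.fppfPrecoverage S M) :
    CechAcyc ((BigSite.toAbMod Scheme.fppfPrecoverage S).obj M) := fun R a B _ _ _ _ n =>
  cech_exactAt a M (adequate_toMVF_fppf hM R a) B n

end Groth.Agent.AdeqA
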