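import Mathlib.CategoryTheory.Sites.SheafCohomology.Cech
import Mathlib.Algebra.Category.Grp.Limits
import Mathlib.Algebra.Category.Grp.Colimits
import Mathlib.Algebra.Category.Grp.Abelian
import Mathlib.Algebra.Homology.ShortComplex.Ab
import Mathlib.Algebra.Homology.ShortComplex.HomologicalComplex

/-!
# Contractibility of Čech complexes of a single object after multiplying by it
-/

set_option autoImplicit false
set_option maxHeartbeats 400000

universe u v w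

open CategoryTheory CategoryTheory.Limits Opposite AlgebraicTopology Simplicial

set_option backward.isDefEq.respectTransparency false
set_option backward.isDefEq.respectTransparency.types false

noncomputable section

namespace Groth.Agent.AdeqA

theorem sum_apply {A B : AddCommGrpCat.{w}} {κ : Type*} (s : Finset κ) (f : κ → (A ⟶ B)) (x : A) :
    (∑ i ∈ s, f i) x = ∑ i ∈ s, f i x := by
  classical
  induction s using Finset.induction_on with
  | empty => rfl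
  | @insert a s h ih => rw [Finset.sum_insert h, Finset.sum_insert h, ← ih]; rfl

/-- A cosimplicial abelian group with an extra codegeneracy has exact alternating complex in positive degrees. -/
theorem exactAt_of_extra (X : CosimplicialObject AddCommGrpCat.{w}) (n : ℕ)
    (s₀ : X.obj ⦋n + 1⦌ ⟶ X.obj ⦋n⦌) (s₁ : X.obj ⦋n + 2⦌ ⟶ X.obj ⦋n + 1⦌)
    (h₀ : ∀ x, s₁ (X.δ (0 : Fin (n + 3)) x) = x)
    (h₁ : ∀ (i : Fin (n + 2)) x, s₁ (X.δ i.succ x) = X.δ i (s₀ x)) :
    ((alternatingCofaceMapComplex AddCommGrpCat.{w}).obj X).ExactAt (n + 1) := by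
  rw [HomologicalComplex.exactAt_iff' _ n (n + 1) (n + 2) (by simp) (by simp)]
  rw [ShortComplex.ab_exact_iff]
  intro x hx
  have hd : ∀ (m : ℕ) (y : X.obj ⦋m⦌), ((alternatingCofaceMapComplex AddCommGrpCat.{w}).obj X).d m (m + 1) y =
      ∑ i : Fin (m + 2), (-1 : ℤ) ^ (i : ℕ) • X.δ i y := fun m y => by
    exact (ConcreteCategory.congr_hom
      (CochainComplex.of_d (fun m => X.obj ⦋m⦌) (AlternatingCofaceMapComplex.objD X) m) y).trans
      ((sum_apply _ _ _).trans (Finset.sum_congr rfl fun i _ => rfl))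
  refine ⟨s₀ x, ?_⟩
  have e := congrArg s₁ ((hd (n + 1) x).symm.trans hx)
  rw [map_zero, map_sum, Fin.sum_univ_succ] at e
  simp only [map_zsmul, map_neg, Fin.val_zero, pow_zero, one_smul, h₀, h₁, Fin.val_succ, pow_succ, mul_neg,
    mul_one, neg_smul, Finset.sum_neg_distrib] at e
  show ((alternatingCofaceMapComplex AddCommGrpCat.{w}).obj X).d n (n + 1) (s₀ x) = x
  rw [hd n (s₀ x)]
  exact (neg_add_eq_zero.1 ((add_comm _ _).trans e))

variable {C : Type u} [Category.{v} C] [HasFiniteProducts C] (u₀ : C)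

/-- A presheaf precomposed with the product with `u₀`. -/
abbrev prodU (Q : Cᵒᵖ ⥤ AddCommGrpCat.{w}) : Cᵒᵖ ⥤ AddCommGrpCat.{w} :=
  (prod.functor.flip.obj u₀).op ⋙ Q

/-- The Čech complex of a single object. -/
abbrev cechOne (P : Cᵒᵖ ⥤ AddCommGrpCat.{w}) : CochainComplex AddCommGrpCat.{w} ℕ :=
  (cechComplexFunctor (A := AddCommGrpCat.{w}) (fun _ : PUnit.{w + 1} => u₀)).obj P

/-- The cosimplicial object of a single object. -/
abbrev cosOne (P : Cᵒᵖ ⥤ AddCommGrpCat.{w}) : CosimplicialObject AddCommGrpCat.{w} :=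
  (FormalCoproduct.cosimplicialObjectFunctor (FormalCoproduct.mk _ (fun _ : PUnit.{w + 1} => u₀)).cech).obj P

/-- The power of the object. -/
abbrev pw (n : ℕ) : C := ∏ᶜ fun _ : Fin (n + 1) => u₀

/-- The component of a cochain. -/
abbrev cmp (P : Cᵒᵖ ⥤ AddCommGrpCat.{w}) (n : ℕ) : (cosOne u₀ P).obj ⦋n⦌ ⟶ P.obj (op (pw u₀ n)) :=
  Pi.π (fun a : Fin (n + 1) → PUnit.{w + 1} => P.obj (op (∏ᶜ ((fun _ : PUnit.{w + 1} => u₀) ∘ a))))
    fun _ => PUnit.unit

/-- A cochain from its component. -/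
abbrev inc (P : Cᵒᵖ ⥤ AddCommGrpCat.{w}) (n : ℕ) : P.obj (op (pw u₀ n)) ⟶ (cosOne u₀ P).obj ⦋n⦌ :=
  Pi.lift fun _ => 𝟙 _

theorem cmp_inc (P : Cᵒᵖ ⥤ AddCommGrpCat.{w}) (n : ℕ) : inc u₀ P n ≫ cmp u₀ P n = 𝟙 _ := Pi.lift_π _ _

theorem inc_cmp (P : Cᵒᵖ ⥤ AddCommGrpCat.{w}) (n : ℕ) : cmp u₀ P n ≫ inc u₀ P n = 𝟙 _ :=
  Pi.hom_ext _ _ fun a => by
    obtain rfl : a = fun _ => PUnit.unit := funext fun _ => rfl
    rw [Category.assoc, Category.id_comp]
    erw [Pi.lift_π]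
    exact Category.comp_id _

theorem δ_cmp (P : Cᵒᵖ ⥤ AddCommGrpCat.{w}) (n : ℕ) (i : Fin (n + 2)) :
    (cosOne u₀ P).δ i ≫ cmp u₀ P (n + 1) = cmp u₀ P n ≫
      P.map (Pi.lift fun k => Pi.π (fun _ : Fin (n + 2) => u₀) (i.succAbove k) : pw u₀ (n + 1) ⟶ pw u₀ n).op :=
  Pi.lift_π _ _

/-- The Čech complex of a presheaf multiplied by the object is exact in positive degrees. -/
theorem exactAt_prodU (Q : Cᵒᵖ ⥤ AddCommGrpCat.{w}) (n : ℕ) :
    (cechOne u₀ (prodU u₀ Q)).ExactAt (n + 1) := by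
  let P := prodU u₀ Q
  -- the lifts of the extra degeneracy
  let ψ : ∀ m, pw u₀ m ⨯ u₀ ⟶ pw u₀ (m + 1) ⨯ u₀ := fun m =>
    prod.lift (Pi.lift (Fin.cases prod.snd fun k => prod.fst ≫ Pi.π _ k)) prod.snd
  let s : ∀ m, (cosOne u₀ P).obj ⦋m + 1⦌ ⟶ (cosOne u₀ P).obj ⦋m⦌ := fun m =>
    cmp u₀ P (m + 1) ≫ Q.map (ψ m).op ≫ inc u₀ P m
  refine exactAt_of_extra (cosOne u₀ P) n (s n) (s (n + 1)) (fun x => ?_) (fun i x => ?_)
  · refine ConcreteCategory.congr_hom (?_ : (cosOne u₀ P).δ (0 : Fin (n + 3)) ≫ s (n + 1) = 𝟙 _) x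
    simp only [s]
    rw [← Category.assoc, δ_cmp, Category.assoc]
    show cmp u₀ P (n + 1) ≫ Q.map ((prod.functor.flip.obj u₀).map
      (Pi.lift fun k => Pi.π (fun _ : Fin (n + 3) => u₀) ((0 : Fin (n + 3)).succAbove k))).op ≫
        Q.map (ψ (n + 1)).op ≫ inc u₀ P (n + 1) = _
    rw [← Q.map_comp_assoc, ← op_comp, show ψ (n + 1) ≫ (prod.functor.flip.obj u₀).map
      (Pi.lift fun k => Pi.π (fun _ : Fin (n + 3) => u₀) ((0 : Fin (n + 3)).succAbove k)) = 𝟙 _ from ?_,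
      op_id]
    · erw [Q.map_id, Category.id_comp, inc_cmp]
    show ψ (n + 1) ≫ prod.map _ (𝟙 u₀) = _
    apply prod.hom_ext
    · simp only [ψ, Category.assoc, prod.map_fst, Category.id_comp, prod.lift_fst_assoc]
      apply Pi.hom_ext
      intro k
      simp
    · simp [ψ]
  · refine ConcreteCategory.congr_hom (?_ : (cosOne u₀ P).δ i.succ ≫ s (n + 1) = s n ≫ (cosOne u₀ P).δ i) x
    haveI : IsIso (cmp u₀ P (n + 1)) := ⟨inc u₀ P (n + 1), inc_cmp u₀ P (n + 1), cmp_inc u₀ P (n + 1)⟩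
    rw [← cancel_mono (cmp u₀ P (n + 1))]
    simp only [s, Category.assoc, δ_cmp]
    erw [reassoc_of% (cmp_inc u₀ P n), cmp_inc, Category.comp_id]
    rw [← Category.assoc, δ_cmp, Category.assoc]
    refine congrArg (cmp u₀ P (n + 1) ≫ ·) ?_
    show Q.map _ ≫ Q.map _ = Q.map _ ≫ Q.map _
    rw [← Q.map_comp, ← Q.map_comp]
    refine congrArg Q.map ?_
    refine Quiver.Hom.unop_inj ?_
    show ψ (n + 1) ≫ prod.map _ (𝟙 u₀) = prod.map _ (𝟙 u₀) ≫ ψ n
    apply prod.hom_ext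
    · simp only [ψ, prod.map_fst, prod.lift_fst_assoc, Category.assoc, prod.lift_fst]
      apply Pi.hom_ext
      intro k
      refine Fin.cases ?_ (fun k => ?_) k <;> simp
    · simp [ψ]

end Groth.Agent.AdeqA
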