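import Groth.Agent.Lib.AdeqA.GammaAlg
import Groth.Agent.Lib.AdeqA.CechContract
import Mathlib.Algebra.Homology.HomologySequence
import Mathlib.Algebra.Homology.ConcreteCategory
import Mathlib.Algebra.Homology.ShortComplex.ShortExact
import Mathlib.Algebra.Category.Grp.AB

/-!
# Exactness of the Čech complexes of adequate functors
-/

set_option autoImplicit false
set_option maxHeartbeats 400000

universe u v w

open CategoryTheory CategoryTheory.Limits AlgebraicGeometry Opposite TensorProduct AlgebraicTopology Simplicial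

set_option backward.isDefEq.respectTransparency false
set_option backward.isDefEq.respectTransparency.types false

noncomputable section

namespace Groth.Agent.AdeqA

/-! ### Formal properties of the Čech complex of one object -/

section General

variable {C : Type u} [Category.{v} C] [HasFiniteProducts C] (u₀ : C)

theorem map_cmp {P Q : Cᵒᵖ ⥤ AddCommGrpCat.{w}} (f : P ⟶ Q) (n : ℕ) :
    ((cechComplexFunctor (A := AddCommGrpCat.{w}) (fun _ : PUnit.{w + 1} => u₀)).map f).f n ≫ cmp u₀ Q n =
      cmp u₀ P n ≫ f.app (op (pw u₀ n)) := by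
  simp [cechComplexFunctor, FormalCoproduct.cochainComplexFunctor]
  exact Pi.map_π _ _

theorem isIso_cmp (P : Cᵒᵖ ⥤ AddCommGrpCat.{w}) (n : ℕ) : IsIso (cmp u₀ P n) :=
  ⟨inc u₀ P n, inc_cmp u₀ P n, cmp_inc u₀ P n⟩

theorem isIso_cech_map {P Q : Cᵒᵖ ⥤ AddCommGrpCat.{w}} (f : P ⟶ Q) (h : ∀ n, IsIso (f.app (op (pw u₀ n)))) :
    IsIso ((cechComplexFunctor (A := AddCommGrpCat.{w}) (fun _ : PUnit.{w + 1} => u₀)).map f) := by
  haveI : ∀ n, IsIso (((cechComplexFunctor (A := AddCommGrpCat.{w}) (fun _ : PUnit.{w + 1} => u₀)).map f).f n) :=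
    fun n => by
      have hh : IsIso (((cechComplexFunctor (A := AddCommGrpCat.{w}) (fun _ : PUnit.{w + 1} => u₀)).map f).f n ≫
          cmp u₀ Q n) := by
        rw [map_cmp]
        exact @IsIso.comp_isIso _ _ _ _ _ _ _ (isIso_cmp u₀ P n) (h n)
      exact @IsIso.of_isIso_comp_right _ _ _ _ _ _ (cmp u₀ Q n) (isIso_cmp u₀ Q n) hh
  exact HomologicalComplex.Hom.isIso_of_components _

/-- Cochains of a fixed degree. -/
abbrev evPw (n : ℕ) : (Cᵒᵖ ⥤ AddCommGrpCat.{w}) ⥤ AddCommGrpCat.{w} := (evaluation _ _).obj (op (pw u₀ n))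

instance cech_preservesZero :
    (cechComplexFunctor (A := AddCommGrpCat.{w}) (fun _ : PUnit.{w + 1} => u₀)).PreservesZeroMorphisms where
  map_zero P Q := by
    ext n : 1
    haveI := isIso_cmp u₀ Q n
    refine (cancel_mono (cmp u₀ Q n)).1 ?_
    rw [map_cmp]
    show cmp u₀ P n ≫ 0 = 0 ≫ _
    rw [comp_zero, zero_comp]

/-- Cochains are values. -/
def cechEvalIso (n : ℕ) :
    cechComplexFunctor (A := AddCommGrpCat.{w}) (fun _ : PUnit.{w + 1} => u₀) ⋙
      HomologicalComplex.eval AddCommGrpCat.{w} (ComplexShape.up ℕ) n ≅ evPw u₀ n :=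
  NatIso.ofComponents (fun P => @asIso _ _ _ _ (cmp u₀ P n) (isIso_cmp u₀ P n)) fun f => map_cmp u₀ f n

theorem shortExact_cech {S : ShortComplex (Cᵒᵖ ⥤ AddCommGrpCat.{w})} (hS : S.ShortExact) :
    (S.map (cechComplexFunctor (A := AddCommGrpCat.{w}) (fun _ : PUnit.{w + 1} => u₀))).ShortExact :=
  HomologicalComplex.shortExact_of_degreewise_shortExact _ fun n =>
    ShortComplex.shortExact_of_iso (S.mapNatIso (cechEvalIso u₀ n)).symm (hS.map_of_exact (evPw u₀ n))

theorem d_zero_one (P : Cᵒᵖ ⥤ AddCommGrpCat.{w}) (x : (cechOne u₀ P).X 0) :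
    cmp u₀ P 1 ((cechOne u₀ P).d 0 1 x) =
      P.map (Pi.lift fun k => Pi.π (fun _ : Fin 2 => u₀) ((0 : Fin 2).succAbove k) : pw u₀ 1 ⟶ pw u₀ 0).op
          (cmp u₀ P 0 x) -
        P.map (Pi.lift fun k => Pi.π (fun _ : Fin 2 => u₀) ((1 : Fin 2).succAbove k) : pw u₀ 1 ⟶ pw u₀ 0).op
          (cmp u₀ P 0 x) := by
  have hd : (cechOne u₀ P).d 0 1 x = ∑ i : Fin 2, (-1 : ℤ) ^ (i : ℕ) • (cosOne u₀ P).δ i x :=
    (ConcreteCategory.congr_hom (CochainComplex.of_d (fun m => (cosOne u₀ P).obj ⦋m⦌)
      (AlternatingCofaceMapComplex.objD (cosOne u₀ P)) 0) x).trans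
      ((sum_apply _ _ _).trans (Finset.sum_congr rfl fun i _ => rfl))
  rw [hd, map_sum, Fin.sum_univ_two, map_zsmul, map_zsmul]
  simp only [Fin.val_zero, pow_zero, one_smul, Fin.val_one, pow_one, neg_smul, ← sub_eq_add_neg]
  exact congrArg₂ (· - ·) (ConcreteCategory.congr_hom (δ_cmp u₀ P 0 0) x)
    (ConcreteCategory.congr_hom (δ_cmp u₀ P 0 1) x)

end General

/-! ### Adequate functors -/

variable {R : CommRingCat.{u}} (B : Type u) [CommRing B] [Algebra R B]

/-- `M ↦ B ⊗ M` on module-valued functors. -/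
abbrev shiftB (F : Adeq.MVF R) : Adeq.MVF R := (Adeq.push R B).obj ((Adeq.restr R B).obj F)

/-- The comparison with the product by `Spec B`. -/
def shiftTrans (F : Adeq.MVF R) : (PFfun R).obj (shiftB B F) ⟶ prodU (uB B) ((PFfun R).obj F) where
  app V := AddCommGrpCat.ofHom
    ({ toFun := fun x => fmap F (bcMap B V.unop) x
       map_zero' := map_zero (fmap F (bcMap B V.unop))
       map_add' := map_add (fmap F (bcMap B V.unop)) } :
      El F ((bcR R B).obj ((gammaAlg R).obj (op V.unop))) →+ El F ((gammaAlg R).obj (op (V.unop ⨯ uB B))))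
  naturality V W g := by
    refine ConcreteCategory.hom_ext _ _ fun (x : El F ((bcR R B).obj ((gammaAlg R).obj (op V.unop)))) => ?_
    show fmap F (bcMap B W.unop) (fmap F ((bcR R B).map ((gammaAlg R).map g.unop.op)) x) =
      fmap F ((gammaAlg R).map ((prod.functor.flip.obj (uB B)).map g.unop).op) (fmap F (bcMap B V.unop) x)
    exact (fmap_comp F _ _ x).symm.trans
      ((congrArg (fun m => fmap F m x) (bcMap_natural B g.unop)).trans (fmap_comp F _ _ x))

theorem isAffine_pw (n : ℕ) : IsAffine (pw (uB (R := R) B) n).left := by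
  induction n with
  | zero =>
    haveI : IsAffine (uB (R := R) B).left := inferInstanceAs (IsAffine (Spec (CommRingCat.of B)))
    let e : pw (uB (R := R) B) 0 ≅ uB B :=
      { hom := Pi.π _ 0
        inv := Pi.lift fun _ => 𝟙 _
        hom_inv_id := Pi.hom_ext _ _ fun k => by
          obtain rfl : k = 0 := Fin.fin_one_eq_zero k
          simp
        inv_hom_id := by simp }
    haveI : IsIso e.hom.left := ((Over.forget _).mapIso e).isIso_hom
    exact IsAffine.of_isIso e.hom.left
  | succ n ih =>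
    haveI : IsAffine (uB (R := R) B).left := inferInstanceAs (IsAffine (Spec (CommRingCat.of B)))
    haveI : IsAffineHom (uB (R := R) B).hom := inferInstanceAs (IsAffineHom (Spec.map _))
    have hpb : IsPullback (prod.fst (X := pw (uB (R := R) B) n) (Y := uB B)).left
        (prod.snd (X := pw (uB (R := R) B) n) (Y := uB B)).left (pw (uB (R := R) B) n).hom (uB (R := R) B).hom :=
      Over.isPullback_of_binaryFan_isLimit (BinaryFan.mk prod.fst prod.snd) (prodIsProd _ _)
    haveI := ih
    haveI : IsAffine (pw (uB (R := R) B) n ⨯ uB B).left := IsAffine.of_isPullback hpb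
    let e : pw (uB (R := R) B) (n + 1) ≅ pw (uB (R := R) B) n ⨯ uB B :=
      { hom := prod.lift (Pi.lift fun k => Pi.π _ k.succ) (Pi.π _ 0)
        inv := Pi.lift (Fin.cases prod.snd fun k => prod.fst ≫ Pi.π _ k)
        hom_inv_id := Pi.hom_ext _ _ fun k => by
          refine Fin.cases ?_ (fun k => ?_) k <;> simp
        inv_hom_id := by
          apply prod.hom_ext
          · apply Pi.hom_ext
            intro k
            simp
          · simp }
    haveI : IsIso e.hom.left := ((Over.forget _).mapIso e).isIso_hom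
    exact IsAffine.of_isIso e.hom.left

theorem exactAt_shift (F : Adeq.MVF R) (n : ℕ) :
    (cechOne (uB B) ((PFfun R).obj (shiftB B F))).ExactAt (n + 1) := by
  haveI := isIso_cech_map (uB B) (shiftTrans B F) fun m => by
    haveI := isAffine_pw (R := R) B m
    haveI : IsIso ((forget (Adeq.Alg R)).map (bcMap B (pw (uB B) m))) :=
      (isIso_iff_bijective _).2 (bcMap_bijective B (pw (uB B) m))
    haveI : IsIso (bcMap B (pw (uB B) m)) := isIso_of_reflects_iso _ (forget (Adeq.Alg R))
    exact inferInstanceAs (IsIso (F.toAb.map (bcMap B (pw (uB B) m))))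
  exact HomologicalComplex.ExactAt.of_iso (exactAt_prodU (uB B) ((PFfun R).obj F) n)
    (asIso ((cechComplexFunctor (fun _ : PUnit.{u + 2} => uB B)).map (shiftTrans B F))).symm

theorem eq_of_rTensor_eq [Module.FaithfullyFlat R B] {X Y : Type u} [AddCommGroup X] [Module R X] [AddCommGroup Y]
    [Module R Y] {M : Type w} [AddCommGroup M] [Module R M] (φ : X →ₗ[R] Y) (e : Y →ₗ[R] B ⊗[R] X)
    (he : ∀ x, e (φ x) = (1 : B) ⊗ₜ[R] x) {z w : X ⊗[R] M} (h : φ.rTensor M z = φ.rTensor M w) : z = w := by
  have key : ∀ z : X ⊗[R] M, TensorProduct.assoc R B X M (e.rTensor M (φ.rTensor M z)) = (1 : B) ⊗ₜ[R] z := fun z => by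
    induction z using TensorProduct.induction_on with
    | zero => simp
    | tmul a m => simp [he]
    | add a b ha hb => simp only [map_add, ha, hb, TensorProduct.tmul_add]
  refine Module.FaithfullyFlat.tensorProduct_mk_injective (A := R) (B := B) _ ?_
  show (1 : B) ⊗ₜ[R] z = (1 : B) ⊗ₜ[R] w
  rw [← key z, ← key w, h]

theorem injective_unit [Module.FaithfullyFlat R B] {F : Adeq.MVF R} (hF : Adeq.adequate R F) (X : Adeq.Alg R) :
    Function.Injective (fmap F (Adeq.Alg.unit R B X)) := by
  obtain ⟨M, N, g, ι, hι⟩ := (adequate_iff F).1 hF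
  intro x y h
  refine hι.inj X ?_
  have h' := (app_fmap ι (Adeq.Alg.unit R B X) x).symm.trans
    ((congrArg (app ι ((bcR R B).obj X)) h).trans (app_fmap ι (Adeq.Alg.unit R B X) y))
  rw [← ofT_toT (app ι X x), ← ofT_toT (app ι X y)] at h' ⊢
  rw [fmap_ofT, fmap_ofT] at h'
  let e : ((bcR R B).obj X : Type u) →ₗ[R] B ⊗[R] X :=
    { toFun := fun z => z
      map_add' := fun _ _ => rfl
      map_smul' := fun r z => by
        refine (@Algebra.smul_def R ((bcR R B).obj X) _ _ ((bcR R B).obj X).algebra r z).trans ?_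
        exact (Algebra.smul_def r (show B ⊗[R] (X : Type u) from z)).symm }
  exact congrArg ofT (eq_of_rTensor_eq B _ e (fun _ => rfl) (congrArg toT h'))

instance : PreservesFiniteLimits (PFfun R) := comp_preservesFiniteLimits _ _

instance : PreservesFiniteColimits (PFfun R) := comp_preservesFiniteColimits _ _

instance : (PFfun R).Additive where
  map_add := by intros; rfl

/-- The cokernel sequence of `F → B ⊗ F`. -/
abbrev unitSeq (F : Adeq.MVF R) : ShortComplex (Adeq.MVF R) :=
  ShortComplex.mk (unitHom B F) (cokernel.π (unitHom B F)) (cokernel.condition _)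

theorem shortExact_unitSeq [Module.FaithfullyFlat R B] {F : Adeq.MVF R} (hF : Adeq.adequate R F) :
    ((unitSeq B F).map (PFfun R)).ShortExact := by
  haveI : Mono (unitHom B F) := mono_of_injective _ fun X => injective_unit B hF X
  have h : (unitSeq B F).ShortExact :=
    { exact := ShortComplex.exact_cokernel _ }
  exact h.map_of_exact (PFfun R)

theorem exists_descent [Module.FaithfullyFlat R B] {Q : Adeq.MVF R} (hQ : Adeq.adequate R Q)
    (y : El Q ((gammaAlg R).obj (op (pw (uB B) 0))))
    (hy : fmap Q ((gammaAlg R).map (Pi.lift fun k => Pi.π (fun _ : Fin 2 => uB (R := R) B)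
          ((0 : Fin 2).succAbove k) : pw (uB B) 1 ⟶ pw (uB B) 0).op) y =
      fmap Q ((gammaAlg R).map (Pi.lift fun k => Pi.π (fun _ : Fin 2 => uB (R := R) B)
          ((1 : Fin 2).succAbove k) : pw (uB B) 1 ⟶ pw (uB B) 0).op) y) :
    ∃ x : El Q (Adeq.algOf R R), ∀ f : Adeq.algOf R R ⟶ (gammaAlg R).obj (op (pw (uB B) 0)), fmap Q f x = y := by
  -- the comparison `Γ(Spec B) ≅ B`
  let σ : (gammaAlg R).obj (op (uB B)) ⟶ Adeq.algOf R B :=
    letI := (toSec (uB (R := R) B).hom).hom.toAlgebra
    CommAlgCat.ofHom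
      { (Scheme.ΓSpecIso (CommRingCat.of B)).hom.hom with
        commutes' := fun r => by
          have := congrArg (fun q => q ≫ (Scheme.ΓSpecIso (CommRingCat.of B)).hom) (toSec_uB (R := R) B)
          rw [Category.assoc, Iso.inv_hom_id, Category.comp_id] at this
          exact RingHom.congr_fun (congrArg CommRingCat.Hom.hom this) r }
  let l : uB (R := R) B ⟶ pw (uB B) 0 := Pi.lift fun _ => 𝟙 _
  let y₀ : El Q (Adeq.algOf R B) := fmap Q ((gammaAlg R).map l.op ≫ σ) y
  -- the spectrum of `B ⊗ B` and its projections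
  let i₁ : Adeq.algOf R B ⟶ Adeq.algOf R (B ⊗[R] B) := CommAlgCat.ofHom Algebra.TensorProduct.includeLeft
  let i₂ : Adeq.algOf R B ⟶ Adeq.algOf R (B ⊗[R] B) := CommAlgCat.ofHom Algebra.TensorProduct.includeRight
  let T : Over (Spec R) := uB (R := R) (B ⊗[R] B)
  let q : ∀ f : Adeq.algOf R B ⟶ Adeq.algOf R (B ⊗[R] B), T ⟶ uB B := fun f =>
    Over.homMk (specMap f) (specMap_str f)
  let σT : (gammaAlg R).obj (op T) ⟶ Adeq.algOf R (B ⊗[R] B) :=
    letI := (toSec T.hom).hom.toAlgebra
    CommAlgCat.ofHom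
      { (Scheme.ΓSpecIso (CommRingCat.of (B ⊗[R] B))).hom.hom with
        commutes' := fun r => by
          have := congrArg (fun q => q ≫ (Scheme.ΓSpecIso (CommRingCat.of (B ⊗[R] B))).hom)
            (toSec_uB (R := R) (B ⊗[R] B))
          rw [Category.assoc, Iso.inv_hom_id, Category.comp_id] at this
          exact RingHom.congr_fun (congrArg CommRingCat.Hom.hom this) r }
  have hσ : ∀ f : Adeq.algOf R B ⟶ Adeq.algOf R (B ⊗[R] B), (gammaAlg R).map (q f).op ≫ σT = σ ≫ f := fun f => by
    refine ConcreteCategory.hom_ext _ _ fun x => ?_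
    exact ConcreteCategory.congr_hom (Scheme.ΓSpecIso_naturality (CommRingCat.ofHom f.hom.toRingHom)) x
  let h : T ⟶ pw (uB (R := R) B) 1 := Pi.lift (Fin.cases (q i₁) fun _ => q i₂)
  have hface : ∀ j : Fin 2, h ≫ (Pi.lift fun k => Pi.π (fun _ : Fin 2 => uB (R := R) B) (j.succAbove k)) =
      (Fin.cases (q i₂) (fun _ => q i₁) j : T ⟶ uB B) ≫ l := fun j => by
    apply Pi.hom_ext
    intro k
    obtain rfl : k = 0 := Fin.fin_one_eq_zero k
    fin_cases j <;> simp [h, l] <;> rfl
  have e : ∀ (j : Fin 2) (f : Adeq.algOf R B ⟶ Adeq.algOf R (B ⊗[R] B)),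
      (Fin.cases (q i₂) (fun _ => q i₁) j : T ⟶ uB B) = q f →
      fmap Q f y₀ = fmap Q ((gammaAlg R).map h.op ≫ σT) (fmap Q ((gammaAlg R).map
        (Pi.lift fun k => Pi.π (fun _ : Fin 2 => uB (R := R) B) (j.succAbove k) : pw (uB B) 1 ⟶ pw (uB B) 0).op) y) :=
    fun j f hf => by
      rw [← fmap_comp, ← fmap_comp]
      refine congrArg (fun m => fmap Q m y) ?_
      rw [← Category.assoc, ← Functor.map_comp, ← op_comp, hface, hf, op_comp, Functor.map_comp,
        Category.assoc, Category.assoc, hσ]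
  obtain ⟨x, hx⟩ := (exact_of_faithfullyFlat hQ B).2 y₀ (by
    show fmap Q i₁ y₀ = fmap Q i₂ y₀
    rw [e 1 i₁ rfl, e 0 i₂ rfl, hy])
  refine ⟨x, fun f => ?_⟩
  -- `y` comes back from `y₀`
  have hy₀ : fmap Q (secB B ≫ (gammaAlg R).map (Pi.π (fun _ : Fin 1 => uB (R := R) B) 0).op) y₀ = y := by
    rw [← fmap_comp]
    refine (congrArg (fun m => fmap Q m y) ?_).trans (fmap_id Q _ y)
    have h1 : σ ≫ secB B = 𝟙 _ := ConcreteCategory.hom_ext _ _ fun x =>
      ConcreteCategory.congr_hom (Scheme.ΓSpecIso (CommRingCat.of B)).hom_inv_id x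
    rw [Category.assoc, reassoc_of% h1, ← Functor.map_comp, ← op_comp]
    have h2 : Pi.π (fun _ : Fin 1 => uB (R := R) B) 0 ≫ l = 𝟙 _ := Pi.hom_ext _ _ fun k => by
      obtain rfl : k = 0 := Fin.fin_one_eq_zero k
      simp [l]
    rw [h2, op_id, CategoryTheory.Functor.map_id]
  rw [← hy₀, ← hx, ← fmap_comp]
  exact congrArg (fun m => fmap Q m x) (CommAlgCat.hom_ext (Subsingleton.elim _ _))

/-- The Čech complex of an adequate functor for a faithfully flat algebra is exact in positive degrees. -/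
theorem exactAt_adequate [Module.FaithfullyFlat R B] : ∀ (n : ℕ) (F : Adeq.MVF R), Adeq.adequate R F →
    (cechOne (uB B) ((PFfun R).obj F)).ExactAt (n + 1) := by
  intro n
  induction n with
  | zero =>
    intro F hF
    have hS := shortExact_cech (uB B) (shortExact_unitSeq B hF)
    have hQ : Adeq.adequate R (cokernel (unitHom B F)) :=
      adequate_cokernel _ hF (adequate_push B (adequate_restr B hF))
    rw [HomologicalComplex.exactAt_iff_isZero_homology]
    refine (hS.homology_exact₁ 0 1 rfl).isZero_of_both_zeros ?_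
      (((exactAt_shift B F 0).isZero_homology).eq_of_tgt _ _)
    haveI : Epi (HomologicalComplex.homologyMap ((cechComplexFunctor (fun _ : PUnit.{u + 2} => uB B)).map
        ((PFfun R).map (cokernel.π (unitHom B F)))) 0) := by
      haveI : Epi (HomologicalComplex.cyclesMap ((cechComplexFunctor (fun _ : PUnit.{u + 2} => uB B)).map
          ((PFfun R).map (cokernel.π (unitHom B F)))) 0) := by
        rw [AddCommGrpCat.epi_iff_surjective]
        intro z
        let Q := cokernel (unitHom B F)
        let G := shiftB B F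
        let π := cokernel.π (unitHom B F)
        let zx := (cechOne (uB B) ((PFfun R).obj Q)).iCycles 0 z
        have hz : (cechOne (uB B) ((PFfun R).obj Q)).d 0 1 zx = 0 :=
          ConcreteCategory.congr_hom ((cechOne (uB B) ((PFfun R).obj Q)).iCycles_d 0 1) z
        obtain ⟨x, hx⟩ := exists_descent B hQ (cmp (uB B) ((PFfun R).obj Q) 0 zx) (sub_eq_zero.1 (by
          exact (d_zero_one (uB B) ((PFfun R).obj Q) zx).symm.trans ((congrArg _ hz).trans (map_zero _))))
        haveI : Epi π := inferInstance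
        obtain ⟨g, hg⟩ := surjective_of_epi π (Adeq.algOf R R) x
        let X0 : Adeq.Alg R := (gammaAlg R).obj (op (pw (uB B) 0))
        let f₀ : Adeq.algOf R R ⟶ (gammaAlg R).obj (op (pw (uB B) 0)) :=
          (CommAlgCat.ofHom (Algebra.ofId R X0) : Adeq.algOf R R ⟶ Adeq.algOf R X0)
        let gx : (cechOne (uB B) ((PFfun R).obj G)).X 0 := inc (uB B) ((PFfun R).obj G) 0 (fmap G f₀ g)
        have hgx : cmp (uB B) ((PFfun R).obj G) 0 gx = fmap G f₀ g :=
          ConcreteCategory.congr_hom (cmp_inc (uB B) ((PFfun R).obj G) 0) _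
        have hd : (cechOne (uB B) ((PFfun R).obj G)).d 0 1 gx = 0 := by
          haveI := isIso_cmp (uB B) ((PFfun R).obj G) 1
          refine (ConcreteCategory.bijective_of_isIso (cmp (uB B) ((PFfun R).obj G) 1)).1 ?_
          rw [d_zero_one, map_zero, hgx, sub_eq_zero]
          show fmap G _ (fmap G f₀ g) = fmap G _ (fmap G f₀ g)
          rw [← fmap_comp, ← fmap_comp]
          exact congrArg (fun m => fmap G m g) (CommAlgCat.hom_ext (Subsingleton.elim _ _))
        obtain ⟨c, hc⟩ : ∃ c, (cechOne (uB B) ((PFfun R).obj G)).iCycles 0 c = gx :=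
          (ShortComplex.ab_exact_iff _).1
            (ShortComplex.exact_of_f_is_kernel
              (ShortComplex.mk _ _ ((cechOne (uB B) ((PFfun R).obj G)).iCycles_d 0 1))
              ((cechOne (uB B) ((PFfun R).obj G)).cyclesIsKernel 0 1 (by simp))) gx hd
        refine ⟨c, ?_⟩
        haveI : Mono ((cechOne (uB B) ((PFfun R).obj Q)).iCycles 0) := inferInstance
        refine (AddCommGrpCat.mono_iff_injective _).1 this ?_
        rw [← ConcreteCategory.comp_apply, HomologicalComplex.cyclesMap_i, ConcreteCategory.comp_apply,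
          hc]
        haveI := isIso_cmp (uB B) ((PFfun R).obj Q) 0
        refine (ConcreteCategory.bijective_of_isIso (cmp (uB B) ((PFfun R).obj Q) 0)).1 ?_
        refine (ConcreteCategory.congr_hom (map_cmp (uB B) ((PFfun R).map π) 0) gx).trans ?_
        refine (congrArg (fun w => app π ((gammaAlg R).obj (op (pw (uB B) 0))) w) hgx).trans ?_
        rw [app_fmap π, hg, hx f₀]
      exact epi_of_epi_fac (HomologicalComplex.homologyπ_naturality _ 0)
    rw [← cancel_epi (HomologicalComplex.homologyMap ((cechComplexFunctor (fun _ : PUnit.{u + 2} => uB B)).map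
        ((PFfun R).map (cokernel.π (unitHom B F)))) 0), comp_zero]
    exact hS.comp_δ 0 1 rfl
  | succ n ih =>
    intro F hF
    have hS := shortExact_cech (uB B) (shortExact_unitSeq B hF)
    have hQ : Adeq.adequate R (cokernel (unitHom B F)) :=
      adequate_cokernel _ hF (adequate_push B (adequate_restr B hF))
    rw [HomologicalComplex.exactAt_iff_isZero_homology]
    exact (hS.homology_exact₁ (n + 1) (n + 2) rfl).isZero_of_both_zeros
      (((ih _ hQ).isZero_homology).eq_of_src _ _) (((exactAt_shift B F (n + 1)).isZero_homology).eq_of_tgt _ _)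

end Groth.Agent.AdeqA
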