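import Groth.Agent.Lib.AdeqA.CechAdeq

/-!
# Exactness of the Čech complexes of adequate modules
-/

set_option autoImplicit false
set_option maxHeartbeats 400000

universe u

open CategoryTheory CategoryTheory.Limits AlgebraicGeometry Opposite

set_option backward.isDefEq.respectTransparency false
set_option backward.isDefEq.respectTransparency.types false

noncomputable section

namespace Groth.Agent.AdeqA

variable {K : Precoverage Scheme.{u}} [BigSite.OSh K] {S : Scheme.{u}} {R : CommRingCat.{u}} (a : Spec R ⟶ S)

theorem toSpecΓ_str (V : Over (Spec R)) : V.left.toSpecΓ ≫ Spec.map (toSec V.hom) = V.hom := by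
  apply toSec_injective
  rw [toSec_ofSec]

/-- A scheme over the base maps to the spectrum of its functions. -/
def toGamma (V : Over (Spec R)) : (Over.map a).obj V ⟶ sOb a ((gammaAlg R).obj (op V)) :=
  Over.homMk V.left.toSpecΓ ((Category.assoc _ _ _).symm.trans (congrArg (· ≫ a) (toSpecΓ_str V)))

theorem toGamma_natural {V W : Over (Spec R)} (g : W ⟶ V) :
    (Over.map a).map g ≫ toGamma a V = toGamma a W ≫ sMap a ((gammaAlg R).map g.op) := by
  ext : 1
  exact Scheme.toSpecΓ_naturality g.left

variable (M : BigSite.Mod K S)

/-- The comparison of presheaves. -/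
def gammaTrans : (PFfun R).obj ((Adeq.toMVF K a).obj M) ⟶
    (Over.map a).op ⋙ ((BigSite.toAbMod K S).obj M).obj where
  app V := M.val.presheaf.map (toGamma a V.unop).op
  naturality V W g := by
    show M.val.presheaf.map (sMap a ((gammaAlg R).map g.unop.op)).op ≫ M.val.presheaf.map (toGamma a W.unop).op =
      M.val.presheaf.map (toGamma a V.unop).op ≫ M.val.presheaf.map ((Over.map a).map g.unop).op
    rw [← Functor.map_comp, ← Functor.map_comp, ← op_comp, ← op_comp, toGamma_natural]

theorem isIso_gammaTrans (V : Over (Spec R)) [IsAffine V.left] : IsIso ((gammaTrans a M).app (op V)) := by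
  haveI : IsIso (toGamma a V).left := inferInstanceAs (IsIso V.left.toSpecΓ)
  haveI : IsIso (toGamma a V) := by
    haveI : IsIso ((Over.forget S).map (toGamma a V)) := inferInstanceAs (IsIso (toGamma a V).left)
    exact isIso_of_reflects_iso _ (Over.forget S)
  exact inferInstanceAs (IsIso (M.val.presheaf.map (toGamma a V).op))

theorem cech_exactAt (h : Adeq.adequate R ((Adeq.toMVF K a).obj M)) (B : Type u) [CommRing B] [Algebra R B]
    [Module.FaithfullyFlat R B] (n : ℕ) :
    ((cechComplexFunctor (A := AddCommGrpCat.{u + 1})
        (fun _ : PUnit.{u + 2} => (Over.mk (Spec.map (CommRingCat.ofHom (algebraMap R B))) : Over (Spec R)))).obj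
      ((Over.map a).op ⋙ ((BigSite.toAbMod K S).obj M).obj)).ExactAt (n + 1) := by
  haveI := isIso_cech_map (uB B) (gammaTrans a M) fun m => by
    haveI := isAffine_pw (R := R) B m
    exact isIso_gammaTrans a M _
  exact HomologicalComplex.ExactAt.of_iso (exactAt_adequate B n _ h)
    (asIso ((cechComplexFunctor (fun _ : PUnit.{u + 2} => uB B)).map (gammaTrans a M)))

end Groth.Agent.AdeqA
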