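import Groth.Prelude.Def_Adeq
import Mathlib.Algebra.Category.ModuleCat.EnoughInjectives
import Mathlib.CategoryTheory.Preadditive.Injective.Basic

/-!
# The category of module-valued functors on algebras has enough injectives

The product of the cofree functors `B' ↦ ∏_{g : B' ⟶ B} J_B` for injective modules `J_B` is injective.
-/

set_option autoImplicit false

universe u

open CategoryTheory Opposite Limits

noncomputable section

namespace Groth.Agent.AdeqA

variable {A : Type u} [CommRing A] (J : ∀ B : Adeq.Alg A, ModuleCat.{u + 1} (B : Type u))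

/-- The values of the cofree functor. -/
abbrev CofreeVal (X : (Adeq.Alg A)ᵒᵖᵒᵖ) : Type (u + 1) :=
  ∀ B : Adeq.Alg A, (X.unop.unop ⟶ B) → J B

instance cofreeModule (X : (Adeq.Alg A)ᵒᵖᵒᵖ) : Module (X.unop.unop : Type u) (CofreeVal J X) where
  smul r x := fun B g => g.hom r • x B g
  one_smul x := funext₂ fun B g => by
    show g.hom 1 • x B g = x B g
    rw [map_one, one_smul]
  mul_smul r s x := funext₂ fun B g => by
    show g.hom (r * s) • x B g = g.hom r • g.hom s • x B g
    rw [map_mul, mul_smul]
  smul_zero r := funext₂ fun B g => smul_zero (g.hom r)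
  smul_add r x y := funext₂ fun B g => smul_add (g.hom r) _ _
  add_smul r s x := funext₂ fun B g => by
    show g.hom (r + s) • x B g = g.hom r • x B g + g.hom s • x B g
    rw [map_add, add_smul]
  zero_smul x := funext₂ fun B g => by
    show g.hom 0 • x B g = 0
    rw [map_zero, zero_smul]

/-- The underlying presheaf of abelian groups of the cofree functor. -/
def cofreeAb : (Adeq.Alg A)ᵒᵖᵒᵖ ⥤ Ab.{u + 1} where
  obj X := AddCommGrpCat.of (CofreeVal J X)
  map f := AddCommGrpCat.ofHom
    { toFun := fun x B g => x B (f.unop.unop ≫ g)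
      map_zero' := rfl
      map_add' := fun _ _ => rfl }
  map_id X := by
    ext x B g
    exact congrArg (x B) (Category.id_comp g)
  map_comp f g := by
    ext x B k
    exact congrArg (x B) (Category.assoc f.unop.unop g.unop.unop k)

instance (X : (Adeq.Alg A)ᵒᵖᵒᵖ) : Module ((Adeq.ringOf A).obj X) ((cofreeAb J).obj X) :=
  cofreeModule J X

/-- The product of the cofree functors on the modules `J B`. -/
def cofree : Adeq.MVF A :=
  PresheafOfModules.ofPresheaf (cofreeAb J) (fun X Y f r m => by rfl)

variable {J}

/-- A family of linear maps `F(B) → J B` defines a morphism to the cofree functor. -/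
def toCofree (F : Adeq.MVF A) (φ : ∀ B : Adeq.Alg A, F.obj (Adeq.pt B) →ₗ[(B : Type u)] J B) :
    F ⟶ cofree J :=
  PresheafOfModules.homMk
    { app X := AddCommGrpCat.ofHom
        { toFun := fun x B g => φ B (F.map (Adeq.ptHom g) x)
          map_zero' := funext₂ fun B g => by
            exact (congrArg (φ B) (map_zero (F.map (Adeq.ptHom g)).hom)).trans (map_zero (φ B))
          map_add' := fun x y => funext₂ fun B g => by
            exact (congrArg (φ B) (map_add (F.map (Adeq.ptHom g)).hom x y)).trans
              (map_add (φ B) _ _) }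
      naturality {X Y} f := by
        ext x
        funext B g
        show φ B (F.map (Adeq.ptHom g) (F.map f x)) = φ B (F.map (Adeq.ptHom (f.unop.unop ≫ g)) x)
        rw [← F.map_comp_apply]
        rfl }
    (fun X r m => funext₂ fun B g => by
      show φ B (F.map (Adeq.ptHom g) (r • m)) = g.hom r • φ B (F.map (Adeq.ptHom g) m)
      rw [F.map_smul]
      exact (φ B).map_smul (g.hom r) _)

/-- The component at `B` of a morphism to the cofree functor. -/
def component {F : Adeq.MVF A} (ψ : F ⟶ cofree J) (B : Adeq.Alg A) :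
    F.obj (Adeq.pt B) →ₗ[(B : Type u)] J B where
  toFun x := (show CofreeVal J (Adeq.pt B) from ψ.app (Adeq.pt B) x) B (𝟙 B)
  map_add' x y := by
    rw [map_add]
    rfl
  map_smul' r x := by
    rw [map_smul]
    rfl

theorem toCofree_component {F : Adeq.MVF A} (ψ : F ⟶ cofree J) : toCofree F (component ψ) = ψ := by
  refine PresheafOfModules.hom_ext fun X => ?_
  ext x
  funext B g
  show (show CofreeVal J (Adeq.pt B) from ψ.app (Adeq.pt B) (F.map (Adeq.ptHom g) x)) B (𝟙 B) =
    (show CofreeVal J X from ψ.app X x) B g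
  rw [show ψ.app (Adeq.pt B) (F.map (Adeq.ptHom g) x) = (cofree J).map (Adeq.ptHom g) (ψ.app X x) from
    PresheafOfModules.naturality_apply ψ _ x]
  exact congrArg ((show CofreeVal J X from ψ.app X x) B) (Category.comp_id g)

theorem comp_toCofree {F F' : Adeq.MVF A} (α : F' ⟶ F)
    (φ : ∀ B : Adeq.Alg A, F.obj (Adeq.pt B) →ₗ[(B : Type u)] J B) :
    α ≫ toCofree F φ = toCofree F' (fun B => φ B ∘ₗ (α.app (Adeq.pt B)).hom) := by
  refine PresheafOfModules.hom_ext fun X => ?_
  ext x
  funext B g
  show φ B (F.map (Adeq.ptHom g) (α.app X x)) = φ B (α.app (Adeq.pt B) (F'.map (Adeq.ptHom g) x))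
  exact congrArg (φ B) (PresheafOfModules.naturality_apply α (Adeq.ptHom g : X ⟶ Adeq.pt B) x).symm

instance cofree_injective [∀ B, Injective (J B)] : Injective (cofree J) where
  factors {X Y} g f _ := by
    have h : ∀ B : Adeq.Alg A, Mono (f.app (Adeq.pt B)) := fun B =>
      (ModuleCat.mono_iff_injective _).2 (PresheafOfModules.injective_of_mono f _)
    let e : ∀ B : Adeq.Alg A, Y.obj (Adeq.pt B) →ₗ[(B : Type u)] J B := fun B =>
      haveI := h B
      (Injective.factorThru (ModuleCat.ofHom (component g B)) (f.app (Adeq.pt B))).hom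
    refine ⟨toCofree Y e, ?_⟩
    rw [comp_toCofree]
    conv_rhs => rw [← toCofree_component g]
    congr 1
    funext B
    haveI := h B
    exact congrArg ModuleCat.Hom.hom
      (Injective.comp_factorThru (ModuleCat.ofHom (component g B)) (f.app (Adeq.pt B)))

theorem mono_toCofree (F : Adeq.MVF A) (φ : ∀ B : Adeq.Alg A, F.obj (Adeq.pt B) →ₗ[(B : Type u)] J B)
    (hφ : ∀ B, Function.Injective (φ B)) : Mono (toCofree F φ) := by
  refine PresheafOfModules.mono_of_injective fun X x y hxy => ?_
  refine hφ X.unop.unop ?_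
  have h1 : φ X.unop.unop (F.map (Adeq.ptHom (𝟙 X.unop.unop) : X ⟶ Adeq.pt X.unop.unop) x) =
      φ X.unop.unop (F.map (Adeq.ptHom (𝟙 X.unop.unop) : X ⟶ Adeq.pt X.unop.unop) y) :=
    congrFun (congrFun hxy X.unop.unop) (𝟙 X.unop.unop)
  change φ X.unop.unop (F.map (𝟙 X) x) = φ X.unop.unop (F.map (𝟙 X) y) at h1
  rwa [F.map_id] at h1

theorem enoughInjectives_mvf : EnoughInjectives (Adeq.MVF A) := by
  refine ⟨fun F => ?_⟩
  let P := fun B : Adeq.Alg A => (EnoughInjectives.presentation
    (C := ModuleCat.{u + 1} (B : Type u)) (F.obj (Adeq.pt B))).some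
  haveI : ∀ B, Injective ((P B).J) := fun B => (P B).injective
  exact ⟨{ J := cofree fun B => (P B).J
           injective := inferInstance
           f := toCofree F fun B => (P B).f.hom
           mono := mono_toCofree F _ fun B =>
             (ModuleCat.mono_iff_injective (P B).f).1 (P B).mono }⟩

end Groth.Agent.AdeqA
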