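import Groth.Agent.Lib.AdeqA.Ext
import Groth.Agent.Lib.AdeqA.Injective
import Mathlib.CategoryTheory.Adjunction.Comma
import Mathlib.CategoryTheory.Preadditive.AdditiveFunctor
import Mathlib.CategoryTheory.Abelian.Basic

/-!
# The coreflector onto adequate functors; injectives
-/

set_option autoImplicit false

universe u

open CategoryTheory Opposite Limits TensorProduct

noncomputable section

namespace Groth.Agent.AdeqA

variable {A : Type u} [CommRing A]

/-- The free module `A^n`, one universe up. -/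
abbrev Fr (A : Type u) [CommRing A] (n : ℕ) : ModuleCat.{u + 1} A :=
  ModuleCat.of A (ULift.{u + 1} (Fin n → A))

/-- A small type indexing the linearly adequate functors. -/
abbrev Idx (A : Type u) [CommRing A] : Type u :=
  (n : ℕ) × (m : ℕ) × ((Fin n → A) →ₗ[A] (Fin m → A))

/-- The map of free modules of an index. -/
def stdMap (p : Idx A) : Fr A p.1 ⟶ Fr A p.2.1 :=
  ModuleCat.ofHom ((ULift.moduleEquiv (R := A) (M := Fin p.2.1 → A)).symm.toLinearMap ∘ₗ p.2.2 ∘ₗ
    (ULift.moduleEquiv (R := A) (M := Fin p.1 → A)).toLinearMap)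

/-- The standard linearly adequate functors. -/
def std (p : Idx A) : Adeq.MVF A := kernel (uM A (stdMap p))

theorem linAdequate_std (p : Idx A) : Adeq.linAdequate A (std p) :=
  ⟨Fr A p.1, Fr A p.2.1, stdMap p,
    Module.Finite.equiv (ULift.moduleEquiv (R := A) (M := Fin p.1 → A)).symm,
    Module.Free.of_equiv (ULift.moduleEquiv (R := A) (M := Fin p.1 → A)).symm,
    Module.Finite.equiv (ULift.moduleEquiv (R := A) (M := Fin p.2.1 → A)).symm,
    Module.Free.of_equiv (ULift.moduleEquiv (R := A) (M := Fin p.2.1 → A)).symm, ⟨Iso.refl _⟩⟩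

theorem exists_iso_std {L : Adeq.MVF A} (h : Adeq.linAdequate A L) : ∃ p : Idx A, Nonempty (L ≅ std p) := by
  obtain ⟨M, N, g, h1, h2, h3, h4, ⟨e⟩⟩ := h
  obtain ⟨n, ⟨b⟩⟩ := exists_fin_basis M
  obtain ⟨m, ⟨c⟩⟩ := exists_fin_basis N
  let eM : M ≅ Fr A n := (b.equivFun.trans (ULift.moduleEquiv (R := A) (M := Fin n → A)).symm).toModuleIso
  let eN : N ≅ Fr A m := (c.equivFun.trans (ULift.moduleEquiv (R := A) (M := Fin m → A)).symm).toModuleIso
  let p : Idx A := ⟨n, m, c.equivFun.toLinearMap ∘ₗ g.hom ∘ₗ b.equivFun.symm.toLinearMap⟩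
  have w : g ≫ eN.hom = eM.hom ≫ stdMap p := by
    refine ModuleCat.hom_ext (LinearMap.ext fun x => ?_)
    show _ = ULift.up (c.equivFun (g.hom (b.equivFun.symm (b.equivFun x))))
    rw [LinearEquiv.symm_apply_apply]
    rfl
  exact ⟨p, ⟨e ≪≫ kernel.mapIso _ _ ((Adeq.underline A).mapIso eM) ((Adeq.underline A).mapIso eN) (by
    rw [Functor.mapIso_hom, Functor.mapIso_hom, ← uM_comp, w, uM_comp])⟩⟩

theorem exists_coreflection (F : Adeq.MVF A) :
    ∃ (Q : Adeq.MVF A) (_ : Adeq.adequate A Q) (ε : Q ⟶ F),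
      ∀ (G : Adeq.MVF A), Adeq.adequate A G → ∀ φ : G ⟶ F, ∃! ψ : G ⟶ Q, ψ ≫ ε = φ := by
  classical
  let I₀ : Type (u + 1) := (p : Idx A) × (std p ⟶ F)
  obtain ⟨c₀, hc₀, a₀⟩ := exists_adequate_coproduct (fun i : I₀ => std i.1)
    fun i => adequate_of_linAdequate (linAdequate_std i.1)
  let π₀ : c₀.pt ⟶ F := Cofan.IsColimit.desc hc₀ fun i => i.2
  let I₁ : Type (u + 1) := (p : Idx A) × { α : std p ⟶ c₀.pt // α ≫ π₀ = 0 }
  obtain ⟨c₁, hc₁, a₁⟩ := exists_adequate_coproduct (fun i : I₁ => std i.1)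
    fun i => adequate_of_linAdequate (linAdequate_std i.1)
  let ρ : c₁.pt ⟶ c₀.pt := Cofan.IsColimit.desc hc₁ fun i => i.2.1
  have hρ : ρ ≫ π₀ = 0 := Cofan.IsColimit.hom_ext hc₁ _ _ fun i => by
    rw [← Category.assoc, Cofan.IsColimit.fac, i.2.2, comp_zero]
  let q := cokernel.π ρ
  let ε := cokernel.desc ρ π₀ hρ
  -- maps from linearly adequate functors
  have hfac : ∀ {L : Adeq.MVF A}, Adeq.linAdequate A L → ∀ φ : L ⟶ F, ∃ l : L ⟶ c₀.pt, l ≫ π₀ = φ := by
    intro L hL φ
    obtain ⟨p, ⟨e⟩⟩ := exists_iso_std hL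
    refine ⟨e.hom ≫ c₀.inj ⟨p, e.inv ≫ φ⟩, ?_⟩
    rw [Category.assoc, Cofan.IsColimit.fac, e.hom_inv_id_assoc]
  have hkill : ∀ {L : Adeq.MVF A}, Adeq.linAdequate A L → ∀ α : L ⟶ c₀.pt, α ≫ π₀ = 0 → α ≫ q = 0 := by
    intro L hL α hα
    obtain ⟨p, ⟨e⟩⟩ := exists_iso_std hL
    have h0 : (e.inv ≫ α) ≫ π₀ = 0 := by rw [Category.assoc, hα, comp_zero]
    have h1 : c₁.inj ⟨p, e.inv ≫ α, h0⟩ ≫ ρ = e.inv ≫ α := Cofan.IsColimit.fac hc₁ _ _
    rw [← e.hom_inv_id_assoc α, ← h1, Category.assoc, Category.assoc, cokernel.condition, comp_zero, comp_zero]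
  have aQ : Adeq.adequate A (cokernel ρ) := adequate_cokernel ρ a₁ a₀
  refine ⟨cokernel ρ, aQ, ε, fun G hG φ => ?_⟩
  -- uniqueness
  have huniq : ∀ d : G ⟶ cokernel ρ, d ≫ ε = 0 → d = 0 := by
    intro d hd
    obtain ⟨w, L, hL, c, hc, P, P', φ₀, k, π, -, hπ⟩ := exists_cover hG
    haveI := epi_of_surjective π hπ
    refine (cancel_epi π).1 (Cofan.IsColimit.hom_ext hc _ _ fun i => ?_)
    obtain ⟨M, N, g, j, h1, h2, h3, h4, hj⟩ := (linAdequate_iff _).1 (hL i)
    obtain ⟨l, hl⟩ := exists_lift hj (isKer_kernel q) (fun B => surjective_of_epi q B)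
      (adequate_kernel q a₀ aQ) (c.inj i ≫ π ≫ d)
    have hz : l ≫ π₀ = 0 := by
      rw [← cokernel.π_desc ρ π₀ hρ, ← Category.assoc, hl, Category.assoc, Category.assoc, hd, comp_zero, comp_zero]
    rw [← hl, hkill (hL i) l hz, comp_zero, comp_zero]
  -- existence
  obtain ⟨w, L, hL, c, hc, P, P', φ₀, k, π, -, hπ⟩ := exists_cover hG
  haveI := epi_of_surjective π hπ
  choose l hl using fun i => hfac (hL i) (c.inj i ≫ π ≫ φ)
  let Φ : c.pt ⟶ c₀.pt := Cofan.IsColimit.desc hc l
  have hΦ : Φ ≫ π₀ = π ≫ φ := Cofan.IsColimit.hom_ext hc _ _ fun i => by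
    rw [← Category.assoc, Cofan.IsColimit.fac, hl]
  have hcpt : Adeq.adequate A c.pt := by
    obtain ⟨c', hc', h'⟩ := exists_adequate_coproduct L fun i => adequate_of_linAdequate (hL i)
    exact (Adeq.adequate A).prop_of_iso (hc'.coconePointUniqueUpToIso hc) h'
  have hker : kernel.ι π ≫ Φ ≫ q = 0 := by
    obtain ⟨w', L', hL', c', hc', Q1, Q2, ψ₀, k', π', -, hπ'⟩ := exists_cover (adequate_kernel π hcpt hG)
    haveI := epi_of_surjective π' hπ'
    refine (cancel_epi π').1 (Cofan.IsColimit.hom_ext hc' _ _ fun i => ?_)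
    rw [comp_zero, comp_zero]
    have h := hkill (hL' i) (c'.inj i ≫ π' ≫ kernel.ι π ≫ Φ) (by
      simp only [Category.assoc, hΦ, kernel.condition_assoc, zero_comp, comp_zero])
    simpa only [Category.assoc] using h
  refine ⟨Abelian.epiDesc π (Φ ≫ q) hker, ?_, fun ψ hψ => ?_⟩
  · show _ ≫ ε = φ
    rw [← cancel_epi π, ← Category.assoc, Abelian.comp_epiDesc, Category.assoc, cokernel.π_desc, hΦ]
  · refine sub_eq_zero.1 (huniq _ ?_)
    rw [Preadditive.sub_comp, hψ, ← cancel_epi π, Preadditive.comp_sub, ← Category.assoc π _ ε,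
      Abelian.comp_epiDesc, Category.assoc, cokernel.π_desc, hΦ, sub_self, comp_zero]

theorem isLeftAdjoint_adequate_ι : (Adeq.adequate A).ι.IsLeftAdjoint := by
  haveI : ∀ F : Adeq.MVF A, HasTerminal (CostructuredArrow (Adeq.adequate A).ι F) := by
    intro F
    obtain ⟨Q, hQ, ε, h⟩ := exists_coreflection F
    let T : CostructuredArrow (Adeq.adequate A).ι F :=
      CostructuredArrow.mk (show (Adeq.adequate A).ι.obj ⟨Q, hQ⟩ ⟶ F from ε)
    refine IsTerminal.hasTerminal (X := T) (IsTerminal.ofUniqueHom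
      (fun X => CostructuredArrow.homMk (ObjectProperty.homMk (h X.left.obj X.left.property X.hom).choose) ?_)
      fun X m => ?_)
    · exact (h X.left.obj X.left.property X.hom).choose_spec.1
    · refine CostructuredArrow.hom_ext _ _ (ObjectProperty.hom_ext _ ?_)
      exact (h X.left.obj X.left.property X.hom).choose_spec.2 m.left.hom (CostructuredArrow.w m)
  exact isLeftAdjoint_of_costructuredArrowTerminals _

theorem preservesMonomorphisms_adequate_ι : (Adeq.adequate A).ι.PreservesMonomorphisms where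
  preserves {X Y} f _ := by
    let K : Adeq.Adequate A := ⟨kernel f.hom, adequate_kernel f.hom X.property Y.property⟩
    have h : ObjectProperty.homMk (X := K) (Y := X) (kernel.ι f.hom) = 0 := by
      rw [← cancel_mono f, zero_comp]
      exact ObjectProperty.hom_ext _ (kernel.condition f.hom)
    exact Preadditive.mono_of_kernel_zero (f := f.hom) (congrArg (·.hom) h)

theorem enoughInjectives_adequate : EnoughInjectives (Adeq.Adequate A) := by
  haveI := isLeftAdjoint_adequate_ι (A := A)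
  haveI := preservesMonomorphisms_adequate_ι (A := A)
  haveI := enoughInjectives_mvf (A := A)
  refine ⟨fun X => ?_⟩
  let adj := Adjunction.ofIsLeftAdjoint (Adeq.adequate A).ι
  let P := (EnoughInjectives.presentation ((Adeq.adequate A).ι.obj X)).some
  refine ⟨{ J := (Adeq.adequate A).ι.rightAdjoint.obj P.J
            injective := adj.map_injective P.J P.injective
            f := (adj.homEquiv X P.J) P.f
            mono := ?_ }⟩
  have h : (Adeq.adequate A).ι.map ((adj.homEquiv X P.J) P.f) ≫ adj.counit.app P.J = P.f := by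
    exact ((adj.homEquiv_counit _ _ _).symm).trans ((adj.homEquiv X P.J).symm_apply_apply P.f)
  haveI := P.mono
  haveI : Mono ((Adeq.adequate A).ι.map ((adj.homEquiv X P.J) P.f)) := mono_of_mono_fac h
  exact (Adeq.adequate A).ι.mono_of_mono_map this

end Groth.Agent.AdeqA
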