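import Groth.Agent.Lib.AdeqA.Univ
import Mathlib.LinearAlgebra.Finsupp.LinearCombination
import Mathlib.LinearAlgebra.TensorProduct.Finiteness

/-!
# Covers of adequate functors by sums of linearly adequate ones; cokernels, kernels, colimits
-/

set_option autoImplicit false

universe u

open CategoryTheory Opposite Limits TensorProduct

noncomputable section

namespace Groth.Agent.AdeqA

variable {A : Type u} [CommRing A]

theorem IsKer.exists_hom {F G H T : Adeq.MVF A} {β : G ⟶ H} {ι : F ⟶ G} (h : IsKer β ι) (f : T ⟶ G)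
    (hf : ∀ B x, app β B (app f B x) = 0) : ∃ l : T ⟶ F, l ≫ ι = f := by
  choose t ht using fun B x => h.exists_lift B (app f B x) (hf B x)
  refine ⟨mkHom (fun B =>
    { toFun := t B
      map_add' := fun x y => h.inj B (by rw [map_add, ht, ht, ht, map_add])
      map_smul' := fun r x => h.inj B (by rw [RingHom.id_apply, map_smul, ht, ht, map_smul]) })
    (fun B B' g x => h.inj B' ?_), hom_ext fun B x => ht B x⟩
  show app ι B' (t B' (fmap T g x)) = app ι B' (fmap F g (t B x))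
  rw [ht, app_fmap, app_fmap, ht]

theorem lTensor_eq_zero_of_prod {M N₁ N₂ : ModuleCat.{u + 1} A} (B : Adeq.Alg A) (f : M →ₗ[A] N₁)
    (g : M →ₗ[A] N₂) (z : (B : Type u) ⊗[A] M) :
    (f.prod g).lTensor (B : Type u) z = 0 ↔ f.lTensor (B : Type u) z = 0 ∧ g.lTensor (B : Type u) z = 0 := by
  constructor
  · intro h
    constructor
    · rw [← LinearMap.fst_prod f g, LinearMap.lTensor_comp_apply, h, map_zero]
    · rw [← LinearMap.snd_prod f g, LinearMap.lTensor_comp_apply, h, map_zero]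
  · rintro ⟨h1, h2⟩
    rw [show f.prod g = LinearMap.inl A N₁ N₂ ∘ₗ f + LinearMap.inr A N₁ N₂ ∘ₗ g from
      LinearMap.ext fun x => by simp, LinearMap.lTensor_add, LinearMap.add_apply,
      LinearMap.lTensor_comp_apply, LinearMap.lTensor_comp_apply, h1, h2, map_zero, map_zero, add_zero]

/-- The map to a product of modules. -/
abbrev prodHom {M N₁ N₂ : ModuleCat.{u + 1} A} (f : M ⟶ N₁) (g : M ⟶ N₂) :
    M ⟶ ModuleCat.of A (N₁ × N₂) :=
  ModuleCat.ofHom (f.hom.prod g.hom)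

theorem app_uM_prodHom_eq_zero {M N₁ N₂ : ModuleCat.{u + 1} A} (f : M ⟶ N₁) (g : M ⟶ N₂)
    (B : Adeq.Alg A) (z : El (uO A M) B) :
    app (uM A (prodHom f g)) B z = 0 ↔ app (uM A f) B z = 0 ∧ app (uM A g) B z = 0 := by
  rw [← ofT_toT z, app_uM, app_uM, app_uM, ofT_eq_zero, ofT_eq_zero, ofT_eq_zero]
  exact lTensor_eq_zero_of_prod B f.hom g.hom _

theorem app_uM_uM {M N T : ModuleCat.{u + 1} A} (f : M ⟶ N) (g : N ⟶ T) (B : Adeq.Alg A)
    (z : El (uO A M) B) : app (uM A (f ≫ g)) B z = app (uM A g) B (app (uM A f) B z) := by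
  rw [← app_comp]; exact congrArg (fun t => app t B z) ((Adeq.underline A).map_comp f g)

theorem uM_comp {M N T : ModuleCat.{u + 1} A} (f : M ⟶ N) (g : N ⟶ T) : uM A (f ≫ g) = uM A f ≫ uM A g :=
  (Adeq.underline A).map_comp f g

theorem uM_id (M : ModuleCat.{u + 1} A) : uM A (𝟙 M) = 𝟙 (uO A M) :=
  (Adeq.underline A).map_id M

theorem uM_zero (M N : ModuleCat.{u + 1} A) : uM A (0 : M ⟶ N) = 0 :=
  (Adeq.underline A).map_zero M N

/-- A kernel of `underline φ₀` with the extension property. -/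
structure IsCov {L : Adeq.MVF A} {P P' : ModuleCat.{u + 1} A} (φ₀ : P ⟶ P') (k : L ⟶ uO A P) : Prop where
  ker : IsKer (uM A φ₀) k
  ext : ∀ {M : ModuleCat.{u + 1} A} (φ : L ⟶ uO A M), ∃ g : P ⟶ M, k ≫ uM A g = φ
  factor : ∀ {M : ModuleCat.{u + 1} A} (g : P ⟶ M), k ≫ uM A g = 0 → ∃ h : P' ⟶ M, φ₀ ≫ h = g

theorem isCov_of_finite {L : Adeq.MVF A} {P P' : ModuleCat.{u + 1} A} {φ₀ : P ⟶ P'} {k : L ⟶ uO A P}
    [Module.Finite A P] [Module.Free A P] [Module.Finite A P'] [Module.Free A P']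
    (hk : IsKer (uM A φ₀) k) : IsCov φ₀ k :=
  ⟨hk, exists_extension hk, exists_factor hk⟩

theorem exists_cover_at {F : Adeq.MVF A} (hF : Adeq.adequate A F) (B : Adeq.Alg A) (x : El F B) :
    ∃ (P P' : ModuleCat.{u + 1} A) (φ₀ : P ⟶ P') (π : kernel (uM A φ₀) ⟶ F),
      Module.Finite A P ∧ Module.Free A P ∧ Module.Finite A P' ∧ Module.Free A P' ∧
        ∃ y, app π B y = x := by
  classical
  obtain ⟨M, N, g, ι, hι⟩ := (adequate_iff F).1 hF
  obtain ⟨s, hs⟩ := TensorProduct.exists_finset (toT (app ι B x))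
  have h0 := hι.zero B x
  rw [← ofT_toT (app ι B x), app_uM, ofT_eq_zero, hs, map_sum] at h0
  simp only [LinearMap.lTensor_tmul] at h0
  let q : (N →₀ A) →ₗ[A] N := Finsupp.linearCombination A id
  let y : (B : Type u) ⊗[A] (N →₀ A) := ∑ p ∈ s, p.1 ⊗ₜ[A] Finsupp.single (g.hom p.2) 1
  have hy : q.lTensor (B : Type u) y = 0 := by
    rw [← h0, map_sum]
    refine Finset.sum_congr rfl fun p _ => ?_
    rw [LinearMap.lTensor_tmul]
    simp [q]
  have hqs : Function.Surjective q := Finsupp.linearCombination_id_surjective A N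
  obtain ⟨v, hv⟩ := (lTensor_exact (M := LinearMap.ker q) (f := (LinearMap.ker q).subtype) (g := q) (B : Type u) (LinearMap.exact_subtype_ker_map q) hqs y).1 hy
  obtain ⟨t, ht⟩ := TensorProduct.exists_finset v
  let S : Finset N := s.image (fun p => g.hom p.2) ∪ t.biUnion fun p => (p.2 : N →₀ A).support
  let P : ModuleCat.{u + 1} A := ModuleCat.of A ((↥s ⊕ ↥t) → A)
  let P' : ModuleCat.{u + 1} A := ModuleCat.of A (↥S → A)
  let χ : ((↥s ⊕ ↥t) → A) →ₗ[A] (N →₀ A) := Fintype.linearCombination A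
    (Sum.elim (fun p : ↥s => Finsupp.single (g.hom p.1.2) 1) (fun p : ↥t => -(p.1.2 : N →₀ A)))
  let gM : ((↥s ⊕ ↥t) → A) →ₗ[A] M := Fintype.linearCombination A
    (Sum.elim (fun p : ↥s => p.1.2) (fun _ : ↥t => 0))
  let r : (N →₀ A) →ₗ[A] (↥S → A) := LinearMap.pi fun n => Finsupp.lapply n.1
  let q' : (↥S → A) →ₗ[A] N := Fintype.linearCombination A fun n : ↥S => n.1
  let φ₀ : P ⟶ P' := ModuleCat.ofHom (r ∘ₗ χ)
  have hcomm : ModuleCat.ofHom gM ≫ g = φ₀ ≫ ModuleCat.ofHom q' := by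
    refine ModuleCat.hom_ext ((Pi.basisFun A (↥s ⊕ ↥t)).ext fun i => ?_)
    have hsupp : ∀ f : N →₀ A, f.support ⊆ S → q' (r f) = q f := by
      intro f hf
      rw [Fintype.linearCombination_apply, Finsupp.linearCombination_apply,
        Finsupp.sum_of_support_subset f hf (fun i a => a • id i) (fun i _ => zero_smul A (id i))]
      exact Finset.sum_coe_sort S fun n => f n • id n
    rw [Pi.basisFun_apply]
    show g.hom (gM (Pi.single i 1)) = q' (r (χ (Pi.single i 1)))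
    simp only [gM, χ, Fintype.linearCombination_apply_single, one_smul]
    cases i with
    | inl p =>
      rw [Sum.elim_inl, Sum.elim_inl, hsupp _ fun n hn => ?_]
      · simp [q]
      · rw [Finset.mem_singleton.1 (Finsupp.support_single_subset hn)]
        exact Finset.mem_union_left _ (Finset.mem_image.2 ⟨p.1, p.2, rfl⟩)
    | inr p =>
      rw [Sum.elim_inr, Sum.elim_inr, map_zero, map_neg, map_neg, hsupp _ fun n hn => ?_]
      · rw [LinearMap.mem_ker.1 p.1.2.2, neg_zero]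
      · exact Finset.mem_union_right _ (Finset.mem_biUnion.2 ⟨p.1, p.2, hn⟩)
  have hz : ∀ B' z, app (uM A g) B' (app (kernel.ι (uM A φ₀) ≫ uM A (ModuleCat.ofHom gM)) B' z) = 0 := by
    intro B' z
    rw [app_comp, ← app_uM_uM, hcomm, app_uM_uM, (isKer_kernel (uM A φ₀)).zero, map_zero]
  obtain ⟨π, hπ⟩ := hι.exists_hom _ hz
  let x' : (B : Type u) ⊗[A] P :=
    ∑ i, (Sum.elim (fun p : ↥s => p.1.1) (fun p : ↥t => p.1.1) i) ⊗ₜ[A]
      (Pi.single i 1 : (↥s ⊕ ↥t) → A)
  have hx' : χ.lTensor (B : Type u) x' = 0 := by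
    simp only [x', map_sum, map_add, Fintype.sum_sum_type, LinearMap.lTensor_tmul, χ,
      Fintype.linearCombination_apply_single, one_smul, Sum.elim_inl, Sum.elim_inr, TensorProduct.tmul_neg,
      Finset.sum_neg_distrib]
    rw [Finset.sum_coe_sort s fun p : _ × M => p.1 ⊗ₜ[A] Finsupp.single (g.hom p.2) (1 : A),
      Finset.sum_coe_sort t fun p : _ × LinearMap.ker q => p.1 ⊗ₜ[A] (p.2 : N →₀ A)]
    rw [show (∑ p ∈ s, p.1 ⊗ₜ[A] Finsupp.single (g.hom p.2) (1 : A)) = y from rfl, ← hv, ht, map_sum]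
    exact add_neg_cancel _
  obtain ⟨z, hz'⟩ := (isKer_kernel (uM A φ₀)).exists_lift B (ofT x') (by
    rw [app_uM, ofT_eq_zero]
    show (r ∘ₗ χ).lTensor (B : Type u) x' = 0
    rw [LinearMap.lTensor_comp_apply, hx', map_zero])
  refine ⟨P, P', φ₀, π, inferInstance, inferInstance, inferInstance, inferInstance, z, hι.inj B ?_⟩
  rw [← app_comp, hπ, app_comp, hz', app_uM, ← ofT_toT (app ι B x), hs]
  congr 1
  simp only [x', map_sum, map_add, Fintype.sum_sum_type, LinearMap.lTensor_tmul, ModuleCat.hom_ofHom, gM,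
    Fintype.linearCombination_apply_single, one_smul, Sum.elim_inl, Sum.elim_inr, TensorProduct.tmul_zero,
    Finset.sum_const_zero, add_zero]
  have hgl : ∀ i : ↥s, gM (Pi.single (Sum.inl i) 1) = i.1.2 := fun i =>
    (Fintype.linearCombination_apply_single A _ (Sum.inl i) 1).trans (one_smul A _)
  have hgr : ∀ i : ↥t, gM (Pi.single (Sum.inr i) 1) = 0 := fun i =>
    (Fintype.linearCombination_apply_single A _ (Sum.inr i) 1).trans (one_smul A _)
  refine (congrArg₂ (· + ·) (Finset.sum_congr rfl fun i _ => congrArg _ (hgl i))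
    (Finset.sum_eq_zero fun i _ => (congrArg _ (hgr i)).trans (TensorProduct.tmul_zero _ _))).trans
    ((add_zero _).trans (Finset.sum_coe_sort s fun p : _ × M => p.1 ⊗ₜ[A] p.2))

/-- An adequate functor is covered by a sum of linearly adequate ones. -/
theorem exists_cover {F : Adeq.MVF A} (hF : Adeq.adequate A F) :
    ∃ (ι : Type (u + 1)) (L : ι → Adeq.MVF A), (∀ i, Adeq.linAdequate A (L i)) ∧
      ∃ (c : Cofan L) (_ : IsColimit c) (P P' : ModuleCat.{u + 1} A) (φ₀ : P ⟶ P') (k : c.pt ⟶ uO A P)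
        (π : c.pt ⟶ F), IsCov φ₀ k ∧ ∀ B, Function.Surjective (app π B) := by
  classical
  choose P P' φ π h1 h2 h3 h4 y hy using
    fun p : (B : Adeq.Alg A) × El F B => exists_cover_at hF p.1 p.2
  let L : ((B : Adeq.Alg A) × El F B) → Adeq.MVF A := fun p => kernel (uM A (φ p))
  obtain ⟨c, hc, K, hK, hKi⟩ :=
    exists_coproduct φ (fun p => kernel.ι (uM A (φ p))) (fun p => isKer_kernel _) (L := L)
  have hcov : IsCov (sumMap φ) K := by
    refine ⟨hK, fun {M} ψ => ?_, fun {M} g hg => ?_⟩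
    · have := fun p => @exists_extension A _ _ _ _ _ _ (isKer_kernel (uM A (φ p))) (h1 p) (h2 p) (h3 p) (h4 p) M
        (c.inj p ≫ ψ)
      choose g hg using this
      refine ⟨ModuleCat.ofHom (DirectSum.toModule A _ M fun p => (g p).hom), Cofan.IsColimit.hom_ext hc _ _
        fun p => ?_⟩
      rw [← Category.assoc, hKi, Category.assoc, ← uM_comp, ← hg p]
      congr 2
      refine ModuleCat.hom_ext (LinearMap.ext fun m => ?_)
      exact DirectSum.toModule_lof A (φ := fun p => (g p).hom) p m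
    · have h0 : ∀ p, kernel.ι (uM A (φ p)) ≫ uM A (sumInj P p ≫ g) = 0 := fun p => by
        rw [uM_comp, ← Category.assoc, ← hKi, Category.assoc, hg, comp_zero]
      have := fun p => @exists_factor A _ _ _ _ _ _ (isKer_kernel (uM A (φ p))) (h1 p) (h2 p) (h3 p) (h4 p) M
        (sumInj P p ≫ g) (h0 p)
      choose h hh using this
      refine ⟨ModuleCat.ofHom (DirectSum.toModule A _ M fun p => (h p).hom),
        ModuleCat.hom_ext (DirectSum.linearMap_ext A fun p => LinearMap.ext fun m => ?_)⟩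
      show DirectSum.toModule A _ M (fun p => (h p).hom)
        (DirectSum.lmap (fun p => (φ p).hom) (DirectSum.lof A _ (fun p => P p) p m)) =
          g.hom (DirectSum.lof A _ (fun p => P p) p m)
      rw [DirectSum.lmap_lof, DirectSum.toModule_lof]
      exact congrArg (fun f => ModuleCat.Hom.hom f m) (hh p)
  refine ⟨_, L, fun p => (linAdequate_iff _).2 ⟨_, _, φ p, kernel.ι _, h1 p, h2 p, h3 p, h4 p, isKer_kernel _⟩,
    c, hc, _, _, _, K, Cofan.IsColimit.desc hc π, hcov, fun B x => ?_⟩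
  refine ⟨app (c.inj ⟨B, x⟩) B (y ⟨B, x⟩), ?_⟩
  rw [← app_comp, Cofan.IsColimit.fac]
  exact hy ⟨B, x⟩

/-- The image and cokernel of a morphism from a cover to some `underline M`. -/
theorem IsCov.exists_coker {L : Adeq.MVF A} {P P' M : ModuleCat.{u + 1} A} {φ₀ : P ⟶ P'}
    {k : L ⟶ uO A P} (h : IsCov φ₀ k) (ψ : L ⟶ uO A M) :
    ∃ (Q R : ModuleCat.{u + 1} A) (q : M ⟶ Q) (r : Q ⟶ R),
      (∀ B z, app (uM A q) B z = 0 ↔ ∃ x, app ψ B x = z) ∧
      (∀ B z, app (uM A r) B z = 0 ↔ ∃ x, app (uM A q) B x = z) ∧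
      ∀ {N : ModuleCat.{u + 1} A} (f : M ⟶ N), ψ ≫ uM A f = 0 → ∃ f' : Q ⟶ N, q ≫ f' = f := by
  obtain ⟨g, hg⟩ := h.ext ψ
  let l : P →ₗ[A] M × P' := g.hom.prod (-φ₀.hom)
  let q : M →ₗ[A] (M × P') ⧸ LinearMap.range l := (LinearMap.range l).mkQ ∘ₗ LinearMap.inl A M P'
  let r : ((M × P') ⧸ LinearMap.range l) →ₗ[A] P' ⧸ LinearMap.range φ₀.hom :=
    (LinearMap.range l).liftQ ((LinearMap.range φ₀.hom).mkQ ∘ₗ LinearMap.snd A M P') (by
      rintro _ ⟨p, rfl⟩
      rw [LinearMap.mem_ker, LinearMap.comp_apply]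
      exact (Submodule.Quotient.mk_eq_zero _).2 (neg_mem ⟨p, rfl⟩))
  have hqr : Function.Exact q r := by
    intro w
    constructor
    · obtain ⟨⟨m, p'⟩, rfl⟩ := Submodule.mkQ_surjective _ w
      intro hw
      obtain ⟨p, hp⟩ := (Submodule.Quotient.mk_eq_zero _).1 hw
      refine ⟨m + g.hom p, (Submodule.Quotient.eq _).2 ⟨p, ?_⟩⟩
      show (g.hom p, -φ₀.hom p) = (m + g.hom p, (0 : P')) - (m, p')
      rw [hp]
      simp
    · rintro ⟨m, rfl⟩
      show (LinearMap.range φ₀.hom).mkQ 0 = 0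
      rw [map_zero]
  have hr : Function.Surjective r := fun w => by
    obtain ⟨p, rfl⟩ := Submodule.mkQ_surjective _ w
    exact ⟨(LinearMap.range l).mkQ (0, p), rfl⟩
  refine ⟨ModuleCat.of A _, ModuleCat.of A _, ModuleCat.ofHom q, ModuleCat.ofHom r, fun B z => ?_,
    fun B z => ?_, fun {N} f hf => ?_⟩
  · rw [← ofT_toT z, app_uM, ofT_eq_zero, ModuleCat.hom_ofHom]
    constructor
    · intro hz
      rw [LinearMap.lTensor_comp_apply] at hz
      obtain ⟨w, hw⟩ := (lTensor_exact (B : Type u) (LinearMap.exact_map_mkQ_range l)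
        (Submodule.mkQ_surjective _) _).1 hz
      have h1 := congrArg ((LinearMap.fst A M P').lTensor (B : Type u)) hw
      have h2 := congrArg ((LinearMap.snd A M P').lTensor (B : Type u)) hw
      rw [← LinearMap.lTensor_comp_apply, ← LinearMap.lTensor_comp_apply, LinearMap.fst_prod,
        LinearMap.fst_comp_inl, LinearMap.lTensor_id, LinearMap.id_apply] at h1
      rw [← LinearMap.lTensor_comp_apply, ← LinearMap.lTensor_comp_apply, LinearMap.snd_prod,
        LinearMap.snd_comp_inl, LinearMap.lTensor_zero, LinearMap.zero_apply, LinearMap.lTensor_neg,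
        LinearMap.neg_apply, neg_eq_zero] at h2
      obtain ⟨x, hx⟩ := h.ker.exists_lift B (ofT w) (by rw [app_uM, ofT_eq_zero]; exact h2)
      refine ⟨x, ?_⟩
      rw [← hg, app_comp, hx, app_uM, h1]
    · rintro ⟨x, hx⟩
      rw [← hg, app_comp, ← ofT_toT (app k B x), app_uM, ofT_inj] at hx
      have h0 := h.ker.zero B x
      rw [← ofT_toT (app k B x), app_uM, ofT_eq_zero] at h0
      rw [← hx, ← LinearMap.lTensor_comp_apply,
        show q ∘ₗ g.hom = (LinearMap.range l).mkQ ∘ₗ LinearMap.inr A M P' ∘ₗ φ₀.hom from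
          LinearMap.ext fun p => (Submodule.Quotient.eq _).2 ⟨p, Prod.ext (sub_zero _).symm (zero_sub _).symm⟩,
        LinearMap.lTensor_comp_apply, LinearMap.lTensor_comp_apply, h0, map_zero, map_zero]
  · rw [← ofT_toT z, app_uM, ofT_eq_zero]
    refine Iff.trans (lTensor_exact (B : Type u) hqr hr (toT z)) ⟨?_, ?_⟩
    · rintro ⟨w, hw⟩
      exact ⟨ofT w, by rw [app_uM, ← hw]; rfl⟩
    · rintro ⟨w, hw⟩
      exact ⟨toT w, by rw [← ofT_toT w, app_uM, ofT_inj] at hw; exact hw⟩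
  · obtain ⟨h', hh'⟩ := h.factor (g ≫ f) (by rw [uM_comp, ← Category.assoc, hg, hf])
    refine ⟨ModuleCat.ofHom ((LinearMap.range l).liftQ (f.hom.coprod h'.hom) ?_),
      ModuleCat.hom_ext (LinearMap.ext fun m => ?_)⟩
    · rintro _ ⟨p, rfl⟩
      show f.hom (g.hom p) + h'.hom (-φ₀.hom p) = 0
      rw [map_neg, show h'.hom (φ₀.hom p) = f.hom (g.hom p) from congrArg (fun t => ModuleCat.Hom.hom t p) hh',
        add_neg_cancel]
    · show f.hom m + h'.hom 0 = f.hom m
      rw [map_zero, add_zero]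

/-- The cokernel of a morphism, elementwise. -/
theorem isKer_cokernel {F G H K : Adeq.MVF A} (φ : F ⟶ G) (τ : G ⟶ H) (β : H ⟶ K) (w : φ ≫ τ = 0)
    (h1 : ∀ B x, app τ B x = 0 → ∃ y, app φ B y = x) (h2 : ∀ B x, app β B (app τ B x) = 0)
    (h3 : ∀ B y, app β B y = 0 → ∃ x, app τ B x = y) : IsKer β (cokernel.desc φ τ w) where
  inj B := by
    rw [injective_iff_map_eq_zero]
    intro z hz
    obtain ⟨x, rfl⟩ := surjective_of_epi (cokernel.π φ) B z
    rw [← app_comp, cokernel.π_desc] at hz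
    obtain ⟨y, rfl⟩ := h1 B x hz
    rw [← app_comp, cokernel.condition, app_zero]
  zero B z := by
    obtain ⟨x, rfl⟩ := surjective_of_epi (cokernel.π φ) B z
    rw [← app_comp (cokernel.π φ) (cokernel.desc φ τ w), cokernel.π_desc, h2]
  exists_lift B y hy := by
    obtain ⟨x, hx⟩ := h3 B y hy
    exact ⟨app (cokernel.π φ) B x, by rw [← app_comp, cokernel.π_desc, hx]⟩

theorem adequate_cokernel {F G : Adeq.MVF A} (φ : F ⟶ G) (hF : Adeq.adequate A F) (hG : Adeq.adequate A G) :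
    Adeq.adequate A (cokernel φ) := by
  obtain ⟨M, N, f, j, hj⟩ := (adequate_iff G).1 hG
  obtain ⟨_, _, -, c, -, P, P', φ₀, k, π, hk, hπ⟩ := exists_cover hF
  obtain ⟨Q, R, q, r, hq, hr, hlift⟩ := hk.exists_coker (π ≫ φ ≫ j)
  obtain ⟨f', hf'⟩ := hlift f (hom_ext fun B x => by
    rw [app_comp, app_comp, app_comp, hj.zero]; rfl)
  have w : φ ≫ j ≫ uM A q = 0 := hom_ext fun B x => by
    obtain ⟨y, rfl⟩ := hπ B x
    rw [app_zero, app_comp, app_comp]
    exact (hq B _).2 ⟨y, rfl⟩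
  refine (adequate_iff _).2 ⟨Q, _, prodHom f' r, cokernel.desc φ (j ≫ uM A q) w,
    isKer_cokernel φ _ _ w (fun B x hx => ?_) (fun B x => ?_) fun B y hy => ?_⟩
  · obtain ⟨y, hy⟩ := (hq B _).1 hx
    exact ⟨app π B y, hj.inj B hy⟩
  · rw [app_uM_prodHom_eq_zero, app_comp]
    exact ⟨by rw [← app_uM_uM, hf', hj.zero], (hr B _).2 ⟨_, rfl⟩⟩
  · rw [app_uM_prodHom_eq_zero] at hy
    obtain ⟨z, rfl⟩ := (hr B y).1 hy.2
    rw [← app_uM_uM, hf'] at hy
    obtain ⟨x, rfl⟩ := hj.exists_lift B z hy.1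
    exact ⟨x, rfl⟩

theorem adequate_kernel {F G : Adeq.MVF A} (φ : F ⟶ G) (hF : Adeq.adequate A F) (hG : Adeq.adequate A G) :
    Adeq.adequate A (kernel φ) := by
  obtain ⟨M, N, f, ι, hι⟩ := (adequate_iff F).1 hF
  obtain ⟨M', N', f', j, hj⟩ := (adequate_iff G).1 hG
  obtain ⟨_, _, -, c, -, P, P', φ₀, k, π, hk, hπ⟩ := exists_cover hF
  let inl : M ⟶ ModuleCat.of A (M × M') := ModuleCat.ofHom (LinearMap.inl A M M')
  let inr : M' ⟶ ModuleCat.of A (M × M') := ModuleCat.ofHom (LinearMap.inr A M M')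
  let fst : ModuleCat.of A (M × M') ⟶ M := ModuleCat.ofHom (LinearMap.fst A M M')
  have hli : inl ≫ fst = 𝟙 M := ModuleCat.hom_ext (LinearMap.ext fun _ => rfl)
  have hri : inr ≫ fst = 0 := ModuleCat.hom_ext (LinearMap.ext fun _ => rfl)
  obtain ⟨Q, R, q, r, hq, -, -⟩ := hk.exists_coker (π ≫ (ι ≫ uM A inl - φ ≫ j ≫ uM A inr))
  have hkey : ∀ B (y : El F B), app (uM A (inl ≫ q)) B (app ι B y) =
      app (uM A (inr ≫ q)) B (app j B (app φ B y)) := by
    intro B y
    obtain ⟨x, rfl⟩ := hπ B y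
    have h := (hq B _).2 ⟨x, rfl⟩
    rw [app_comp, app_sub, map_sub, sub_eq_zero] at h
    rw [app_uM_uM, app_uM_uM]
    exact h
  have hinj : ∀ B z, app (uM A (inr ≫ q)) B z = 0 → z = 0 := by
    intro B z hz
    rw [app_uM_uM] at hz
    obtain ⟨x, hx⟩ := (hq B _).1 hz
    rw [app_comp, app_sub, app_comp, app_comp, app_comp] at hx
    have h1 := congrArg (app (uM A fst) B) hx
    rw [map_sub, ← app_uM_uM, ← app_uM_uM, ← app_uM_uM, hli, hri, uM_id, uM_zero, app_id,
      app_zero, app_zero, sub_zero] at h1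
    have h2 : app π B x = 0 := hι.inj B (by rw [h1, map_zero])
    rw [h2, map_zero, map_zero, map_zero, map_zero, map_zero, sub_zero] at hx
    obtain ⟨w, rfl⟩ : ∃ w, ofT w = z := ⟨toT z, rfl⟩
    rw [app_uM, ← ofT_zero, ofT_inj] at hx
    have hsnd : LinearMap.snd A M M' ∘ₗ LinearMap.inr A M M' = LinearMap.id := LinearMap.ext fun _ => rfl
    rw [ofT_eq_zero, ← LinearMap.id_apply (R := A) w, ← LinearMap.lTensor_id, ← hsnd,
      LinearMap.lTensor_comp_apply]
    exact (congrArg ((LinearMap.snd A M M').lTensor (B : Type u)) hx.symm).trans (map_zero _)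
  refine (adequate_iff _).2 ⟨M, _, prodHom f (inl ≫ q), kernel.ι φ ≫ ι, ⟨fun B x y h => ?_, fun B x => ?_,
    fun B z hz => ?_⟩⟩
  · exact (isKer_kernel φ).inj B (hι.inj B h)
  · rw [app_uM_prodHom_eq_zero, app_comp, hι.zero, hkey, (isKer_kernel φ).zero, map_zero, map_zero]
    exact ⟨rfl, rfl⟩
  · rw [app_uM_prodHom_eq_zero] at hz
    obtain ⟨y, rfl⟩ := hι.exists_lift B z hz.1
    have h0 := hz.2
    rw [hkey] at h0
    obtain ⟨x, hx⟩ := (isKer_kernel φ).exists_lift B y (hj.inj B (by rw [hinj B _ h0, map_zero]))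
    exact ⟨x, by rw [app_comp, hx]⟩

theorem exists_adequate_coproduct {ι : Type (u + 1)} (L : ι → Adeq.MVF A) (h : ∀ i, Adeq.adequate A (L i)) :
    ∃ (c : Cofan L) (_ : IsColimit c), Adeq.adequate A c.pt := by
  classical
  choose M N g k hk using fun i => (adequate_iff (L i)).1 (h i)
  obtain ⟨c, hc, K, hK, -⟩ := exists_coproduct g k hk
  exact ⟨c, hc, (adequate_iff _).2 ⟨_, _, _, K, hK⟩⟩

theorem adequate_colimit {J : Type (u + 1)} [SmallCategory J] (D : J ⥤ Adeq.MVF A)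
    (hD : ∀ j, Adeq.adequate A (D.obj j)) : Adeq.adequate A (colimit D) := by
  obtain ⟨c₀, hc₀, a₀⟩ := exists_adequate_coproduct (fun j => D.obj j) hD
  obtain ⟨c₁, hc₁, a₁⟩ := exists_adequate_coproduct (fun f : (i : J) × (j : J) × (i ⟶ j) => D.obj f.1)
    fun f => hD f.1
  let δ : c₁.pt ⟶ c₀.pt :=
    Cofan.IsColimit.desc hc₁ fun f => D.map f.2.2 ≫ c₀.inj f.2.1 - c₀.inj f.1
  have hδ : ∀ i j (f : i ⟶ j), c₁.inj ⟨i, j, f⟩ ≫ δ = D.map f ≫ c₀.inj j - c₀.inj i := fun i j f =>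
    Cofan.IsColimit.fac hc₁ _ _
  let s : Cocone D :=
    { pt := cokernel δ
      ι :=
        { app := fun j => c₀.inj j ≫ cokernel.π δ
          naturality := fun i j f => by
            have h := congrArg (· ≫ cokernel.π δ) (hδ i j f)
            rw [Category.assoc, cokernel.condition, comp_zero, Preadditive.sub_comp, eq_comm, sub_eq_zero,
              Category.assoc] at h
            rw [h]
            exact (Category.comp_id _).symm } }
  have hs : IsColimit s :=
    { desc := fun t => cokernel.desc δ (Cofan.IsColimit.desc hc₀ fun j => t.ι.app j)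
        (Cofan.IsColimit.hom_ext hc₁ _ _ fun f => by
          rw [← Category.assoc, hδ, Preadditive.sub_comp, Category.assoc, Cofan.IsColimit.fac,
            Cofan.IsColimit.fac, t.w, sub_self, comp_zero])
      fac := fun t j => by
        show (c₀.inj j ≫ cokernel.π δ) ≫ _ = _
        rw [Category.assoc, cokernel.π_desc, Cofan.IsColimit.fac]
      uniq := fun t m hm => by
        refine (cancel_epi (cokernel.π δ)).1 (Cofan.IsColimit.hom_ext hc₀ _ _ fun j => ?_)
        rw [cokernel.π_desc, Cofan.IsColimit.fac, ← hm j, ← Category.assoc] }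
  exact (Adeq.adequate A).prop_of_iso (hs.coconePointUniqueUpToIso (colimit.isColimit D))
    (adequate_cokernel δ a₁ a₀)

end Groth.Agent.AdeqA
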