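import Groth.Agent.Lib.AdeqA.DescFam
import Mathlib.RingTheory.Flat.FaithfullyFlat.Algebra
import Mathlib.RingTheory.TensorProduct.Pi
import Mathlib.RingTheory.Spectrum.Prime.Topology
import Mathlib.RingTheory.RingHom.FaithfullyFlat

/-!
# Finite products and descent along finite families for adequate functors
-/

set_option autoImplicit false
set_option maxHeartbeats 400000

universe u

open CategoryTheory Opposite Limits TensorProduct

noncomputable section

namespace Groth.Agent.AdeqA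

variable {A : Type u} [CommRing A]

/-- A finite product decomposition of an algebra. -/
structure IsProd {I : Type} [Fintype I] [DecidableEq I] {C : Adeq.Alg A} {Ci : I → Adeq.Alg A}
    (p : ∀ i, C ⟶ Ci i) (s : ∀ i, Ci i →ₗ[A] C) : Prop where
  sum : ∀ c, ∑ i, s i ((p i).hom c) = c
  proj : ∀ i, (p i).hom.toLinearMap ∘ₗ s i = LinearMap.id
  orth : ∀ i k, i ≠ k → (p k).hom.toLinearMap ∘ₗ s i = 0

section Prod

variable {I : Type} [Fintype I] [DecidableEq I] {C : Adeq.Alg A} {Ci : I → Adeq.Alg A}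
  {p : ∀ i, C ⟶ Ci i} {s : ∀ i, Ci i →ₗ[A] C}

theorem IsProd.tensor_injective (h : IsProd p s) {M : ModuleCat.{u + 1} A} (z : El (uO A M) C)
    (hz : ∀ i, fmap (uO A M) (p i) z = 0) : z = 0 := by
  have hsum : ∑ i, (s i ∘ₗ (p i).hom.toLinearMap) = LinearMap.id :=
    LinearMap.ext fun c => by simpa using h.sum c
  have hz' : ∀ i, (p i).hom.toLinearMap.rTensor M (toT z) = 0 := fun i => by
    have := hz i
    rwa [← ofT_toT z, fmap_ofT, ofT_eq_zero] at this
  have h2 : (∑ i, (s i ∘ₗ (p i).hom.toLinearMap)).rTensor M (toT z) = toT z := by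
    rw [hsum, LinearMap.rTensor_id, LinearMap.id_apply]
  refine (congrArg ofT h2).symm.trans ?_
  rw [← LinearMap.coe_rTensorHom, map_sum, LinearMap.sum_apply]
  rw [Finset.sum_eq_zero fun i _ => ?_, ofT_zero]
  rw [LinearMap.coe_rTensorHom, LinearMap.rTensor_comp_apply, hz' i, map_zero]

theorem IsProd.tensor_surjective (h : IsProd p s) {M : ModuleCat.{u + 1} A} (w : ∀ i, El (uO A M) (Ci i)) :
    ∃ z : El (uO A M) C, ∀ i, fmap (uO A M) (p i) z = w i := by
  refine ⟨ofT (∑ k, (s k).rTensor M (toT (w k))), fun i => ?_⟩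
  rw [fmap_ofT, map_sum, Finset.sum_eq_single i]
  · rw [← LinearMap.rTensor_comp_apply, h.proj, LinearMap.rTensor_id, LinearMap.id_apply, ofT_toT]
  · intro k _ hk
    rw [← LinearMap.rTensor_comp_apply, h.orth k i hk, LinearMap.rTensor_zero, LinearMap.zero_apply]
  · intro hi
    exact absurd (Finset.mem_univ i) hi

theorem IsProd.injective (h : IsProd p s) {F : Adeq.MVF A} (hF : Adeq.adequate A F) {x y : El F C}
    (hxy : ∀ i, fmap F (p i) x = fmap F (p i) y) : x = y := by
  obtain ⟨M, N, g, ι, hι⟩ := (adequate_iff F).1 hF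
  refine hι.inj _ (sub_eq_zero.1 (h.tensor_injective (app ι C x - app ι C y) fun i => ?_))
  rw [map_sub, ← app_fmap ι, ← app_fmap ι, hxy, sub_self]

theorem IsProd.surjective (h : IsProd p s) {F : Adeq.MVF A} (hF : Adeq.adequate A F) (w : ∀ i, El F (Ci i)) :
    ∃ z : El F C, ∀ i, fmap F (p i) z = w i := by
  obtain ⟨M, N, g, ι, hι⟩ := (adequate_iff F).1 hF
  obtain ⟨z, hz⟩ := h.tensor_surjective fun i => app ι (Ci i) (w i)
  have h0 : app (uM A g) C z = 0 := h.tensor_injective _ fun i => by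
    rw [← app_fmap (uM A g), hz, hι.zero]
  obtain ⟨x, hx⟩ := hι.exists_lift C z h0
  exact ⟨x, fun i => hι.inj _ (by rw [app_fmap ι, hx, hz])⟩

/-- The tensor product of two product decompositions. -/
theorem IsProd.tmul {K : Type} [Fintype K] [DecidableEq K] {D : Adeq.Alg A} {Dk : K → Adeq.Alg A}
    {q : ∀ k, D ⟶ Dk k} {t : ∀ k, Dk k →ₗ[A] D} (hp : IsProd p s) (hq : IsProd q t) :
    IsProd
      (fun x : I × K => (CommAlgCat.ofHom (Algebra.TensorProduct.map (p x.1).hom (q x.2).hom) :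
        Adeq.algOf A ((C : Type u) ⊗[A] D) ⟶ Adeq.algOf A ((Ci x.1 : Type u) ⊗[A] Dk x.2)))
      (fun x => TensorProduct.map (s x.1) (t x.2)) where
  sum c := by
    induction c using TensorProduct.induction_on with
    | zero => simp only [map_zero, Finset.sum_const_zero]
    | add x y hx hy => simp only [map_add, Finset.sum_add_distrib, hx, hy]
    | tmul a b =>
      show ∑ x : I × K, s x.1 ((p x.1).hom a) ⊗ₜ[A] t x.2 ((q x.2).hom b) = _
      rw [Fintype.sum_prod_type]
      show ∑ i, ∑ k, s i ((p i).hom a) ⊗ₜ[A] t k ((q k).hom b) = _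
      rw [Finset.sum_congr rfl fun i _ => (TensorProduct.tmul_sum (s i ((p i).hom a)) Finset.univ
        (fun k => t k ((q k).hom b))).symm, hq.sum]
      rw [← TensorProduct.sum_tmul Finset.univ (fun i => s i ((p i).hom a)) b, hp.sum]
  proj x := TensorProduct.ext' fun a b => by
    show (p x.1).hom (s x.1 a) ⊗ₜ[A] (q x.2).hom (t x.2 b) = a ⊗ₜ[A] b
    rw [show (p x.1).hom (s x.1 a) = a from LinearMap.congr_fun (hp.proj x.1) a,
      show (q x.2).hom (t x.2 b) = b from LinearMap.congr_fun (hq.proj x.2) b]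
  orth x y hxy := TensorProduct.ext' fun a b => by
    show (p y.1).hom (s x.1 a) ⊗ₜ[A] (q y.2).hom (t x.2 b) = 0
    by_cases h1 : x.1 = y.1
    · have h2 : x.2 ≠ y.2 := fun h2 => hxy (Prod.ext h1 h2)
      rw [show (q y.2).hom (t x.2 b) = 0 from LinearMap.congr_fun (hq.orth _ _ h2) b, TensorProduct.tmul_zero]
    · rw [show (p y.1).hom (s x.1 a) = 0 from LinearMap.congr_fun (hp.orth _ _ h1) a, TensorProduct.zero_tmul]

end Prod

section Family

variable {J : Type} [Fintype J] [DecidableEq J] (A' : J → Type u) [∀ j, CommRing (A' j)] [∀ j, Algebra A (A' j)]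

/-- The projections of a product algebra. -/
abbrev piProj (j : J) : Adeq.algOf A (∀ j, A' j) ⟶ Adeq.algOf A (A' j) :=
  CommAlgCat.ofHom (Pi.evalAlgHom A A' j)

theorem isProd_pi : IsProd (A := A) (piProj A') (fun j => LinearMap.single A A' j) where
  sum c := Finset.univ_sum_single c
  proj j := LinearMap.ext fun a => Pi.single_eq_same j a
  orth i k h := LinearMap.ext fun a => Pi.single_eq_of_ne h.symm a

theorem faithfullyFlat_pi [∀ j, Module.Flat A (A' j)]
    (h : ∀ p : PrimeSpectrum A, ∃ j, p ∈ Set.range (PrimeSpectrum.comap (algebraMap A (A' j)))) :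
    Module.FaithfullyFlat A (∀ j, A' j) := by
  haveI : Module.Flat A (∀ j, A' j) := Module.Flat.of_linearEquiv DFinsupp.linearEquivFunOnFintype.symm
  refine Module.FaithfullyFlat.of_comap_surjective fun p => ?_
  obtain ⟨j, q, hq⟩ := h p
  exact ⟨PrimeSpectrum.comap (Pi.evalRingHom A' j) q, by rw [← hq]; rfl⟩

/-- Descent of elements of an adequate functor along a finite faithfully flat family. -/
theorem exact_of_family {F : Adeq.MVF A} (hF : Adeq.adequate A F) [Module.FaithfullyFlat A (∀ j, A' j)] :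
    (∀ x : El F (Adeq.algOf A A),
        (∀ j, fmap F (CommAlgCat.ofHom (Algebra.ofId A (A' j)) : Adeq.algOf A A ⟶ Adeq.algOf A (A' j)) x = 0) → x = 0) ∧
      ∀ y : ∀ j, El F (Adeq.algOf A (A' j)),
        (∀ j k, fmap F (CommAlgCat.ofHom (Algebra.TensorProduct.includeLeft : A' j →ₐ[A] A' j ⊗[A] A' k) :
              Adeq.algOf A (A' j) ⟶ Adeq.algOf A (A' j ⊗[A] A' k)) (y j) =
            fmap F (CommAlgCat.ofHom (Algebra.TensorProduct.includeRight : A' k →ₐ[A] A' j ⊗[A] A' k) :
              Adeq.algOf A (A' k) ⟶ Adeq.algOf A (A' j ⊗[A] A' k)) (y k)) →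
        ∃ x, ∀ j, fmap F (CommAlgCat.ofHom (Algebra.ofId A (A' j)) : Adeq.algOf A A ⟶ Adeq.algOf A (A' j)) x = y j := by
  have hB := exact_of_faithfullyFlat hF (∀ j, A' j)
  have hp := isProd_pi (A := A) A'
  have hpe : ∀ j (x : El F (Adeq.algOf A A)),
      fmap F (piProj A' j) (fmap F (CommAlgCat.ofHom (Algebra.ofId A (∀ j, A' j))) x) =
        fmap F (CommAlgCat.ofHom (Algebra.ofId A (A' j)) : Adeq.algOf A A ⟶ Adeq.algOf A (A' j)) x := fun j x => by
    rw [← fmap_comp]
    rfl
  refine ⟨fun x hx => hB.1 ?_, fun y hy => ?_⟩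
  · refine hp.injective hF fun j => ?_
    rw [map_zero, map_zero, hpe, hx]
  · obtain ⟨z, hz⟩ := hp.surjective hF y
    obtain ⟨x, hx⟩ := hB.2 z ((hp.tmul hp).injective hF fun w => by
      have h1 := hy w.1 w.2
      rw [← hz, ← hz, ← fmap_comp, ← fmap_comp] at h1
      rw [← fmap_comp, ← fmap_comp]
      refine Eq.trans ?_ (h1.trans ?_)
      · congr 2
      · congr 2)
    exact ⟨x, fun j => by rw [← hpe, hx, hz]⟩

end Family

end Groth.Agent.AdeqA
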