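import Groth.Agent.Lib.AdeqA.Basic
import Mathlib.LinearAlgebra.Finsupp.LinearCombination
import Mathlib.CategoryTheory.Preadditive.Injective.Basic

/-!
# Free module-valued functors
-/

set_option autoImplicit false

universe u

open CategoryTheory Opposite Limits

noncomputable section

namespace Groth.Agent.AdeqA

variable {A : Type u} [CommRing A]

/-- The values of the free functor on `B₀`. -/
abbrev FreeVal (B₀ : Adeq.Alg A) (X : (Adeq.Alg A)ᵒᵖᵒᵖ) : Type (u + 1) :=
  ULift.{u + 1} ((B₀ ⟶ X.unop.unop) →₀ (X.unop.unop : Type u))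

/-- The transition maps of the free functor. -/
def freeTrans (B₀ : Adeq.Alg A) {B B' : Adeq.Alg A} (f : B ⟶ B') :
    ((B₀ ⟶ B) →₀ (B : Type u)) →+ ((B₀ ⟶ B') →₀ (B' : Type u)) :=
  (Finsupp.mapDomain.addMonoidHom fun φ => φ ≫ f).comp
    (Finsupp.mapRange.addMonoidHom f.hom.toRingHom.toAddMonoidHom)

theorem freeTrans_single (B₀ : Adeq.Alg A) {B B' : Adeq.Alg A} (f : B ⟶ B') (φ : B₀ ⟶ B) (b : B) :
    freeTrans B₀ f (Finsupp.single φ b) = Finsupp.single (φ ≫ f) (f.hom b) := by
  simp [freeTrans]

/-- The underlying presheaf of abelian groups of the free functor on `B₀`. -/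
def freeAb (B₀ : Adeq.Alg A) : (Adeq.Alg A)ᵒᵖᵒᵖ ⥤ Ab.{u + 1} where
  obj X := AddCommGrpCat.of (FreeVal B₀ X)
  map {X Y} f := AddCommGrpCat.ofHom
    { toFun := fun x => ULift.up (freeTrans B₀ f.unop.unop x.down)
      map_zero' := ULift.ext _ _ (map_zero _)
      map_add' := fun x y => ULift.ext _ _ (map_add _ _ _) }
  map_id X := by
    refine AddCommGrpCat.hom_ext (AddMonoidHom.ext fun x => ?_)
    refine ULift.ext _ _ ?_
    show freeTrans B₀ (𝟙 X.unop.unop) x.down = x.down
    induction x.down using Finsupp.induction_linear with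
    | zero => rw [map_zero]
    | single φ b => rw [freeTrans_single, Category.comp_id]; rfl
    | add p q hp hq => rw [map_add, hp, hq]
  map_comp {X Y Z} f g := by
    refine AddCommGrpCat.hom_ext (AddMonoidHom.ext fun x => ?_)
    refine ULift.ext _ _ ?_
    show freeTrans B₀ (f.unop.unop ≫ g.unop.unop) x.down =
      freeTrans B₀ g.unop.unop (freeTrans B₀ f.unop.unop x.down)
    induction x.down using Finsupp.induction_linear with
    | zero => simp only [map_zero]
    | single φ b => rw [freeTrans_single, freeTrans_single, freeTrans_single, Category.assoc]; rfl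
    | add p q hp hq => simp only [map_add, hp, hq]

instance freeModule (B₀ : Adeq.Alg A) (X : (Adeq.Alg A)ᵒᵖᵒᵖ) :
    Module ((Adeq.ringOf A).obj X) ((freeAb B₀).obj X) :=
  inferInstanceAs (Module (X.unop.unop : Type u) (FreeVal B₀ X))

/-- The free functor on `B₀`. -/
def freeObj (B₀ : Adeq.Alg A) : Adeq.MVF A :=
  PresheafOfModules.ofPresheaf (freeAb B₀) fun X Y f r m => by
    refine ULift.ext _ _ ?_
    show freeTrans B₀ f.unop.unop ((r : (X.unop.unop : Type u)) • m.down) =
      f.unop.unop.hom r • freeTrans B₀ f.unop.unop m.down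
    induction m.down using Finsupp.induction_linear with
    | zero => simp only [smul_zero, map_zero]
    | single φ b =>
      rw [Finsupp.smul_single, smul_eq_mul, freeTrans_single, freeTrans_single, Finsupp.smul_single, smul_eq_mul,
        map_mul]
    | add p q hp hq => simp only [smul_add, map_add, hp, hq]

/-- A value of the free functor. -/
def fv {B₀ B : Adeq.Alg A} (p : (B₀ ⟶ B) →₀ (B : Type u)) : El (freeObj B₀) B := ULift.up p

theorem fmap_fv {B₀ B B' : Adeq.Alg A} (f : B ⟶ B') (p : (B₀ ⟶ B) →₀ (B : Type u)) :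
    fmap (freeObj B₀) f (fv p) = fv (freeTrans B₀ f p) :=
  rfl

/-- The morphism from the free functor given by an element. -/
def yon {F : Adeq.MVF A} {B₀ : Adeq.Alg A} (x : El F B₀) : freeObj B₀ ⟶ F :=
  mkHom
    (fun B =>
      { toFun := fun z => Finsupp.linearCombination (B : Type u) (fun φ : B₀ ⟶ B => fmap F φ x)
          (show FreeVal B₀ (Adeq.pt B) from z).down
        map_add' := fun z w => map_add (Finsupp.linearCombination (B : Type u) _) _ _
        map_smul' := fun r z => map_smul (Finsupp.linearCombination (B : Type u) _) _ _ })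
    (fun B B' f z => by
      obtain ⟨p, rfl⟩ : ∃ p, fv p = z := ⟨(show FreeVal B₀ (Adeq.pt B) from z).down, rfl⟩
      show Finsupp.linearCombination (B' : Type u) (fun φ : B₀ ⟶ B' => fmap F φ x) (freeTrans B₀ f p) =
        fmap F f (Finsupp.linearCombination (B : Type u) (fun φ : B₀ ⟶ B => fmap F φ x) p)
      induction p using Finsupp.induction_linear with
      | zero => simp only [map_zero]
      | single φ b =>
        rw [freeTrans_single, Finsupp.linearCombination_single, Finsupp.linearCombination_single, fmap_smul,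
          fmap_comp]
      | add p q hp hq => simp only [map_add, hp, hq])

theorem app_yon_single {F : Adeq.MVF A} {B₀ B : Adeq.Alg A} (x : El F B₀) (φ : B₀ ⟶ B) (b : B) :
    app (yon x) B (fv (Finsupp.single φ b)) = b • fmap F φ x :=
  Finsupp.linearCombination_single (B : Type u) b φ

/-- Functoriality in the algebra. -/
def freeMap {B₀ B₁ : Adeq.Alg A} (g : B₀ ⟶ B₁) : freeObj B₁ ⟶ freeObj B₀ :=
  yon (F := freeObj B₀) (fv (Finsupp.single g 1))

theorem app_freeMap {B₀ B₁ B : Adeq.Alg A} (g : B₀ ⟶ B₁) (p : (B₁ ⟶ B) →₀ (B : Type u)) :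
    app (freeMap g) B (fv p) = fv (Finsupp.mapDomain (fun φ => g ≫ φ) p) := by
  induction p using Finsupp.induction_linear with
  | zero => rw [Finsupp.mapDomain_zero]; exact map_zero _
  | single φ b =>
    rw [freeMap, app_yon_single, fmap_fv, freeTrans_single, map_one, Finsupp.mapDomain_single]
    exact congrArg ULift.up ((Finsupp.smul_single b (g ≫ φ) 1).trans (by rw [smul_eq_mul, mul_one]))
  | add p q hp hq =>
    show app (freeMap g) B (fv p + fv q) = _
    rw [map_add, hp, hq, Finsupp.mapDomain_add]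
    rfl

theorem mono_freeMap {B₀ B₁ : Adeq.Alg A} (g : B₀ ⟶ B₁) (hg : Function.Surjective g.hom) :
    Mono (freeMap g) := by
  refine mono_of_injective _ fun B z w h => ?_
  obtain ⟨p, rfl⟩ : ∃ p, fv p = z := ⟨(show FreeVal B₁ (Adeq.pt B) from z).down, rfl⟩
  obtain ⟨q, rfl⟩ : ∃ q, fv q = w := ⟨(show FreeVal B₁ (Adeq.pt B) from w).down, rfl⟩
  rw [app_freeMap, app_freeMap] at h
  have hinj : Function.Injective (fun φ : B₁ ⟶ B => g ≫ φ) := fun φ ψ e => by
    refine CommAlgCat.hom_ext (AlgHom.ext fun y => ?_)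
    obtain ⟨y, rfl⟩ := hg y
    exact congrArg (fun t => CommAlgCat.Hom.hom t y) e
  exact congrArg fv (Finsupp.mapDomain_injective hinj (congrArg ULift.down h))

/-- An injective functor sends surjections to surjections. -/
theorem surjective_fmap_of_injective (I : Adeq.MVF A) [Injective I] {B₀ B₁ : Adeq.Alg A} (g : B₀ ⟶ B₁)
    (hg : Function.Surjective g.hom) : Function.Surjective (fmap I g) := by
  intro y
  haveI := mono_freeMap g hg
  let e := Injective.factorThru (yon y) (freeMap g)
  refine ⟨app e B₀ (fv (Finsupp.single (𝟙 B₀) 1)), ?_⟩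
  have h := congrArg (fun t => app t B₁ (fv (Finsupp.single (𝟙 B₁) 1))) (Injective.comp_factorThru (yon y) (freeMap g))
  rw [app_comp, app_freeMap, Finsupp.mapDomain_single, Category.comp_id, app_yon_single, one_smul, fmap_id] at h
  rw [← app_fmap, fmap_fv, freeTrans_single, Category.id_comp, map_one]
  exact h

end Groth.Agent.AdeqA
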