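import Groth.Agent.Lib.AdeqA.Site
import Mathlib.CategoryTheory.Limits.Constructions.Over.Products
import Mathlib.AlgebraicGeometry.Morphisms.Affine
import Mathlib.Algebra.Category.Ring.Constructions

/-!
# The algebra of global functions of a scheme over an affine base
-/

set_option autoImplicit false
set_option maxHeartbeats 400000

universe u

open CategoryTheory CategoryTheory.Limits AlgebraicGeometry Opposite TensorProduct

noncomputable section

namespace Groth.Agent.AdeqA

variable {R : CommRingCat.{u}}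

/-- The algebra of global functions, as an object. -/
def gammaObj (V : Over (Spec R)) : Adeq.Alg R :=
  letI := (toSec V.hom).hom.toAlgebra
  Adeq.algOf R Γ(V.left, ⊤)

theorem toSec_hom_naturality {V W : Over (Spec R)} (g : W ⟶ V) : toSec W.hom = toSec V.hom ≫ g.left.appTop := by
  rw [← Over.w g, toSec, toSec, Scheme.Hom.comp_appTop, Category.assoc]

/-- The functor of global functions. -/
def gammaAlg (R : CommRingCat.{u}) : (Over (Spec R))ᵒᵖ ⥤ Adeq.Alg R where
  obj V := gammaObj V.unop
  map {V W} g :=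
    letI := (toSec V.unop.hom).hom.toAlgebra
    letI := (toSec W.unop.hom).hom.toAlgebra
    CommAlgCat.ofHom
      { g.unop.left.appTop.hom with
        commutes' := fun r =>
          (RingHom.congr_fun (congrArg CommRingCat.Hom.hom (toSec_hom_naturality g.unop)) r).symm }
  map_id V := by
    refine ConcreteCategory.hom_ext _ _ fun x => ?_
    show (Scheme.Hom.appTop (𝟙 V.unop.left)).hom x = x
    rw [Scheme.Hom.id_appTop]
    rfl
  map_comp {V W Z} g g' := by
    refine ConcreteCategory.hom_ext _ _ fun x => ?_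
    show (Scheme.Hom.appTop (g'.unop.left ≫ g.unop.left)).hom x = _
    rw [Scheme.Hom.comp_appTop]
    rfl

theorem gammaAlg_map_apply {V W : Over (Spec R)} (g : W ⟶ V) (x : (gammaAlg R).obj (op V)) :
    ((gammaAlg R).map g.op).hom x = g.left.appTop.hom x := rfl

/-- The functor from module-valued functors to presheaves on schemes over the base. -/
def PFfun (R : CommRingCat.{u}) : Adeq.MVF R ⥤ ((Over (Spec R))ᵒᵖ ⥤ AddCommGrpCat.{u + 1}) :=
  PresheafOfModules.toPresheaf (Adeq.ringOf R) ⋙
    (Functor.whiskeringLeft _ _ AddCommGrpCat.{u + 1}).obj (gammaAlg R ⋙ opOp (Adeq.Alg R))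

theorem PFfun_map (F : Adeq.MVF R) {V W : Over (Spec R)} (g : W ⟶ V) (x : El F ((gammaAlg R).obj (op V))) :
    ((PFfun R).obj F).map g.op x = fmap F ((gammaAlg R).map g.op) x :=
  rfl

variable (B : Type u) [CommRing B] [Algebra R B]

/-- The object of the big site attached to `B`. -/
abbrev uB : Over (Spec R) := Over.mk (Spec.map (CommRingCat.ofHom (algebraMap R B)))

theorem toSec_uB : toSec (uB (R := R) B).hom = CommRingCat.ofHom (algebraMap R B) ≫ (Scheme.ΓSpecIso (CommRingCat.of B)).inv := by
  show toSec (Spec.map _) = _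
  rw [toSec, Scheme.ΓSpecIso_inv_naturality]
  rfl

/-- `B → Γ(Spec B)`. -/
def secB : Adeq.algOf R B ⟶ (gammaAlg R).obj (op (uB B)) :=
  letI := (toSec (uB (R := R) B).hom).hom.toAlgebra
  CommAlgCat.ofHom
    { (Scheme.ΓSpecIso (CommRingCat.of B)).inv.hom with
      commutes' := fun r => (RingHom.congr_fun (congrArg CommRingCat.Hom.hom (toSec_uB B)) r).symm }

theorem secB_apply (b : B) : (secB (R := R) B).hom b = (Scheme.ΓSpecIso (CommRingCat.of B)).inv.hom b := rfl

/-- `B ⊗ Γ(V) → Γ(V × Spec B)`. -/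
def bcMap (V : Over (Spec R)) : (bcR R B).obj ((gammaAlg R).obj (op V)) ⟶ (gammaAlg R).obj (op (V ⨯ uB B)) :=
  let l := Algebra.TensorProduct.lift (secB B ≫ (gammaAlg R).map prod.snd.op).hom
    ((gammaAlg R).map (prod.fst (X := V) (Y := uB B)).op).hom fun x y => Commute.all _ _
  ConcreteCategory.ofHom (C := Adeq.Alg R)
    (@AlgHom.mk R (B ⊗[R] ((gammaAlg R).obj (op V) : Type u)) _ _ _ _
      ((algebraMap B (B ⊗[R] ((gammaAlg R).obj (op V) : Type u))).comp (algebraMap R B)).toAlgebra _ l.toRingHom
      fun r => by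
        show l ((algebraMap R B r) ⊗ₜ[R] (1 : (gammaAlg R).obj (op V))) = _
        exact (Algebra.TensorProduct.lift_tmul _ _ _ _ _).trans
          ((congrArg₂ (· * ·) (AlgHom.commutes _ r) (map_one _)).trans (mul_one _)))

theorem bcMap_tmul (V : Over (Spec R)) (b : B) (x : (gammaAlg R).obj (op V)) :
    (bcMap B V).hom (b ⊗ₜ[R] x) = (secB B ≫ (gammaAlg R).map prod.snd.op).hom b *
      ((gammaAlg R).map (prod.fst (X := V) (Y := uB B)).op).hom x :=
  Algebra.TensorProduct.lift_tmul _ _ (fun _ _ => Commute.all _ _) b x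

theorem bcMap_natural {V W : Over (Spec R)} (g : W ⟶ V) :
    (bcR R B).map ((gammaAlg R).map g.op) ≫ bcMap B W =
      bcMap B V ≫ (gammaAlg R).map ((prod.functor.flip.obj (uB B)).map g).op := by
  ext z
  show (bcMap B W).hom (((bcR R B).map ((gammaAlg R).map g.op)).hom z) =
    ((gammaAlg R).map (prod.map g (𝟙 _)).op).hom ((bcMap B V).hom z)
  induction z using TensorProduct.induction_on with
  | zero => simp only [map_zero]
  | add x y hx hy => simp only [map_add, hx, hy]
  | tmul b x =>
    show (bcMap B W).hom (b ⊗ₜ[R] ((gammaAlg R).map g.op).hom x) = _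
    rw [bcMap_tmul, bcMap_tmul, map_mul, ← CommAlgCat.comp_apply, ← CommAlgCat.comp_apply, ← CommAlgCat.comp_apply,
      Category.assoc, ← Functor.map_comp, ← Functor.map_comp, ← Functor.map_comp, ← op_comp, ← op_comp, ← op_comp,
      prod.map_fst, prod.map_snd, Category.comp_id]

theorem bcMap_bijective (V : Over (Spec R)) [IsAffine V.left] : Function.Bijective (bcMap B V).hom := by
  let X : Type u := ((gammaAlg R).obj (op V) : Type u)
  let W : CommRingCat.{u} := CommRingCat.of ((gammaAlg R).obj (op (V ⨯ uB B)) : Type u)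
  let f : CommRingCat.of B ⟶ W := CommRingCat.ofHom (secB B ≫ (gammaAlg R).map prod.snd.op).hom.toRingHom
  let g : CommRingCat.of X ⟶ W :=
    CommRingCat.ofHom ((gammaAlg R).map (prod.fst (X := V) (Y := uB B)).op).hom.toRingHom
  have hpb : IsPullback (prod.fst (X := V) (Y := uB B)).left (prod.snd (X := V) (Y := uB B)).left V.hom
      (uB (R := R) B).hom :=
    Over.isPullback_of_binaryFan_isLimit (BinaryFan.mk prod.fst prod.snd) (prodIsProd V (uB B))
  haveI : IsAffine (uB (R := R) B).left := inferInstanceAs (IsAffine (Spec (CommRingCat.of B)))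
  have hsq := isPushout_appTop_of_isPullback hpb
  have sq2 : IsPushout (CommRingCat.ofHom (algebraMap R B)) (CommRingCat.ofHom (algebraMap R X)) f g :=
    hsq.flip.of_iso (Scheme.ΓSpecIso R) (Scheme.ΓSpecIso (CommRingCat.of B)) (Iso.refl _) (Iso.refl _)
      (Scheme.ΓSpecIso_naturality _)
      (by
        show V.hom.appTop ≫ 𝟙 _ = (Scheme.ΓSpecIso R).hom ≫ toSec V.hom
        rw [toSec, Iso.hom_inv_id_assoc, Category.comp_id])
      (by
        show Scheme.Hom.appTop (prod.snd (X := V) (Y := uB B)).left ≫ 𝟙 _ = (Scheme.ΓSpecIso (CommRingCat.of B)).hom ≫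
          (Scheme.ΓSpecIso (CommRingCat.of B)).inv ≫ Scheme.Hom.appTop (prod.snd (X := V) (Y := uB B)).left
        rw [Iso.hom_inv_id_assoc, Category.comp_id])
      (by
        show Scheme.Hom.appTop (prod.fst (X := V) (Y := uB B)).left ≫ 𝟙 _ = 𝟙 _ ≫ Scheme.Hom.appTop (prod.fst (X := V) (Y := uB B)).left
        rw [Category.comp_id, Category.id_comp])
  have sq1 := CommRingCat.isPushout_tensorProduct R B X
  let φ : CommRingCat.of (B ⊗[R] X) ⟶ W := CommRingCat.ofHom (bcMap B V).hom.toRingHom
  have h1 : φ = (sq1.isoIsPushout _ _ sq2).hom := by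
    apply sq1.hom_ext
    · rw [IsPushout.inl_isoIsPushout_hom]
      ext b
      show (bcMap B V).hom (b ⊗ₜ[R] (1 : X)) = _
      rw [bcMap_tmul, map_one, mul_one]
      rfl
    · rw [IsPushout.inr_isoIsPushout_hom]
      ext x
      show (bcMap B V).hom ((1 : B) ⊗ₜ[R] x) = _
      rw [bcMap_tmul, map_one, one_mul]
      rfl
  haveI : IsIso φ := by
    rw [h1]
    infer_instance
  exact ConcreteCategory.bijective_of_isIso φ

end Groth.Agent.AdeqA
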