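import Groth.Agent.Lib.AdeqA.SiteExt

/-!
# Parasitic adequate modules
-/

set_option autoImplicit false
set_option maxHeartbeats 400000

universe u

open CategoryTheory CategoryTheory.Limits AlgebraicGeometry Opposite TensorProduct

noncomputable section

namespace Groth.Agent.AdeqA

variable {S : Scheme.{u}} (M : BigSite.Mod Scheme.fppfPrecoverage S)

/-- A section vanishing on a covering family vanishes. -/
theorem eq_zero_of_covering {U : Over S} (s : M.val.presheaf.obj (op U)) (R₀ : Presieve U.left)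
    (hR₀ : R₀ ∈ Scheme.fppfPrecoverage.coverings U.left)
    (h : ∀ ⦃Y : Scheme.{u}⦄ (r : Y ⟶ U.left), R₀ r →
      M.val.presheaf.map (Over.homMk r rfl : Over.mk (r ≫ U.hom) ⟶ U).op s = 0) : s = 0 := by
  have hF := (isSheaf_iff_isSheaf_of_type _ _).1
    ((Presheaf.isSheaf_iff_isSheaf_forget _ M.val.presheaf (forget AddCommGrpCat.{u + 1})).1 M.isSheaf)
  let T : Sieve U := (Sieve.overEquiv U).symm (Sieve.generate R₀)
  have hT : T ∈ QuotSh.J Scheme.fppfPrecoverage S U := by
    rw [GrothendieckTopology.mem_over_iff]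
    exact ((Sieve.overEquiv U).apply_symm_apply _).symm ▸ Precoverage.generate_mem_toGrothendieck hR₀
  refine (hF T hT).isSeparatedFor.ext (t₁ := s) (t₂ := 0) fun V v hv => ?_
  refine Eq.trans ?_ (map_zero (M.val.presheaf.map v.op).hom).symm
  obtain ⟨Y, w, r, hr, hw⟩ := (Sieve.overEquiv_symm_iff (Sieve.generate R₀) v).1 hv
  have hV : w ≫ (r ≫ U.hom) = V.hom := by rw [← Category.assoc, hw, Over.w v]
  have e : v = (Over.homMk w hV : V ⟶ Over.mk (r ≫ U.hom)) ≫ Over.homMk r rfl := by
    ext : 1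
    exact hw.symm
  rw [e, op_comp, Functor.map_comp]
  exact (congrArg (M.val.presheaf.map _) (h r hr)).trans (map_zero (M.val.presheaf.map _).hom)

set_option backward.isDefEq.respectTransparency.types false in
/-- A section vanishing on the flat members of a covering sieve vanishes. -/
theorem eq_zero_of_sieve {U : Over S} (s : M.val.presheaf.obj (op U)) (T : Sieve U)
    (hT : T ∈ QuotSh.J Scheme.fppfPrecoverage S U)
    (h : ∀ ⦃V : Over S⦄ (v : V ⟶ U), T v → Flat v.left → M.val.presheaf.map v.op s = 0) : s = 0 := by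
  haveI : (@Flat ⊓ @LocallyOfFinitePresentation : MorphismProperty Scheme.{u}).IsMultiplicative :=
    { id_mem := fun _ => ⟨inferInstance, inferInstance⟩
      comp_mem := fun f g hf hg => by
        haveI := hf.1; haveI := hf.2; haveI := hg.1; haveI := hg.2
        exact ⟨inferInstance, inferInstance⟩ }
  haveI : (Scheme.fppfPrecoverage.{u}).HasIsos :=
    inferInstanceAs (Scheme.precoverage (@Flat ⊓ @LocallyOfFinitePresentation : MorphismProperty Scheme.{u})).HasIsos
  obtain ⟨R₀, hR₀, hle⟩ := Precoverage.mem_toGrothendieck_iff_of_isStableUnderComposition.1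
    ((GrothendieckTopology.mem_over_iff _ _).1 hT)
  exact eq_zero_of_covering M s R₀ hR₀ fun Y r hr =>
    h (Over.homMk r rfl : Over.mk (r ≫ U.hom) ⟶ U)
      (of_overEquiv T (Over.homMk r rfl : Over.mk (r ≫ U.hom) ⟶ U) (hle _ _ hr)) (hR₀.2 hr).1

theorem parasitic_of_exact {C : ShortComplex (BigSite.Mod Scheme.fppfPrecoverage S)} (hC : C.Exact)
    (p₁ : Adeq.parasitic Scheme.fppfPrecoverage S C.X₁) (p₃ : Adeq.parasitic Scheme.fppfPrecoverage S C.X₃) :
    Adeq.parasitic Scheme.fppfPrecoverage S C.X₂ := by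
  intro U hU
  refine subsingleton_of_forall_eq 0 fun s => ?_
  haveI := hC.epi_kernelLift
  have hex : ((ShortComplex.mk (kernel.ι C.g) C.g (kernel.condition _)).map
      (SheafOfModules.evaluation (BigSite.ORing Scheme.fppfPrecoverage S) (op U))).Exact :=
    (ShortComplex.exact_of_f_is_kernel _ (kernelIsKernel C.g)).map_of_mono_of_preservesKernel _
      (inferInstanceAs (Mono (kernel.ι C.g))) inferInstance
  obtain ⟨z, hz⟩ := (ShortComplex.moduleCat_exact_iff _).1 hex s ((p₃ U hU).elim _ _)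
  rw [← hz]
  let z' : (kernel C.g).val.presheaf.obj (op U) := z
  suffices h : z' = 0 from (congrArg _ (show z = 0 from h)).trans (map_zero _)
  refine eq_zero_of_sieve (kernel C.g) z' _
    (imageSieve_mem_of_epi (kernel.lift C.g C.f C.zero) z') fun V v hv hflat => ?_
  obtain ⟨t, ht⟩ := hv
  haveI : Flat V.hom := by
    rw [← Over.w v]
    haveI := hflat
    haveI := hU
    infer_instance
  exact ht.symm.trans ((congrArg _ (@Subsingleton.elim _ (p₁ V inferInstance) t 0)).trans (map_zero _))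

/-- The values of an adequate functor on flat algebras are controlled by the value on the ring. -/
theorem subsingleton_of_flat {A : Type u} [CommRing A] {F : Adeq.MVF A} (hF : Adeq.adequate A F) (B : Adeq.Alg A)
    [Module.Flat A B] (h : Subsingleton (El F (Adeq.algOf A A))) : Subsingleton (El F B) := by
  obtain ⟨M, N, g, ι, hι⟩ := (adequate_iff F).1 hF
  have hg : Function.Injective g.hom := by
    rw [injective_iff_map_eq_zero]
    intro m hm
    obtain ⟨x, hx⟩ := hι.exists_lift (Adeq.algOf A A) (ofT ((1 : A) ⊗ₜ[A] m)) (by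
      rw [app_uM]
      erw [LinearMap.lTensor_tmul]
      rw [hm, TensorProduct.tmul_zero]
      rfl)
    rw [Subsingleton.elim x 0, map_zero] at hx
    have h1 := congrArg (fun y => TensorProduct.lid A M (toT y)) hx
    rw [toT_ofT, toT_zero, map_zero, TensorProduct.lid_tmul, one_smul] at h1
    exact h1.symm
  refine subsingleton_of_forall_eq 0 fun x => hι.inj B ?_
  rw [map_zero]
  have h1 := hι.zero B x
  rw [← ofT_toT (app ι B x), app_uM, ofT_eq_zero] at h1
  rw [← ofT_toT (app ι B x), ofT_eq_zero]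
  exact (injective_iff_map_eq_zero _).1 (Module.Flat.lTensor_preserves_injective_linearMap g.hom hg) _ h1

theorem flat_of_mem {S : Scheme.{u}} {P : Presieve S} (hP : P ∈ Scheme.fppfPrecoverage.coverings S)
    {V : Scheme.{u}} {g : V ⟶ S} (hg : P g) : Flat g :=
  (hP.2 hg).1

theorem exists_covering_opens (U : S.Opens) :
    ∃ P ∈ Scheme.fppfPrecoverage.coverings S, P U.ι := by
  let X : Option PUnit.{u + 1} → Scheme.{u} := fun o => o.elim S fun _ => U
  let f : ∀ o, X o ⟶ S := fun o => Option.rec (motive := fun o => X o ⟶ S) (𝟙 S) (fun _ => U.ι) o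
  refine ⟨Presieve.ofArrows X f, (Scheme.ofArrows_mem_precoverage_iff _).2 ⟨fun x => ⟨none, x, rfl⟩, ?_⟩,
    Presieve.ofArrows.mk (some PUnit.unit)⟩
  rintro (_ | _)
  · exact ⟨show Flat (𝟙 S) from inferInstance, show LocallyOfFinitePresentation (𝟙 S) from inferInstance⟩
  · exact ⟨show Flat U.ι from inferInstance, show LocallyOfFinitePresentation U.ι from inferInstance⟩

theorem parasitic_of_affine_cover (hM : Adeq.adequateMod Scheme.fppfPrecoverage S M) {ι : Type u} (U : ι → S.Opens)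
    (hU : ∀ i, IsAffineOpen (U i)) (hcov : (⨆ i, U i) = ⊤)
    (h : ∀ i, Subsingleton (BigSite.sectMod Scheme.fppfPrecoverage M ((BigSite.zarIncl S).obj (U i)))) :
    Adeq.parasitic Scheme.fppfPrecoverage S M := by
  intro Z hZ
  refine subsingleton_of_forall_eq 0 fun s => ?_
  have hW : ∀ x : Z.left, ∃ i, ∃ W : Z.left.Opens, IsAffineOpen W ∧ x ∈ W ∧ W ≤ Z.hom ⁻¹ᵁ U i := fun x => by
    have hx : Z.hom x ∈ (⨆ i, U i) := by rw [hcov]; trivial
    obtain ⟨i, hi⟩ := TopologicalSpace.Opens.mem_iSup.1 hx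
    obtain ⟨_, ⟨W, hW, rfl⟩, hxW, hle⟩ := Z.left.isBasis_affineOpens.exists_subset_of_mem_open
      (show x ∈ Z.hom ⁻¹ᵁ U i from hi) (Z.hom ⁻¹ᵁ U i).2
    exact ⟨i, W, hW, hxW, hle⟩
  choose i W hWa hxW hle using hW
  refine eq_zero_of_covering M s (Presieve.ofArrows _ fun x => (hWa x).fromSpec) ?_ ?_
  · refine (Scheme.ofArrows_mem_precoverage_iff _).2 ⟨fun x => ⟨x, ?_⟩, fun x => ⟨inferInstance, inferInstance⟩⟩
    rw [(hWa x).range_fromSpec]
    exact hxW x
  rintro Y r ⟨x⟩
  let a : Spec Γ(S, U (i x)) ⟶ S := (hU (i x)).fromSpec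
  let φ : Γ(S, U (i x)) ⟶ Γ(Z.left, W x) := Z.hom.appLE _ _ (hle x)
  haveI := hZ
  letI : Algebra Γ(S, U (i x)) Γ(Z.left, W x) := φ.hom.toAlgebra
  haveI : Module.Flat Γ(S, U (i x)) Γ(Z.left, W x) := Z.hom.flat_appLE (hU (i x)) (hWa x) (hle x)
  haveI : Subsingleton (El ((Adeq.toMVF Scheme.fppfPrecoverage a).obj M) (Adeq.algOf Γ(S, U (i x)) Γ(S, U (i x)))) := by
    have e : sOb a (Adeq.algOf Γ(S, U (i x)) Γ(S, U (i x))) ≅ (BigSite.zarIncl S).obj (U (i x)) :=
      Over.isoMk (hU (i x)).isoSpec.symm (by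
        show (hU (i x)).isoSpec.inv ≫ (U (i x)).ι =
          Spec.map (CommRingCat.ofHom (algebraMap Γ(S, U (i x)) Γ(S, U (i x)))) ≫ a
        rw [Algebra.algebraMap_self, CommRingCat.ofHom_id, Spec.map_id, Category.id_comp]
        exact (hU (i x)).isoSpec_inv_ι)
    haveI : Subsingleton (M.val.presheaf.obj (op ((BigSite.zarIncl S).obj (U (i x))))) := h (i x)
    exact (ConcreteCategory.bijective_of_isIso (M.val.presheaf.map e.inv.op)).1.subsingleton
  haveI hB : Subsingleton (El ((Adeq.toMVF Scheme.fppfPrecoverage a).obj M) (Adeq.algOf Γ(S, U (i x)) Γ(Z.left, W x))) :=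
    subsingleton_of_flat (adequate_toMVF_fppf hM _ a) _ inferInstance
  have e : sOb a (Adeq.algOf Γ(S, U (i x)) Γ(Z.left, W x)) ≅ Over.mk ((hWa x).fromSpec ≫ Z.hom) :=
    Over.isoMk (Iso.refl _) (by
      show 𝟙 _ ≫ (hWa x).fromSpec ≫ Z.hom = Spec.map φ ≫ (hU (i x)).fromSpec
      rw [Category.id_comp, (hU (i x)).SpecMap_appLE_fromSpec _ (hWa x) (hle x)])
  haveI : Subsingleton (M.val.presheaf.obj (op (sOb a (Adeq.algOf Γ(S, U (i x)) Γ(Z.left, W x))))) := hB
  haveI : Subsingleton (M.val.presheaf.obj (op (Over.mk ((hWa x).fromSpec ≫ Z.hom)))) :=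
    (ConcreteCategory.bijective_of_isIso (M.val.presheaf.map e.hom.op)).1.subsingleton
  exact Subsingleton.elim _ _

end Groth.Agent.AdeqA
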