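import Groth.Agent.Lib.AdeqA.PushPiece

/-!
# Pushforward of adequate modules along quasi-compact quasi-separated morphisms
-/

set_option autoImplicit false
set_option maxHeartbeats 800000
set_option backward.isDefEq.respectTransparency false
set_option backward.isDefEq.respectTransparency.types false

universe u

open CategoryTheory CategoryTheory.Limits AlgebraicGeometry Opposite TensorProduct

noncomputable section

namespace Groth.Agent.AdeqA

attribute [local instance] Abelian.hasFiniteBiproducts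

theorem exists_affine_sieve (X : Scheme.{u}) [CompactSpace X] :
    ∃ (J : Type) (_ : Fintype J) (W : J → CommRingCat.{u}) (e : ∀ j, Spec (W j) ⟶ X),
      Sieve.ofArrows (fun j => Spec (W j)) e ∈ Scheme.fppfPrecoverage.toGrothendieck X := by
  have hW : ∀ x : X, ∃ U : X.Opens, IsAffineOpen U ∧ x ∈ U := fun x => by
    obtain ⟨_, ⟨U, hU, rfl⟩, hxU, -⟩ :=
      X.isBasis_affineOpens.exists_subset_of_mem_open (Set.mem_univ x) isOpen_univ
    exact ⟨U, hU, hxU⟩
  choose U hU hxU using hW
  obtain ⟨t, ht⟩ := isCompact_univ.elim_finite_subcover (fun x => (U x : Set X)) (fun x => (U x).2)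
    (fun x _ => Set.mem_iUnion.2 ⟨x, hxU x⟩)
  let e := t.equivFin.symm
  refine ⟨Fin t.card, inferInstance, fun j => Γ(X, U (e j).1), fun j => (hU (e j).1).fromSpec,
    Precoverage.generate_mem_toGrothendieck ((Scheme.ofArrows_mem_precoverage_iff _).2 ⟨fun x => ?_, fun j =>
      ⟨inferInstance, inferInstance⟩⟩)⟩
  obtain ⟨x', hx', hx⟩ := Set.mem_iUnion₂.1 (ht (Set.mem_univ x))
  obtain ⟨j, hj⟩ : ∃ j, e j = ⟨x', hx'⟩ := ⟨_, e.apply_symm_apply _⟩
  obtain rfl : x' = (e j).1 := by rw [hj]
  refine ⟨j, ?_⟩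
  rw [(hU (e j).1).range_fromSpec]
  exact hx

variable {S T : Scheme.{u}} (f : T ⟶ S) {R : CommRingCat.{u}} (a : Spec R ⟶ S)
  (W : Type u) [CommRing W] [Algebra R W] (w : Spec (CommRingCat.of W) ⟶ TR f a)

theorem piece_hom_ext {X : Scheme.{u}} (B : Adeq.Alg R) {x y : X ⟶ Spec (CommRingCat.of ((bcR R W).obj B : Type u))}
    (h₁ : x ≫ specMap (Adeq.Alg.unit R W B) = y ≫ specMap (Adeq.Alg.unit R W B))
    (h₂ : x ≫ specStr (R := CommRingCat.of W) ((Adeq.Alg.baseChange R W).obj B) =
      y ≫ specStr (R := CommRingCat.of W) ((Adeq.Alg.baseChange R W).obj B)) : x = y := by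
  have e₁ := congrArg toSec h₁
  have e₂ := congrArg toSec h₂
  rw [toSec_comp, toSec_comp] at e₁ e₂
  refine toSec_injective (CommRingCat.hom_ext (RingHom.ext fun c => ?_))
  induction c using TensorProduct.induction_on with
  | zero => exact (map_zero _).trans (map_zero _).symm
  | add c d hc hd => exact (map_add _ c d).trans ((congrArg₂ (· + ·) hc hd).trans (map_add _ c d).symm)
  | tmul r b =>
    have h : (r ⊗ₜ[R] b : W ⊗[R] (B : Type u)) = (r ⊗ₜ[R] 1) * (1 ⊗ₜ[R] b) := by
      rw [Algebra.TensorProduct.tmul_mul_tmul, mul_one, one_mul]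
    have k₁ := RingHom.congr_fun (congrArg CommRingCat.Hom.hom e₁) b
    have k₂ := RingHom.congr_fun (congrArg CommRingCat.Hom.hom e₂) r
    rw [h, map_mul, map_mul]
    exact congrArg₂ (· * ·) k₂ k₁

variable (hw : w ≫ pullback.fst a f = Spec.map (CommRingCat.ofHom (algebraMap R W)))

theorem exists_lift_piece (B : Adeq.Alg R) {V : Over T} (v : V ⟶ pObj f a B)
    (c : V.left ⟶ Spec (CommRingCat.of W)) (hc : c ≫ w = v.left ≫ hProj f a B) :
    ∃ t : V ⟶ pieceOb f a W w B, t ≫ piOb f a W w hw B = v ∧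
      t.left ≫ specStr (R := CommRingCat.of W) ((Adeq.Alg.baseChange R W).obj B) = c := by
  obtain ⟨t, ht, ht'⟩ := exists_lift_spec W B c (v.left ≫ pullback.fst (sOb a B).hom f) (by
    rw [← hw, ← Category.assoc, hc, Category.assoc, hProj, pullback.lift_fst, Category.assoc])
  have hts : t ≫ specStr (R := CommRingCat.of W) ((Adeq.Alg.baseChange R W).obj B) = c := by
    refine toSec_injective ?_
    rw [toSec_comp]
    exact CommRingCat.hom_ext (RingHom.ext fun r => ht' r)
  have htV : t ≫ (pieceOb f a W w B).hom = V.hom := by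
    show t ≫ specStr (R := CommRingCat.of W) ((Adeq.Alg.baseChange R W).obj B) ≫ w ≫ pullback.snd a f = V.hom
    rw [← Category.assoc t, hts, ← Category.assoc c, hc, Category.assoc, hProj, pullback.lift_snd]
    exact Over.w v
  refine ⟨Over.homMk t htV, ?_, hts⟩
  ext : 1
  show t ≫ piLeft f a W w hw B = v.left
  refine pullback.hom_ext ?_ ?_
  · rw [Category.assoc, piLeft_fst]
    exact ht
  · rw [Category.assoc, piLeft_snd, htV]
    exact (Over.w v).symm

variable [QuasiCompact f] [QuasiSeparated f] (M : BigSite.Mod Scheme.fppfPrecoverage T)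

theorem adequate_toMVF_pushMod (hM : Adeq.adequateMod Scheme.fppfPrecoverage T M) :
    Adeq.adequate R ((Adeq.toMVF Scheme.fppfPrecoverage a).obj ((BigSite.pushMod Scheme.fppfPrecoverage f).obj M)) := by
  classical
  haveI : CompactSpace (TR f a) := QuasiCompact.compactSpace_of_compactSpace (pullback.fst a f)
  haveI : QuasiSeparatedSpace (TR f a) := quasiSeparatedSpace_of_quasiSeparated (pullback.fst a f)
  obtain ⟨J, _, W, e, he⟩ := exists_affine_sieve (TR f a)
  haveI : ∀ j k, CompactSpace (pullback (e j) (e k) : Scheme.{u}) := fun j k =>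
    QuasiCompact.compactSpace_of_compactSpace (pullback.fst (e j) (e k))
  choose L hLf W₂ o ho using fun p : J × J => exists_affine_sieve (pullback (e p.1) (e p.2))
  letI : ∀ j, Algebra R (W j) := fun j => (Spec.preimage (e j ≫ pullback.fst a f)).hom.toAlgebra
  have hw : ∀ j, e j ≫ pullback.fst a f = Spec.map (CommRingCat.ofHom (algebraMap R (W j))) := fun j =>
    (Spec.map_preimage _).symm
  let K := Σ p : J × J, L p
  haveI := fun p => hLf p
  haveI : Fintype K := inferInstanceAs (Fintype (Σ p : J × J, L p))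
  let W' : K → CommRingCat.{u} := fun m => W₂ m.1 m.2
  let e' : ∀ m : K, Spec (W' m) ⟶ TR f a := fun m => o m.1 m.2 ≫ pullback.fst _ _ ≫ e m.1.1
  letI : ∀ m, Algebra R (W' m) := fun m => (Spec.preimage (e' m ≫ pullback.fst a f)).hom.toAlgebra
  have hw' : ∀ m, e' m ≫ pullback.fst a f = Spec.map (CommRingCat.ofHom (algebraMap R (W' m))) := fun m =>
    (Spec.map_preimage _).symm
  have mkU : ∀ (j : J) (m : K) (g : Spec (W' m) ⟶ Spec (W j)), g ≫ e j = e' m →
      ∃ u : W j →ₐ[R] W' m, Spec.map (CommRingCat.ofHom u.toRingHom) = g := fun j m g hg => by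
    have h : CommRingCat.ofHom (algebraMap R (W j)) ≫ Spec.preimage g = CommRingCat.ofHom (algebraMap R (W' m)) :=
      Spec.map_injective (by rw [Spec.map_comp, Spec.map_preimage, ← hw j, ← hw' m, ← hg, Category.assoc])
    exact ⟨{ (Spec.preimage g).hom with commutes' := fun r => RingHom.congr_fun (congrArg CommRingCat.Hom.hom h) r },
      Spec.map_preimage g⟩
  choose u₁ hu₁ using fun m : K => mkU m.1.1 m (o m.1 m.2 ≫ pullback.fst _ _) (Category.assoc _ _ _)
  choose u₂ hu₂ using fun m : K => mkU m.1.2 m (o m.1 m.2 ≫ pullback.snd _ _)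
    ((Category.assoc _ _ _).trans (congrArg (o m.1 m.2 ≫ ·) pullback.condition.symm))
  have hu₁' : ∀ m : K, Spec.map (CommRingCat.ofHom (u₁ m).toRingHom) ≫ e m.1.1 = e' m := fun m => by
    rw [hu₁, Category.assoc]
  have hu₂' : ∀ m : K, Spec.map (CommRingCat.ofHom (u₂ m).toRingHom) ≫ e m.1.2 = e' m := fun m => by
    rw [hu₂, Category.assoc, ← pullback.condition]
  let G₀ : J → Adeq.MVF R := fun j =>
    (Adeq.push R (W j)).obj ((Adeq.toMVF Scheme.fppfPrecoverage (pieceHom f a (W j) (e j))).obj M)
  let G₁ : K → Adeq.MVF R := fun m =>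
    (Adeq.push R (W' m)).obj ((Adeq.toMVF Scheme.fppfPrecoverage (pieceHom f a (W' m) (e' m))).obj M)
  let η : (Adeq.toMVF Scheme.fppfPrecoverage a).obj ((BigSite.pushMod Scheme.fppfPrecoverage f).obj M) ⟶ ⨁ G₀ :=
    biproduct.lift fun j => resPiece f a (W j) (e j) (hw j) M
  let d : ⨁ G₀ ⟶ ⨁ G₁ := biproduct.lift fun m =>
    biproduct.π G₀ m.1.1 ≫ pieceRes f a (W m.1.1) (e m.1.1) M (W' m) (e' m) (u₁ m) (hu₁' m) -
      biproduct.π G₀ m.1.2 ≫ pieceRes f a (W m.1.2) (e m.1.2) M (W' m) (e' m) (u₂ m) (hu₂' m)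
  have hηπ : ∀ B x j, app (biproduct.π G₀ j) B (app η B x) = M.val.presheaf.map (piOb f a (W j) (e j) (hw j) B).op x :=
    fun B x j => by
      rw [← app_comp, biproduct.lift_π]
      rfl
  have hdπ : ∀ B y m, app (biproduct.π G₁ m) B (app d B y) =
      app (pieceRes f a (W m.1.1) (e m.1.1) M (W' m) (e' m) (u₁ m) (hu₁' m)) B (app (biproduct.π G₀ m.1.1) B y) -
        app (pieceRes f a (W m.1.2) (e m.1.2) M (W' m) (e' m) (u₂ m) (hu₂' m)) B (app (biproduct.π G₀ m.1.2) B y) :=
    fun B y m => by rw [← app_comp, biproduct.lift_π, app_sub, app_comp, app_comp]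
  have hF := (isSheaf_iff_isSheaf_of_type _ _).1
    ((Presheaf.isSheaf_iff_isSheaf_forget _ M.val.presheaf (forget AddCommGrpCat.{u + 1})).1 M.isSheaf)
  have hcov : ∀ B : Adeq.Alg R, Sieve.ofArrows (fun j => pieceOb f a (W j) (e j) B)
      (fun j => piOb f a (W j) (e j) (hw j) B) ∈ QuotSh.J Scheme.fppfPrecoverage T (pObj f a B) := fun B => by
    refine GrothendieckTopology.superset_covering _ (S := (Sieve.overEquiv (pObj f a B)).symm
      (Sieve.pullback (hProj f a B) (Sieve.ofArrows _ e))) (fun V v hv => ?_) ?_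
    · obtain ⟨_, c, _, ⟨j⟩, hc⟩ := (Sieve.overEquiv_symm_iff (Sieve.pullback (hProj f a B) (Sieve.ofArrows _ e)) v).1 hv
      obtain ⟨t, ht, -⟩ := exists_lift_piece f a (W j) (e j) (hw j) B v c hc
      exact ⟨_, t, _, Presieve.ofArrows.mk j, ht⟩
    · rw [GrothendieckTopology.mem_over_iff]
      exact ((Sieve.overEquiv (pObj f a B)).apply_symm_apply _).symm ▸
        Scheme.fppfPrecoverage.toGrothendieck.pullback_stable (hProj f a B) he
  have hk : IsKer d η := by
    refine ⟨fun B x y hxy => ?_, fun B x => el_biproduct_ext fun m => ?_, fun B y hy => ?_⟩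
    · refine (hF.isSheafFor _ (hcov B)).isSeparatedFor.ext fun V v hv => ?_
      obtain ⟨j⟩ := hv
      exact (hηπ B x j).symm.trans ((congrArg (app (biproduct.π G₀ j) B) hxy).trans (hηπ B y j))
    · rw [hdπ, hηπ, hηπ, map_zero, sub_eq_zero]
      show M.val.presheaf.map (pieceMap f a (W m.1.1) (e m.1.1) (W' m) (e' m) (u₁ m) (hu₁' m) B).op
          (M.val.presheaf.map (piOb f a (W m.1.1) (e m.1.1) (hw _) B).op x) =
        M.val.presheaf.map (pieceMap f a (W m.1.2) (e m.1.2) (W' m) (e' m) (u₂ m) (hu₂' m) B).op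
          (M.val.presheaf.map (piOb f a (W m.1.2) (e m.1.2) (hw _) B).op x)
      rw [← ConcreteCategory.comp_apply, ← ConcreteCategory.comp_apply, ← M.val.presheaf.map_comp,
        ← M.val.presheaf.map_comp, ← op_comp, ← op_comp, piOb_pieceMap _ _ _ _ (hw _) _ _ _ _ (hw' m),
        piOb_pieceMap _ _ _ _ (hw _) _ _ _ _ (hw' m)]
    obtain ⟨x, hx, -⟩ := (Presieve.isSheafFor_arrows_iff _ _).1 (hF.isSheafFor _ (hcov B))
      (fun j => app (biproduct.π G₀ j) B y) fun j k Z gj gk hg => by
        have hl : gj.left ≫ piLeft f a (W j) (e j) (hw j) B = gk.left ≫ piLeft f a (W k) (e k) (hw k) B :=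
          congrArg CommaMorphism.left hg
        have hjk : (gj.left ≫ specStr (R := CommRingCat.of (W j)) ((Adeq.Alg.baseChange R (W j)).obj B)) ≫ e j =
            (gk.left ≫ specStr (R := CommRingCat.of (W k)) ((Adeq.Alg.baseChange R (W k)).obj B)) ≫ e k := by
          have h := congrArg (· ≫ hProj f a B) hl
          simp only [Category.assoc, piLeft_hProj] at h ⊢
          exact h
        let t₀ : Z.left ⟶ pullback (e j) (e k) := pullback.lift _ _ hjk
        have hT : (Sieve.overEquiv Z).symm (Sieve.pullback t₀ (Sieve.ofArrows _ (o (j, k)))) ∈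
            QuotSh.J Scheme.fppfPrecoverage T Z := by
          rw [GrothendieckTopology.mem_over_iff]
          exact ((Sieve.overEquiv Z).apply_symm_apply _).symm ▸
            Scheme.fppfPrecoverage.toGrothendieck.pullback_stable t₀ (ho (j, k))
        refine (hF _ hT).isSeparatedFor.ext fun V v hv => ?_
        obtain ⟨_, c', _, ⟨l⟩, hc'⟩ := (Sieve.overEquiv_symm_iff _ v).1 hv
        let m : K := ⟨(j, k), l⟩
        obtain ⟨t, ht, hts⟩ := exists_lift_piece f a (W' m) (e' m) (hw' m) B
          (v ≫ gj ≫ piOb f a (W j) (e j) (hw j) B) c' (by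
            show c' ≫ o (j, k) l ≫ pullback.fst _ _ ≫ e j =
              (v.left ≫ gj.left ≫ piLeft f a (W j) (e j) (hw j) B) ≫ hProj f a B
            rw [← Category.assoc c', hc', Category.assoc, ← Category.assoc t₀, pullback.lift_fst]
            simp only [Category.assoc, piLeft_hProj])
        have e₁ : t ≫ pieceMap f a (W j) (e j) (W' m) (e' m) (u₁ m) (hu₁' m) B = v ≫ gj := by
          ext : 1
          refine piece_hom_ext (R := R) (W j) B ?_ ?_
          · rw [← piLeft_fst f a (W j) (e j) (hw j) B, ← Category.assoc, ← Category.assoc]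
            refine congrArg (· ≫ pullback.fst (sOb a B).hom f) ?_
            show (t.left ≫ (pieceMap f a (W j) (e j) (W' m) (e' m) (u₁ m) (hu₁' m) B).left) ≫ _ = (v.left ≫ gj.left) ≫ _
            have h₁ := congrArg CommaMorphism.left (piOb_pieceMap f a (W j) (e j) (hw j) (W' m) (e' m) (u₁ m) (hu₁' m) (hw' m) B)
            have h₂ := congrArg CommaMorphism.left ht
            simp only [Over.comp_left] at h₁ h₂ ⊢
            rw [Category.assoc, Category.assoc]
            exact (congrArg (t.left ≫ ·) h₁).trans h₂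
          · show (t.left ≫ Spec.map _) ≫ Spec.map _ = (v.left ≫ gj.left) ≫ _
            rw [Category.assoc, Category.assoc]
            refine Eq.trans (congrArg (t.left ≫ ·) (?_ : _ = specStr (R := CommRingCat.of (W' m))
              ((Adeq.Alg.baseChange R (W' m)).obj B) ≫ Spec.map (CommRingCat.ofHom (u₁ m).toRingHom))) ?_
            · rw [← Spec.map_comp, ← Spec.map_comp]
              refine congrArg Spec.map (CommRingCat.hom_ext (RingHom.ext fun r => ?_))
              show Algebra.TensorProduct.map (u₁ m) (AlgHom.id R (B : Type u)) (r ⊗ₜ[R] (1 : (B : Type u))) = u₁ m r ⊗ₜ[R] 1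
              rw [Algebra.TensorProduct.map_tmul]
              rfl
            · rw [← Category.assoc, hts, hu₁, ← Category.assoc, hc', Category.assoc, pullback.lift_fst]
        have e₂ : t ≫ pieceMap f a (W k) (e k) (W' m) (e' m) (u₂ m) (hu₂' m) B = v ≫ gk := by
          ext : 1
          refine piece_hom_ext (R := R) (W k) B ?_ ?_
          · rw [← piLeft_fst f a (W k) (e k) (hw k) B, ← Category.assoc, ← Category.assoc]
            refine congrArg (· ≫ pullback.fst (sOb a B).hom f) ?_
            show (t.left ≫ (pieceMap f a (W k) (e k) (W' m) (e' m) (u₂ m) (hu₂' m) B).left) ≫ _ = (v.left ≫ gk.left) ≫ _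
            have h₁ := congrArg CommaMorphism.left (piOb_pieceMap f a (W k) (e k) (hw k) (W' m) (e' m) (u₂ m) (hu₂' m) (hw' m) B)
            have h₂ := congrArg CommaMorphism.left ht
            simp only [Over.comp_left] at h₁ h₂ ⊢
            rw [Category.assoc, Category.assoc]
            exact ((congrArg (t.left ≫ ·) h₁).trans h₂).trans (congrArg (v.left ≫ ·) hl)
          · show (t.left ≫ Spec.map _) ≫ Spec.map _ = (v.left ≫ gk.left) ≫ _
            rw [Category.assoc, Category.assoc]
            refine Eq.trans (congrArg (t.left ≫ ·) (?_ : _ = specStr (R := CommRingCat.of (W' m))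
              ((Adeq.Alg.baseChange R (W' m)).obj B) ≫ Spec.map (CommRingCat.ofHom (u₂ m).toRingHom))) ?_
            · rw [← Spec.map_comp, ← Spec.map_comp]
              refine congrArg Spec.map (CommRingCat.hom_ext (RingHom.ext fun r => ?_))
              show Algebra.TensorProduct.map (u₂ m) (AlgHom.id R (B : Type u)) (r ⊗ₜ[R] (1 : (B : Type u))) = u₂ m r ⊗ₜ[R] 1
              rw [Algebra.TensorProduct.map_tmul]
              rfl
            · rw [← Category.assoc, hts, hu₂, ← Category.assoc, hc', Category.assoc, pullback.lift_snd]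
        have hm : app (pieceRes f a (W j) (e j) M (W' m) (e' m) (u₁ m) (hu₁' m)) B (app (biproduct.π G₀ j) B y) =
            app (pieceRes f a (W k) (e k) M (W' m) (e' m) (u₂ m) (hu₂' m)) B (app (biproduct.π G₀ k) B y) := by
          have h := hdπ B y m
          rw [hy, map_zero] at h
          exact sub_eq_zero.1 h.symm
        rw [← ConcreteCategory.comp_apply, ← ConcreteCategory.comp_apply, ← Functor.map_comp, ← Functor.map_comp,
          ← op_comp, ← op_comp, ← e₁, ← e₂, op_comp, op_comp, Functor.map_comp, Functor.map_comp,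
          ConcreteCategory.comp_apply, ConcreteCategory.comp_apply]
        exact congrArg (fun z => ((M.val.presheaf ⋙ forget AddCommGrpCat.{u + 1}).map t.op) z) hm
    exact ⟨x, el_biproduct_ext fun j => (hηπ B x j).trans (hx j)⟩
  obtain ⟨i⟩ := hk.nonempty_iso_kernel
  refine (Adeq.adequate R).prop_of_iso i.symm (adequate_kernel d ?_ ?_)
  · exact adequate_biproduct G₀ fun j => adequate_push _ (adequate_toMVF_fppf hM _ _)
  · exact adequate_biproduct G₁ fun m => adequate_push _ (adequate_toMVF_fppf hM _ _)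

theorem adequateMod_pushMod (hM : Adeq.adequateMod Scheme.fppfPrecoverage T M) :
    Adeq.adequateMod Scheme.fppfPrecoverage S ((BigSite.pushMod Scheme.fppfPrecoverage f).obj M) :=
  adequateMod_fppf_of_forall fun R a => adequate_toMVF_pushMod f a M hM

end Groth.Agent.AdeqA
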