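import Groth.Agent.Lib.AdeqA.Parasitic

/-!
# Pushforward of adequate modules: restriction to affine pieces
-/

set_option autoImplicit false
set_option maxHeartbeats 400000
set_option backward.isDefEq.respectTransparency false
set_option backward.isDefEq.respectTransparency.types false

universe u

open CategoryTheory CategoryTheory.Limits AlgebraicGeometry Opposite TensorProduct

noncomputable section

namespace Groth.Agent.AdeqA

variable {S T : Scheme.{u}} (f : T ⟶ S) {R : CommRingCat.{u}} (a : Spec R ⟶ S)

/-- The base change of `T` to the affine scheme. -/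
abbrev TR : Scheme.{u} := pullback a f

/-- The base change of `Spec B` to `T`. -/
abbrev pObj (B : Adeq.Alg R) : Over T := (Over.pullback f).obj (sOb a B)

/-- The projection of the base change of `Spec B` to the base change of `Spec R`. -/
def hProj (B : Adeq.Alg R) : (pObj f a B).left ⟶ TR f a :=
  pullback.lift (pullback.fst _ _ ≫ specStr B) (pullback.snd _ _) (by
    rw [Category.assoc]
    exact pullback.condition)

variable (W : Type u) [CommRing W] [Algebra R W] (w : Spec (CommRingCat.of W) ⟶ TR f a)

/-- The map from the spectrum of `W` to `T`. -/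
abbrev pieceHom : Spec (CommRingCat.of W) ⟶ T := w ≫ pullback.snd a f

/-- The object of the site of `T` given by `W ⊗ B`. -/
abbrev pieceOb (B : Adeq.Alg R) : Over T :=
  sOb (R := CommRingCat.of W) (pieceHom f a W w) ((Adeq.Alg.baseChange R W).obj B)

theorem specMap_unit_str (B : Adeq.Alg R) :
    specMap (Adeq.Alg.unit R W B) ≫ specStr B =
      specStr (R := CommRingCat.of W) ((Adeq.Alg.baseChange R W).obj B) ≫
        Spec.map (CommRingCat.ofHom (algebraMap R W)) := by
  rw [specMap_str (Adeq.Alg.unit R W B)]
  show Spec.map _ = Spec.map _ ≫ Spec.map _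
  rw [← Spec.map_comp, ← CommRingCat.ofHom_comp]
  rfl

variable (hw : w ≫ pullback.fst a f = Spec.map (CommRingCat.ofHom (algebraMap R W)))

/-- The map from the spectrum of `W ⊗ B` to the base change of `Spec B`. -/
def piLeft (B : Adeq.Alg R) : (pieceOb f a W w B).left ⟶ (pObj f a B).left :=
  pullback.lift (f := (sOb a B).hom) (g := f) (specMap (Adeq.Alg.unit R W B)) ((pieceOb f a W w B).hom) (by
    show specMap (Adeq.Alg.unit R W B) ≫ specStr B ≫ a =
      (specStr (R := CommRingCat.of W) ((Adeq.Alg.baseChange R W).obj B) ≫ w ≫ pullback.snd a f) ≫ f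
    rw [← Category.assoc, specMap_unit_str, ← hw]
    simp only [Category.assoc, pullback.condition])

theorem piLeft_fst (B : Adeq.Alg R) :
    piLeft f a W w hw B ≫ pullback.fst (sOb a B).hom f = specMap (Adeq.Alg.unit R W B) :=
  pullback.lift_fst _ _ _

theorem piLeft_snd (B : Adeq.Alg R) :
    piLeft f a W w hw B ≫ pullback.snd (sOb a B).hom f = (pieceOb f a W w B).hom :=
  pullback.lift_snd _ _ _

theorem piLeft_hProj (B : Adeq.Alg R) :
    piLeft f a W w hw B ≫ hProj f a B = specStr (R := CommRingCat.of W) ((Adeq.Alg.baseChange R W).obj B) ≫ w := by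
  refine pullback.hom_ext ?_ ?_
  · rw [hProj, Category.assoc, pullback.lift_fst, ← Category.assoc, piLeft_fst, specMap_unit_str, Category.assoc, hw]
  · rw [hProj, Category.assoc, pullback.lift_snd]
    exact (piLeft_snd f a W w hw B).trans (Category.assoc _ _ _).symm

/-- The morphism from the spectrum of `W ⊗ B` to the base change of `Spec B`, over `T`. -/
def piOb (B : Adeq.Alg R) : pieceOb f a W w B ⟶ pObj f a B :=
  Over.homMk (piLeft f a W w hw B) (piLeft_snd f a W w hw B)

theorem piOb_natural {B B' : Adeq.Alg R} (φ : B ⟶ B') :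
    sMap (R := CommRingCat.of W) (pieceHom f a W w) ((Adeq.Alg.baseChange R W).map φ) ≫ piOb f a W w hw B =
      piOb f a W w hw B' ≫ (Over.pullback f).map (sMap a φ) := by
  ext : 1
  show specMap ((Adeq.Alg.baseChange R W).map φ) ≫ piLeft f a W w hw B =
    piLeft f a W w hw B' ≫ ((Over.pullback f).map (sMap a φ)).left
  refine pullback.hom_ext ?_ ?_
  · rw [Category.assoc, piLeft_fst, Category.assoc]
    erw [pullback.lift_fst, ← Category.assoc, piLeft_fst]
    show Spec.map _ ≫ Spec.map _ = Spec.map _ ≫ Spec.map _
    rw [← Spec.map_comp, ← Spec.map_comp]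
    refine congrArg Spec.map (CommRingCat.hom_ext (RingHom.ext fun b => ?_))
    show (Algebra.TensorProduct.map (AlgHom.id W W) φ.hom) ((1 : W) ⊗ₜ[R] b) = (1 : W) ⊗ₜ[R] φ.hom b
    rw [Algebra.TensorProduct.map_tmul]
    rfl
  · rw [Category.assoc, piLeft_snd, Category.assoc]
    erw [pullback.lift_snd, piLeft_snd]
    exact Over.w (sMap (R := CommRingCat.of W) (pieceHom f a W w) ((Adeq.Alg.baseChange R W).map φ))

theorem gammaSpec_natural {B C : CommRingCat.{u}} (φ : B ⟶ C) (x : B) :
    (Spec.map φ).appTop.hom ((Scheme.ΓSpecIso B).inv.hom x) = (Scheme.ΓSpecIso C).inv.hom (φ.hom x) :=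
  (RingHom.congr_fun (congrArg CommRingCat.Hom.hom (Scheme.ΓSpecIso_inv_naturality φ)) x).symm

variable (M : BigSite.Mod Scheme.fppfPrecoverage T)

/-- Restriction of sections of the pushforward to an affine piece. -/
def resPiece : (Adeq.toMVF Scheme.fppfPrecoverage a).obj ((BigSite.pushMod Scheme.fppfPrecoverage f).obj M) ⟶
    (Adeq.push R W).obj ((Adeq.toMVF (R := CommRingCat.of W) Scheme.fppfPrecoverage (pieceHom f a W w)).obj M) :=
  mkHom
    (fun B =>
      { toFun := fun x => M.val.presheaf.map (piOb f a W w hw B).op x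
        map_add' := map_add (M.val.presheaf.map (piOb f a W w hw B).op).hom
        map_smul' := fun r x => by
          refine (M.val.map_smul (piOb f a W w hw B).op _ x).trans ?_
          refine congrArg (· • _) ?_
          refine ULift.ext _ _ ?_
          show (piLeft f a W w hw B).appTop.hom ((pullback.fst (sOb a B).hom f).appTop.hom
              ((Scheme.ΓSpecIso (CommRingCat.of (B : Type u))).inv.hom r)) = _
          refine (RingHom.congr_fun (congrArg CommRingCat.Hom.hom
            (Scheme.Hom.comp_appTop (piLeft f a W w hw B) (pullback.fst (sOb a B).hom f))) _).symm.trans ?_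
          rw [piLeft_fst]
          exact gammaSpec_natural (B := CommRingCat.of (B : Type u)) _ r })
    (fun B B' φ x => by
      show M.val.presheaf.map (piOb f a W w hw B').op (M.val.presheaf.map ((Over.pullback f).map (sMap a φ)).op x) =
        M.val.presheaf.map (sMap (R := CommRingCat.of W) (pieceHom f a W w) ((Adeq.Alg.baseChange R W).map φ)).op
          (M.val.presheaf.map (piOb f a W w hw B).op x)
      rw [← ConcreteCategory.comp_apply, ← ConcreteCategory.comp_apply, ← M.val.presheaf.map_comp,
        ← M.val.presheaf.map_comp, ← op_comp, ← op_comp, piOb_natural])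

variable (W' : Type u) [CommRing W'] [Algebra R W'] (w' : Spec (CommRingCat.of W') ⟶ TR f a) (u : W →ₐ[R] W')
  (hu : Spec.map (CommRingCat.ofHom u.toRingHom) ≫ w = w')

include hu in
theorem pieceMap_w (B : Adeq.Alg R) :
    Spec.map (CommRingCat.ofHom (Algebra.TensorProduct.map u (AlgHom.id R (B : Type u))).toRingHom) ≫
      (pieceOb f a W w B).hom = (pieceOb f a W' w' B).hom := by
  show _ ≫ specStr (R := CommRingCat.of W) ((Adeq.Alg.baseChange R W).obj B) ≫ w ≫ pullback.snd a f =
    specStr (R := CommRingCat.of W') ((Adeq.Alg.baseChange R W').obj B) ≫ w' ≫ pullback.snd a f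
  rw [← hu, ← Category.assoc, Category.assoc (Spec.map (CommRingCat.ofHom u.toRingHom))]
  rw [← Category.assoc (specStr (R := CommRingCat.of W') ((Adeq.Alg.baseChange R W').obj B))]
  refine congrArg (· ≫ w ≫ pullback.snd a f) ?_
  show Spec.map _ ≫ Spec.map _ = Spec.map _ ≫ Spec.map _
  rw [← Spec.map_comp, ← Spec.map_comp]
  refine congrArg Spec.map (CommRingCat.hom_ext (RingHom.ext fun c => ?_))
  show Algebra.TensorProduct.map u (AlgHom.id R (B : Type u)) (c ⊗ₜ[R] (1 : (B : Type u))) = u c ⊗ₜ[R] 1
  rw [Algebra.TensorProduct.map_tmul]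
  rfl

/-- The map of affine pieces over `T`. -/
def pieceMap (B : Adeq.Alg R) : pieceOb f a W' w' B ⟶ pieceOb f a W w B :=
  Over.homMk (Spec.map (CommRingCat.ofHom (Algebra.TensorProduct.map u (AlgHom.id R (B : Type u))).toRingHom))
    (pieceMap_w f a W w W' w' u hu B)

theorem pieceMap_natural {B B' : Adeq.Alg R} (φ : B ⟶ B') :
    sMap (R := CommRingCat.of W') (pieceHom f a W' w') ((Adeq.Alg.baseChange R W').map φ) ≫
        pieceMap f a W w W' w' u hu B =
      pieceMap f a W w W' w' u hu B' ≫
        sMap (R := CommRingCat.of W) (pieceHom f a W w) ((Adeq.Alg.baseChange R W).map φ) := by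
  ext : 1
  show Spec.map _ ≫ Spec.map _ = Spec.map _ ≫ Spec.map _
  rw [← Spec.map_comp, ← Spec.map_comp]
  refine congrArg Spec.map (CommRingCat.hom_ext (RingHom.ext fun c => ?_))
  show Algebra.TensorProduct.map (AlgHom.id W' W') φ.hom
      (Algebra.TensorProduct.map u (AlgHom.id R (B : Type u)) c) =
    Algebra.TensorProduct.map u (AlgHom.id R (B' : Type u)) (Algebra.TensorProduct.map (AlgHom.id W W) φ.hom c)
  induction c using TensorProduct.induction_on with
  | zero => simp only [map_zero]
  | tmul x b => rw [Algebra.TensorProduct.map_tmul, Algebra.TensorProduct.map_tmul, Algebra.TensorProduct.map_tmul,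
      Algebra.TensorProduct.map_tmul]; rfl
  | add x y hx hy => simp only [map_add, hx, hy]

theorem piOb_pieceMap (hw' : w' ≫ pullback.fst a f = Spec.map (CommRingCat.ofHom (algebraMap R W')))
    (B : Adeq.Alg R) :
    pieceMap f a W w W' w' u hu B ≫ piOb f a W w hw B = piOb f a W' w' hw' B := by
  ext : 1
  show Spec.map _ ≫ piLeft f a W w hw B = piLeft f a W' w' hw' B
  refine pullback.hom_ext ?_ ?_
  · rw [Category.assoc, piLeft_fst, piLeft_fst]
    show Spec.map _ ≫ Spec.map _ = Spec.map _
    rw [← Spec.map_comp]
    refine congrArg Spec.map (CommRingCat.hom_ext (RingHom.ext fun b => ?_))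
    show Algebra.TensorProduct.map u (AlgHom.id R (B : Type u)) ((1 : W) ⊗ₜ[R] b) = (1 : W') ⊗ₜ[R] b
    rw [Algebra.TensorProduct.map_tmul, map_one]
    rfl
  · rw [Category.assoc, piLeft_snd, piLeft_snd]
    exact pieceMap_w f a W w W' w' u hu B

/-- Restriction of sections between affine pieces. -/
def pieceRes : (Adeq.push R W).obj ((Adeq.toMVF (R := CommRingCat.of W) Scheme.fppfPrecoverage (pieceHom f a W w)).obj M) ⟶
    (Adeq.push R W').obj ((Adeq.toMVF (R := CommRingCat.of W') Scheme.fppfPrecoverage (pieceHom f a W' w')).obj M) :=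
  mkHom
    (fun B =>
      { toFun := fun x => M.val.presheaf.map (pieceMap f a W w W' w' u hu B).op x
        map_add' := map_add (M.val.presheaf.map (pieceMap f a W w W' w' u hu B).op).hom
        map_smul' := fun r x => by
          refine (M.val.map_smul (pieceMap f a W w W' w' u hu B).op _ x).trans ?_
          refine congrArg (· • _) ?_
          refine ULift.ext _ _ ?_
          refine (gammaSpec_natural (B := CommRingCat.of (W ⊗[R] (B : Type u)))
            (CommRingCat.ofHom (Algebra.TensorProduct.map u (AlgHom.id R (B : Type u))).toRingHom)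
            ((1 : W) ⊗ₜ[R] r)).trans ?_
          refine congrArg _ ?_
          show Algebra.TensorProduct.map u (AlgHom.id R (B : Type u)) ((1 : W) ⊗ₜ[R] r) = (1 : W') ⊗ₜ[R] r
          rw [Algebra.TensorProduct.map_tmul, map_one]
          rfl })
    (fun B B' φ x => by
      show M.val.presheaf.map (pieceMap f a W w W' w' u hu B').op
          (M.val.presheaf.map (sMap (R := CommRingCat.of W) (pieceHom f a W w) ((Adeq.Alg.baseChange R W).map φ)).op x) =
        M.val.presheaf.map (sMap (R := CommRingCat.of W') (pieceHom f a W' w') ((Adeq.Alg.baseChange R W').map φ)).op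
          (M.val.presheaf.map (pieceMap f a W w W' w' u hu B).op x)
      rw [← ConcreteCategory.comp_apply, ← ConcreteCategory.comp_apply, ← M.val.presheaf.map_comp,
        ← M.val.presheaf.map_comp, ← op_comp, ← op_comp, pieceMap_natural])

end Groth.Agent.AdeqA
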