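import Groth.Agent.Lib.AdeqA.DescFam
import Groth.Prelude.Def_Adeq2
import Mathlib.CategoryTheory.Sites.SheafOfTypes

/-!
# Adequate modules on big sites: values on affine objects
-/

set_option autoImplicit false
set_option maxHeartbeats 400000

universe u

open CategoryTheory CategoryTheory.Limits AlgebraicGeometry Opposite TensorProduct

noncomputable section

namespace Groth.Agent.AdeqA

/-! ### Morphisms into affine schemes -/

/-- The ring map attached to a morphism to an affine scheme. -/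
def toSec {T : Scheme.{u}} {X : CommRingCat.{u}} (g : T ⟶ Spec X) : X ⟶ Γ(T, ⊤) :=
  (Scheme.ΓSpecIso X).inv ≫ g.appTop

theorem toSec_comp {T : Scheme.{u}} {X Y : CommRingCat.{u}} (g : T ⟶ Spec X) (ψ : Y ⟶ X) :
    toSec (g ≫ Spec.map ψ) = ψ ≫ toSec g := by
  rw [toSec, toSec, Scheme.Hom.comp_appTop, ← Category.assoc, ← Scheme.ΓSpecIso_inv_naturality, Category.assoc]

theorem toSec_ofSec {T : Scheme.{u}} {X : CommRingCat.{u}} (φ : X ⟶ Γ(T, ⊤)) :
    toSec (T.toSpecΓ ≫ Spec.map φ) = φ := by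
  rw [toSec_comp]
  simp [toSec]

theorem toSec_injective {T : Scheme.{u}} {X : CommRingCat.{u}} :
    Function.Injective (toSec : (T ⟶ Spec X) → (X ⟶ Γ(T, ⊤))) := fun g h e =>
  ext_of_isAffine ((cancel_epi (Scheme.ΓSpecIso X).inv).1 e)

theorem exists_ringHom_tensor {R X Y W : Type u} [CommRing R] [CommRing X] [CommRing Y] [CommRing W] [Algebra R X]
    [Algebra R Y] (f : X →+* W) (g : Y →+* W) (h : f.comp (algebraMap R X) = g.comp (algebraMap R Y)) :
    ∃ φ : X ⊗[R] Y →+* W, (∀ x, φ (x ⊗ₜ[R] (1 : Y)) = f x) ∧ ∀ y, φ ((1 : X) ⊗ₜ[R] y) = g y := by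
  letI : Algebra R W := (f.comp (algebraMap R X)).toAlgebra
  let f' : X →ₐ[R] W := { f with commutes' := fun r => rfl }
  let g' : Y →ₐ[R] W := { g with commutes' := fun r => (RingHom.congr_fun h r).symm }
  refine ⟨(Algebra.TensorProduct.lift f' g' fun x y => Commute.all _ _).toRingHom, fun x => ?_, fun y => ?_⟩
  · show Algebra.TensorProduct.lift f' g' _ (x ⊗ₜ[R] (1 : Y)) = f x
    rw [Algebra.TensorProduct.lift_tmul, map_one, mul_one]
    rfl
  · show Algebra.TensorProduct.lift f' g' _ ((1 : X) ⊗ₜ[R] y) = g y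
    rw [Algebra.TensorProduct.lift_tmul, map_one, one_mul]
    rfl

variable {R : CommRingCat.{u}}

/-- The map of spectra attached to a map of algebras. -/
abbrev specMap {B B' : Adeq.Alg R} (f : B ⟶ B') :
    Spec (CommRingCat.of (B' : Type u)) ⟶ Spec (CommRingCat.of (B : Type u)) :=
  Spec.map (CommRingCat.ofHom f.hom.toRingHom)

/-- The structure map of the spectrum of an algebra. -/
abbrev specStr (B : Adeq.Alg R) : Spec (CommRingCat.of (B : Type u)) ⟶ Spec R :=
  Spec.map (CommRingCat.ofHom (algebraMap R B))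

theorem specMap_str {B B' : Adeq.Alg R} (f : B ⟶ B') : specMap f ≫ specStr B = specStr B' := by
  rw [specMap, specStr, ← Spec.map_comp, ← CommRingCat.ofHom_comp, AlgHom.toRingHom_eq_coe, AlgHom.comp_algebraMap]

variable (R) in
/-- The algebra obtained by base change along `R → A'`, as an `R`-algebra. -/
abbrev bcR (A' : Type u) [CommRing A'] [Algebra R A'] : Adeq.Alg R ⥤ Adeq.Alg R :=
  Adeq.Alg.baseChange R A' ⋙ Adeq.Alg.restr R A'

/-- Maps to the spectrum of `A' ⊗ B`. -/
theorem exists_lift_spec {T : Scheme.{u}} (A' : Type u) [CommRing A'] [Algebra R A'] (B : Adeq.Alg R)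
    (c : T ⟶ Spec (CommRingCat.of A')) (g : T ⟶ Spec (CommRingCat.of (B : Type u)))
    (h : c ≫ Spec.map (CommRingCat.ofHom (algebraMap R A')) = g ≫ specStr B) :
    ∃ t : T ⟶ Spec (CommRingCat.of ((bcR R A').obj B : Type u)),
      t ≫ specMap (Adeq.Alg.unit R A' B) = g ∧ ∀ a : A', (toSec t).hom (a ⊗ₜ[R] (1 : B)) = (toSec c).hom a := by
  have e := congrArg toSec h
  rw [toSec_comp, toSec_comp] at e
  obtain ⟨φ, hφ1, hφ2⟩ := exists_ringHom_tensor (R := R) (toSec c).hom (toSec g).hom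
    (congrArg CommRingCat.Hom.hom e)
  refine ⟨T.toSpecΓ ≫ Spec.map (CommRingCat.ofHom φ), ?_, fun a => ?_⟩
  · refine toSec_injective ?_
    rw [toSec_comp, toSec_ofSec]
    ext b
    exact hφ2 b
  · rw [toSec_ofSec]
    exact hφ1 a

/-- Maps to the spectrum of `A'' ⊗ (A' ⊗ B)`. -/
theorem exists_lift_spec₂ {T : Scheme.{u}} (A' A'' : Type u) [CommRing A'] [Algebra R A'] [CommRing A'']
    [Algebra R A''] (B : Adeq.Alg R)
    (g' : T ⟶ Spec (CommRingCat.of ((bcR R A').obj B : Type u)))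
    (g'' : T ⟶ Spec (CommRingCat.of ((bcR R A'').obj B : Type u)))
    (h : g' ≫ specMap (Adeq.Alg.unit R A' B) = g'' ≫ specMap (Adeq.Alg.unit R A'' B)) :
    ∃ t : T ⟶ Spec (CommRingCat.of ((bcR R A'').obj ((bcR R A').obj B) : Type u)),
      t ≫ specMap (Adeq.Alg.unit R A'' ((bcR R A').obj B)) = g' ∧
        t ≫ specMap ((bcR R A'').map (Adeq.Alg.unit R A' B)) = g'' := by
  have hR : g' ≫ specStr _ = g'' ≫ specStr _ := by
    rw [← specMap_str (Adeq.Alg.unit R A' B), ← specMap_str (Adeq.Alg.unit R A'' B), reassoc_of% h]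
  let j : CommRingCat.of A'' ⟶ CommRingCat.of ((bcR R A'').obj B : Type u) :=
    CommRingCat.ofHom (Algebra.TensorProduct.includeLeftRingHom : A'' →+* A'' ⊗[R] (B : Type u))
  have hj : Spec.map j ≫ Spec.map (CommRingCat.ofHom (algebraMap R A'')) = specStr _ := by
    rw [← Spec.map_comp]
    rfl
  obtain ⟨t, ht1, ht2⟩ := exists_lift_spec A'' ((bcR R A').obj B) (g'' ≫ Spec.map j) g'
    (by rw [Category.assoc, hj, hR])
  refine ⟨t, ht1, toSec_injective ?_⟩
  rw [toSec_comp]
  have e := congrArg toSec h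
  rw [toSec_comp, toSec_comp] at e
  ext x
  induction x using TensorProduct.induction_on with
  | zero => simp only [map_zero]
  | add x y hx hy => simp only [map_add, hx, hy]
  | tmul a b =>
    have h1 : (a ⊗ₜ[R] b : A'' ⊗[R] (B : Type u)) = (a ⊗ₜ[R] 1) * (1 ⊗ₜ[R] b) := by
      rw [Algebra.TensorProduct.tmul_mul_tmul, mul_one, one_mul]
    rw [h1, map_mul, map_mul]
    refine congrArg₂ (· * ·) ?_ ?_
    · refine Eq.trans ?_ (ht2 a |>.trans ?_)
      · show (toSec t).hom (a ⊗ₜ[R] ((1 : A') ⊗ₜ[R] (1 : B))) = _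
        rfl
      · rw [toSec_comp]
        rfl
    · show (toSec t).hom ((1 : A'') ⊗ₜ[R] ((1 : A') ⊗ₜ[R] b)) = _
      have h2 := congrArg toSec ht1
      rw [toSec_comp] at h2
      exact ((RingHom.congr_fun (congrArg CommRingCat.Hom.hom h2) ((1 : A') ⊗ₜ[R] b))).trans
        (RingHom.congr_fun (congrArg CommRingCat.Hom.hom e) b)

/-! ### Presheaves of modules on a big site -/

section Presheaf

variable (K : Precoverage Scheme.{u}) [BigSite.OSh K] {S : Scheme.{u}}

/-- The object of the big site attached to an algebra. -/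
abbrev sOb (a : Spec R ⟶ S) (B : Adeq.Alg R) : Over S := (Adeq.specOver a).obj (op B)

/-- The morphism of the big site attached to a map of algebras. -/
abbrev sMap (a : Spec R ⟶ S) {B B' : Adeq.Alg R} (f : B ⟶ B') : sOb a B' ⟶ sOb a B := (Adeq.specOver a).map f.op

theorem sMap_left (a : Spec R ⟶ S) {B B' : Adeq.Alg R} (f : B ⟶ B') : (sMap a f).left = specMap f := rfl

variable {R' : CommRingCat.{u}} (a : Spec R ⟶ S) [Algebra R R'] (a' : Spec R' ⟶ S)
  (ha : a' = Spec.map (CommRingCat.ofHom (algebraMap R R')) ≫ a)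

include ha in
/-- An algebra over `R'` gives the same object of the site as the corresponding algebra over `R`. -/
theorem sOb_hom (B : Adeq.Alg R') :
    (sOb a ((Adeq.Alg.restr R R').obj B)).hom = (sOb a' B).hom := by
  subst ha
  show Spec.map (CommRingCat.ofHom ((algebraMap R' B).comp (algebraMap R R'))) ≫ a =
    Spec.map (CommRingCat.ofHom (algebraMap R' B)) ≫ Spec.map (CommRingCat.ofHom (algebraMap R R')) ≫ a
  rw [CommRingCat.ofHom_comp, Spec.map_comp, Category.assoc]

/-- The comparison isomorphism. -/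
def restrOb (B : Adeq.Alg R') : sOb a' B ≅ sOb a ((Adeq.Alg.restr R R').obj B) :=
  Over.isoMk (Iso.refl _) (by
    rw [Iso.refl_hom]
    exact (Category.id_comp _).trans (sOb_hom a a' ha B))

theorem restrOb_natural {B B' : Adeq.Alg R'} (f : B ⟶ B') :
    sMap a' f ≫ (restrOb a a' ha B).hom = (restrOb a a' ha B').hom ≫ sMap a ((Adeq.Alg.restr R R').map f) := by
  ext : 1
  exact (Category.comp_id _).trans (Category.id_comp _).symm

variable (P : PresheafOfModules.{u + 1} (BigSite.ORing K S).obj)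

theorem toMVFPre_fmap {B B' : Adeq.Alg R} (f : B ⟶ B') (x : El ((Adeq.toMVFPre K a).obj P) B) :
    fmap ((Adeq.toMVFPre K a).obj P) f x = P.presheaf.map (sMap a f).op x :=
  rfl

/-- Restriction of scalars of the functor of a presheaf of modules. -/
def restrSite : (Adeq.restr R R').obj ((Adeq.toMVFPre K a).obj P) ⟶ (Adeq.toMVFPre K a').obj P :=
  mkHom
    (fun B =>
      { toFun := fun x => P.presheaf.map (restrOb a a' ha B).hom.op x
        map_add' := map_add (P.presheaf.map (restrOb a a' ha B).hom.op).hom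
        map_smul' := fun r x => by
          refine (P.map_smul (restrOb a a' ha B).hom.op (Adeq.toSect K a ((Adeq.Alg.restr R R').obj B) r) x).trans ?_
          refine congrArg (· • _) ?_
          refine ULift.ext _ _ ?_
          show ((Scheme.ΓSpecIso (CommRingCat.of (B : Type u))).inv ≫
            Scheme.Hom.appTop (𝟙 (Spec (CommRingCat.of (B : Type u))))).hom r = _
          rw [Scheme.Hom.id_appTop, Category.comp_id]
          rfl })
    (fun B B' f x => by
      show P.presheaf.map (restrOb a a' ha B').hom.op (P.presheaf.map (sMap a ((Adeq.Alg.restr R R').map f)).op x) =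
        P.presheaf.map (sMap a' f).op (P.presheaf.map (restrOb a a' ha B).hom.op x)
      rw [← ConcreteCategory.comp_apply, ← ConcreteCategory.comp_apply, ← P.presheaf.map_comp,
        ← P.presheaf.map_comp, ← op_comp, ← op_comp, restrOb_natural])

include ha in
theorem nonempty_restr_iso :
    Nonempty ((Adeq.restr R R').obj ((Adeq.toMVFPre K a).obj P) ≅ (Adeq.toMVFPre K a').obj P) := by
  have hb : ∀ B, Function.Bijective (app (restrSite K a a' ha P) B) := fun B =>
    ConcreteCategory.bijective_of_isIso (P.presheaf.map (restrOb a a' ha B).hom.op)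
  haveI := mono_of_injective _ fun B => (hb B).1
  haveI := epi_of_surjective _ fun B => (hb B).2
  haveI := isIso_of_mono_of_epi (restrSite K a a' ha P)
  exact ⟨asIso (restrSite K a a' ha P)⟩

end Presheaf

/-! ### Sheaf condition on affine objects -/

section Sheaf

variable {K : Precoverage Scheme.{u}} [BigSite.OSh K] {S : Scheme.{u}} (M : BigSite.Mod K S) (a : Spec R ⟶ S)
  {J : Type} (A' : J → Type u) [∀ j, CommRing (A' j)] [∀ j, Algebra R (A' j)]

theorem toMVF_fmap {B B' : Adeq.Alg R} (f : B ⟶ B') (x : El ((Adeq.toMVF K a).obj M) B) :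
    fmap ((Adeq.toMVF K a).obj M) f x = M.val.presheaf.map (sMap a f).op x :=
  rfl

theorem cover_baseChange
    (hcov : Sieve.ofArrows (fun j => Spec (CommRingCat.of (A' j)))
      (fun j => Spec.map (CommRingCat.ofHom (algebraMap R (A' j)))) ∈ K.toGrothendieck (Spec R))
    (B : Adeq.Alg R) :
    Sieve.ofArrows (fun j => sOb a ((bcR R (A' j)).obj B)) (fun j => sMap a (Adeq.Alg.unit R (A' j) B)) ∈
      QuotSh.J K S (sOb a B) := by
  rw [GrothendieckTopology.mem_over_iff, Sieve.overEquiv_ofArrows]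
  refine K.toGrothendieck.superset_covering ?_ (K.toGrothendieck.pullback_stable (specStr B) hcov)
  intro T g hg
  obtain ⟨_, c, _, ⟨j⟩, hc⟩ := hg
  obtain ⟨t, ht, -⟩ := exists_lift_spec (A' j) B c g hc
  exact ⟨_, t, specMap (Adeq.Alg.unit R (A' j) B), Presieve.ofArrows.mk j, ht⟩

theorem sheaf_condition
    (hcov : Sieve.ofArrows (fun j => Spec (CommRingCat.of (A' j)))
      (fun j => Spec.map (CommRingCat.ofHom (algebraMap R (A' j)))) ∈ K.toGrothendieck (Spec R))
    (B : Adeq.Alg R) :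
    (∀ x : El ((Adeq.toMVF K a).obj M) B,
        (∀ j, fmap ((Adeq.toMVF K a).obj M) (Adeq.Alg.unit R (A' j) B) x = 0) → x = 0) ∧
      ∀ y : ∀ j, El ((Adeq.toMVF K a).obj M) ((bcR R (A' j)).obj B),
        (∀ j k, fmap ((Adeq.toMVF K a).obj M) (Adeq.Alg.unit R (A' k) ((bcR R (A' j)).obj B)) (y j) =
          fmap ((Adeq.toMVF K a).obj M) ((bcR R (A' k)).map (Adeq.Alg.unit R (A' j) B)) (y k)) →
        ∃ x, ∀ j, fmap ((Adeq.toMVF K a).obj M) (Adeq.Alg.unit R (A' j) B) x = y j := by
  have hF := (isSheaf_iff_isSheaf_of_type _ _).1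
    ((Presheaf.isSheaf_iff_isSheaf_forget _ M.val.presheaf (forget AddCommGrpCat.{u + 1})).1 M.isSheaf)
  have hS := hF.isSheafFor _ (cover_baseChange a A' hcov B)
  refine ⟨fun x hx => ?_, fun y hy => ?_⟩
  · refine hS.isSeparatedFor.ext (t₁ := x) (t₂ := 0) fun Y g hg => ?_
    obtain ⟨j⟩ := hg
    exact (hx j).trans (map_zero (M.val.presheaf.map (sMap a (Adeq.Alg.unit R (A' j) B)).op).hom).symm
  · obtain ⟨x, hx, -⟩ := (Presieve.isSheafFor_arrows_iff _ _).1 hS y fun j k Z gj gk h => by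
      obtain ⟨t, ht1, ht2⟩ := exists_lift_spec₂ (A' j) (A' k) B gj.left gk.left (congrArg CommaMorphism.left h)
      let s : Z ⟶ sOb a ((bcR R (A' k)).obj ((bcR R (A' j)).obj B)) := Over.homMk t (by
        rw [← Over.w gj]
        show t ≫ specStr _ ≫ a = gj.left ≫ specStr _ ≫ a
        have e := congrArg (fun q => t ≫ q ≫ a) (specMap_str (Adeq.Alg.unit R (A' k) ((bcR R (A' j)).obj B)))
        simp only [Category.assoc] at e
        rw [← ht1]
        exact e.symm.trans (Category.assoc t _ _).symm)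
      have e1 : gj = s ≫ sMap a (Adeq.Alg.unit R (A' k) ((bcR R (A' j)).obj B)) := by
        ext : 1
        exact ht1.symm
      have e2 : gk = s ≫ sMap a ((bcR R (A' k)).map (Adeq.Alg.unit R (A' j) B)) := by
        ext : 1
        exact ht2.symm
      rw [e1, e2, op_comp, op_comp, Functor.map_comp, Functor.map_comp]
      exact congrArg ((M.val.presheaf ⋙ forget AddCommGrpCat.{u + 1}).map s.op) (hy j k)
    exact ⟨x, hx⟩

theorem adequate_of_cover [Finite J]
    (hcov : Sieve.ofArrows (fun j => Spec (CommRingCat.of (A' j)))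
      (fun j => Spec.map (CommRingCat.ofHom (algebraMap R (A' j)))) ∈ K.toGrothendieck (Spec R))
    (h : ∀ j, Adeq.adequate (A' j) ((Adeq.restr R (A' j)).obj ((Adeq.toMVF K a).obj M))) :
    Adeq.adequate R ((Adeq.toMVF K a).obj M) :=
  adequate_of_descentFamily A' _ h (fun B => (sheaf_condition M a A' hcov B).1)
    (fun B => (sheaf_condition M a A' hcov B).2)

end Sheaf

/-! ### Adequate modules have adequate functors on every affine object -/

variable (P : MorphismProperty Scheme.{u}) [P.IsStableUnderBaseChange] [P.IsStableUnderComposition]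

/-- Every covering of an affine scheme is refined by a finite covering by affine schemes. -/
theorem exists_finite_affine_refinement (hP : ∀ ⦃X Y : Scheme.{u}⦄ (f : X ⟶ Y), P f → IsOpenMap f)
    (hO : ∀ ⦃X Y : Scheme.{u}⦄ (f : X ⟶ Y), IsOpenImmersion f → P f)
    (R : CommRingCat.{u}) {ι : Type*} (X : ι → Scheme.{u}) (f : ∀ i, X i ⟶ Spec R)
    (h : Presieve.ofArrows X f ∈ (Scheme.precoverage P).coverings (Spec R)) :
    ∃ (J : Type) (_ : Finite J) (A' : J → CommRingCat.{u}) (φ : ∀ j, R ⟶ A' j),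
      Sieve.ofArrows (fun j => Spec (A' j)) (fun j => Spec.map (φ j)) ∈
          (Scheme.precoverage P).toGrothendieck (Spec R) ∧
        ((∀ x : ↥(Spec R), ∃ j, x ∈ Set.range (Spec.map (φ j))) ∧ ∀ j, P (Spec.map (φ j))) ∧
        ∀ j, ∃ (i : ι) (g : Spec (A' j) ⟶ X i), g ≫ f i = Spec.map (φ j) := by
  obtain ⟨hsurj, hp⟩ := (Scheme.ofArrows_mem_precoverage_iff P).1 h
  choose i₀ hi₀ using hsurj
  choose y hy using hi₀
  have hw : ∀ x, ∃ W : (X (i₀ x)).Opens, IsAffineOpen W ∧ y x ∈ W := fun x => by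
    obtain ⟨_, ⟨W, hW, rfl⟩, hyW, -⟩ := (X (i₀ x)).isBasis_affineOpens.exists_subset_of_mem_open
      (Set.mem_univ (y x)) isOpen_univ
    exact ⟨W, hW, hyW⟩
  choose W hW hyW using hw
  obtain ⟨t, ht⟩ := isCompact_univ.elim_finite_subcover (fun x : ↥(Spec R) => f (i₀ x) '' (W x : Set _))
    (fun x => hP _ (hp _) _ (W x).2) (fun x _ => Set.mem_iUnion.2 ⟨x, y x, hyW x, hy x⟩)
  let e := t.equivFin.symm
  refine ⟨Fin t.card, inferInstance, fun j => Γ(X (i₀ (e j).1), W (e j).1),
    fun j => Spec.preimage ((hW (e j).1).fromSpec ≫ f (i₀ (e j).1)),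
      Precoverage.generate_mem_toGrothendieck ((Scheme.ofArrows_mem_precoverage_iff P).2 ?main), ?main, fun j =>
      ⟨_, (hW (e j).1).fromSpec, (Spec.map_preimage _).symm⟩⟩
  refine ⟨fun x => ?_, fun j => ?_⟩
  · obtain ⟨x', hx', z, hz, rfl⟩ := Set.mem_iUnion₂.1 (ht (Set.mem_univ x))
    obtain ⟨j, hj⟩ : ∃ j, e j = ⟨x', hx'⟩ := ⟨_, e.apply_symm_apply _⟩
    obtain rfl : x' = (e j).1 := by rw [hj]
    refine ⟨j, ?_⟩
    rw [Spec.map_preimage]
    rw [← (hW (e j).1).range_fromSpec] at hz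
    obtain ⟨w, hw⟩ := hz
    exact ⟨w, by rw [Scheme.Hom.comp_apply, hw]⟩
  · rw [Spec.map_preimage]
    exact P.comp_mem _ _ (hO _ inferInstance) (hp _)

variable [BigSite.OSh (Scheme.precoverage P)]

theorem adequate_toMVF (hP : ∀ ⦃X Y : Scheme.{u}⦄ (f : X ⟶ Y), P f → IsOpenMap f)
    (hO : ∀ ⦃X Y : Scheme.{u}⦄ (f : X ⟶ Y), IsOpenImmersion f → P f)
    {S : Scheme.{u}} {M : BigSite.Mod (Scheme.precoverage P) S}
    (hM : Adeq.adequateMod (Scheme.precoverage P) S M) (R : CommRingCat.{u}) (a : Spec R ⟶ S) :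
    Adeq.adequate R ((Adeq.toMVF (Scheme.precoverage P) a).obj M) := by
  obtain ⟨ι, Ri, ai, hcov, had⟩ := hM
  obtain ⟨hsurj, hp⟩ := (Scheme.ofArrows_mem_precoverage_iff P).1 hcov
  have hcov' : Presieve.ofArrows (fun i => pullback a (ai i)) (fun i => pullback.fst a (ai i)) ∈
      (Scheme.precoverage P).coverings (Spec R) := by
    refine (Scheme.ofArrows_mem_precoverage_iff P).2 ⟨fun x => ?_, fun i => P.pullback_fst _ _ (hp i)⟩
    obtain ⟨i, z, hz⟩ := hsurj (a x)
    obtain ⟨w, hw, -⟩ := Scheme.Pullback.exists_preimage_pullback (f := a) (g := ai i) x z hz.symm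
    exact ⟨i, w, hw⟩
  obtain ⟨J, _, A', φ, hc, -, hg⟩ := exists_finite_affine_refinement P hP hO R _ _ hcov'
  letI : ∀ j, Algebra R (A' j) := fun j => (φ j).hom.toAlgebra
  refine adequate_of_cover M a (fun j => (A' j : Type u)) hc fun j => ?_
  obtain ⟨i, g, hgi⟩ := hg j
  obtain ⟨ψ, hψ⟩ := Spec.map_surjective (g ≫ pullback.snd a (ai i))
  letI : Algebra (Ri i) (A' j) := ψ.hom.toAlgebra
  have h1 : Spec.map (φ j) ≫ a = Spec.map (CommRingCat.ofHom (algebraMap (Ri i) (A' j))) ≫ ai i := by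
    rw [← hgi, Category.assoc, pullback.condition, ← Category.assoc, ← hψ]
    rfl
  obtain ⟨e⟩ := nonempty_restr_iso (Scheme.precoverage P) a (Spec.map (φ j) ≫ a) rfl M.val
  obtain ⟨e'⟩ := nonempty_restr_iso (Scheme.precoverage P) (ai i) (Spec.map (φ j) ≫ a) h1 M.val
  exact (Adeq.adequate (A' j)).prop_of_iso (e' ≪≫ e.symm) (adequate_restr (A' j) (had i))

theorem adequate_toMVF_fppf {S : Scheme.{u}} {M : BigSite.Mod Scheme.fppfPrecoverage S}
    (hM : Adeq.adequateMod Scheme.fppfPrecoverage S M) (R : CommRingCat.{u}) (a : Spec R ⟶ S) :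
    Adeq.adequate R ((Adeq.toMVF Scheme.fppfPrecoverage a).obj M) :=
  haveI : BigSite.OSh (Scheme.precoverage (@Flat ⊓ @LocallyOfFinitePresentation : MorphismProperty Scheme.{u})) :=
    inferInstanceAs (BigSite.OSh Scheme.fppfPrecoverage.{u})
  adequate_toMVF (@Flat ⊓ @LocallyOfFinitePresentation)
    (fun _ _ f ⟨_, _⟩ => f.isOpenMap) (fun _ _ _ _ => ⟨inferInstance, inferInstance⟩) hM R a

theorem adequate_toMVF_zariski {S : Scheme.{u}} {M : BigSite.Mod Scheme.zariskiPrecoverage S}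
    (hM : Adeq.adequateMod Scheme.zariskiPrecoverage S M) (R : CommRingCat.{u}) (a : Spec R ⟶ S) :
    Adeq.adequate R ((Adeq.toMVF Scheme.zariskiPrecoverage a).obj M) :=
  haveI : BigSite.OSh (Scheme.precoverage (@IsOpenImmersion : MorphismProperty Scheme.{u})) :=
    inferInstanceAs (BigSite.OSh Scheme.zariskiPrecoverage.{u})
  adequate_toMVF @IsOpenImmersion
    (fun _ _ f hf => haveI := hf; f.isOpenEmbedding.isOpenMap) (fun _ _ _ h => h) hM R a

end Groth.Agent.AdeqA
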