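import Groth.Agent.Lib.AdeqA.SiteSheafify
import Mathlib.Algebra.Category.ModuleCat.Sheaf.Colimits

/-!
# Sheafification, kernels, cokernels and colimits of adequate modules
-/

set_option autoImplicit false
set_option maxHeartbeats 400000

universe u

open CategoryTheory CategoryTheory.Limits AlgebraicGeometry Opposite

noncomputable section

namespace Groth.Agent.AdeqA

attribute [local instance] Abelian.hasFiniteBiproducts

variable {S : Scheme.{u}}

theorem nonempty_iso_of_bijective {K : Precoverage Scheme.{u}} [BigSite.OSh K] {R : CommRingCat.{u}}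
    (a : Spec R ⟶ S) {M N : PresheafOfModules.{u + 1} (BigSite.ORing K S).obj} (η : M ⟶ N)
    (h : ∀ B : Adeq.Alg R, Function.Bijective (((PresheafOfModules.toPresheaf _).map η).app (op (sOb a B)))) :
    Nonempty ((Adeq.toMVFPre K a).obj M ≅ (Adeq.toMVFPre K a).obj N) := by
  haveI := mono_of_injective ((Adeq.toMVFPre K a).map η) fun B => (h B).1
  haveI := epi_of_surjective ((Adeq.toMVFPre K a).map η) fun B => (h B).2
  haveI := isIso_of_mono_of_epi ((Adeq.toMVFPre K a).map η)
  exact ⟨asIso ((Adeq.toMVFPre K a).map η)⟩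

theorem bijective_toSheafify (P : MorphismProperty Scheme.{u}) [P.IsStableUnderBaseChange] [P.IsMultiplicative]
    [BigSite.OSh (Scheme.precoverage P)]
    (M : PresheafOfModules.{u + 1} (BigSite.ORing (Scheme.precoverage P) S).obj)
    (hP : ∀ ⦃X Y : Scheme.{u}⦄ (f : X ⟶ Y), P f → IsOpenMap f)
    (hO : ∀ ⦃X Y : Scheme.{u}⦄ (f : X ⟶ Y), IsOpenImmersion f → P f)
    (hF : ∀ ⦃X Y : Scheme.{u}⦄ (f : X ⟶ Y), P f → Flat f)
    (h : ∀ (R : CommRingCat.{u}) (a : Spec R ⟶ S),
      Adeq.adequate R ((Adeq.toMVFPre (Scheme.precoverage P) a).obj M))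
    (R : CommRingCat.{u}) (a : Spec R ⟶ S) (B : Adeq.Alg R) :
    Function.Bijective ((CategoryTheory.toSheafify (QuotSh.J (Scheme.precoverage P) S) M.presheaf).app
      (op (sOb a B))) :=
  bijective_app P M _ _ hP hO hF h
    ((CategoryTheory.presheafToSheaf (QuotSh.J (Scheme.precoverage P) S) _).obj M.presheaf).property R a B

/-- The sheafification of a presheaf of modules. -/
abbrev shMod (M : PresheafOfModules.{u + 1} (BigSite.ORing Scheme.fppfPrecoverage S).obj) :
    BigSite.Mod Scheme.fppfPrecoverage S :=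
  (PresheafOfModules.sheafification (𝟙 (BigSite.ORing Scheme.fppfPrecoverage S).obj)).obj M

/-- The comparison map to the sheafification. -/
abbrev shUnit (M : PresheafOfModules.{u + 1} (BigSite.ORing Scheme.fppfPrecoverage S).obj) :
    M ⟶ (PresheafOfModules.restrictScalars (𝟙 (BigSite.ORing Scheme.fppfPrecoverage S).obj)).obj (shMod M).val :=
  PresheafOfModules.toSheafify (𝟙 (BigSite.ORing Scheme.fppfPrecoverage S).obj)
    (CategoryTheory.toSheafify (QuotSh.J Scheme.fppfPrecoverage S) M.presheaf)

/-- Removing restriction of scalars along the identity. -/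
def restrictId {K : Precoverage Scheme.{u}} [BigSite.OSh K] (N : PresheafOfModules.{u + 1} (BigSite.ORing K S).obj) :
    (PresheafOfModules.restrictScalars (𝟙 (BigSite.ORing K S).obj)).obj N ⟶ N :=
  PresheafOfModules.homMk (𝟙 N.presheaf) (fun _ _ _ => rfl)

set_option backward.isDefEq.respectTransparency.types false in
theorem adequate_toMVF_sheafification (M : PresheafOfModules.{u + 1} (BigSite.ORing Scheme.fppfPrecoverage S).obj)
    (h : ∀ (R : CommRingCat.{u}) (a : Spec R ⟶ S), Adeq.adequate R ((Adeq.toMVFPre Scheme.fppfPrecoverage a).obj M))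
    (R : CommRingCat.{u}) (a : Spec R ⟶ S) :
    Adeq.adequate R ((Adeq.toMVF Scheme.fppfPrecoverage a).obj (shMod M)) := by
  haveI : BigSite.OSh (Scheme.precoverage (@Flat ⊓ @LocallyOfFinitePresentation : MorphismProperty Scheme.{u})) := inferInstanceAs (BigSite.OSh Scheme.fppfPrecoverage.{u})
  haveI : (@Flat ⊓ @LocallyOfFinitePresentation : MorphismProperty Scheme.{u}).IsMultiplicative :=
    { id_mem := fun _ => ⟨inferInstance, inferInstance⟩
      comp_mem := fun f g hf hg => by
        haveI := hf.1; haveI := hf.2; haveI := hg.1; haveI := hg.2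
        exact ⟨inferInstance, inferInstance⟩ }
  have hb := fun B => bijective_toSheafify
    (@Flat ⊓ @LocallyOfFinitePresentation : MorphismProperty Scheme.{u}) M
    (fun _ _ f ⟨_, _⟩ => f.isOpenMap) (fun _ _ _ _ => ⟨inferInstance, inferInstance⟩) (fun _ _ _ h => h.1) h R a B
  obtain ⟨e⟩ := nonempty_iso_of_bijective a (shUnit M ≫ restrictId (shMod M).val) hb
  exact (Adeq.adequate R).prop_of_iso e (h R a)

theorem adequateMod_sheafification (M : PresheafOfModules.{u + 1} (BigSite.ORing Scheme.fppfPrecoverage S).obj)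
    (h : ∀ (R : CommRingCat.{u}) (a : Spec R ⟶ S), Adeq.adequate R ((Adeq.toMVFPre Scheme.fppfPrecoverage a).obj M)) :
    Adeq.adequateMod Scheme.fppfPrecoverage S (shMod M) :=
  adequateMod_fppf_of_forall (adequate_toMVF_sheafification M h)

/-- A sheaf of modules is the sheafification of its presheaf. -/
def forgetShIso (S : Scheme.{u}) :
    SheafOfModules.forget (BigSite.ORing Scheme.fppfPrecoverage S) ⋙
        PresheafOfModules.sheafification (𝟙 (BigSite.ORing Scheme.fppfPrecoverage S).obj) ≅
      𝟭 (BigSite.Mod Scheme.fppfPrecoverage S) :=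
  haveI h : IsIso (PresheafOfModules.sheafificationAdjunction.{u + 1}
      (𝟙 (BigSite.ORing Scheme.fppfPrecoverage S).obj)).counit := inferInstance
  Functor.isoWhiskerRight (Iso.refl _ :
      SheafOfModules.forget (BigSite.ORing Scheme.fppfPrecoverage S) ≅
        SheafOfModules.forget _ ⋙ PresheafOfModules.restrictScalars (𝟙 _)) _ ≪≫
    @asIso _ _ _ _ _ h

theorem adequateMod_colimit {J : Type (u + 1)} [SmallCategory J] (D : J ⥤ BigSite.Mod Scheme.fppfPrecoverage S)
    (hD : ∀ j, Adeq.adequateMod Scheme.fppfPrecoverage S (D.obj j)) :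
    Adeq.adequateMod Scheme.fppfPrecoverage S (colimit D) := by
  let sh := PresheafOfModules.sheafification.{u + 1} (𝟙 (BigSite.ORing Scheme.fppfPrecoverage S).obj)
  haveI : sh.IsLeftAdjoint := inferInstance
  have e : colimit D ≅ sh.obj (colimit (D ⋙ SheafOfModules.forget _)) :=
    HasColimit.isoOfNatIso ((Functor.rightUnitor D).symm ≪≫ Functor.isoWhiskerLeft D (forgetShIso S).symm ≪≫
      (Functor.associator _ _ _).symm) ≪≫ (preservesColimitIso sh (D ⋙ SheafOfModules.forget _)).symm
  refine (Adeq.adequateMod _ S).prop_of_iso e.symm (adequateMod_sheafification _ fun R a => ?_)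
  exact (Adeq.adequate R).prop_of_iso (preservesColimitIso (Adeq.toMVFPre _ a) _).symm
    (adequate_colimit _ fun j => adequate_toMVF_fppf (hD j) R a)

theorem adequateMod_cokernel {M N : BigSite.Mod Scheme.fppfPrecoverage S} (φ : M ⟶ N)
    (hM : Adeq.adequateMod Scheme.fppfPrecoverage S M) (hN : Adeq.adequateMod Scheme.fppfPrecoverage S N) :
    Adeq.adequateMod Scheme.fppfPrecoverage S (cokernel φ) := by
  let F := SheafOfModules.forget (BigSite.ORing Scheme.fppfPrecoverage S)
  let sh := PresheafOfModules.sheafification.{u + 1} (𝟙 (BigSite.ORing Scheme.fppfPrecoverage S).obj)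
  haveI : PreservesColimitsOfSize.{0, 0} sh :=
    (PresheafOfModules.sheafificationAdjunction _).leftAdjoint_preservesColimits
  have e : cokernel φ ≅ sh.obj (cokernel (F.map φ)) :=
    (cokernel.mapIso (sh.map (F.map φ)) φ ((forgetShIso S).app M) ((forgetShIso S).app N)
      ((forgetShIso S).hom.naturality φ)).symm ≪≫ (PreservesCokernel.iso sh (F.map φ)).symm
  refine (Adeq.adequateMod _ S).prop_of_iso e.symm (adequateMod_sheafification _ fun R a => ?_)
  exact (Adeq.adequate R).prop_of_iso (PreservesCokernel.iso (Adeq.toMVFPre _ a) (F.map φ)).symm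
    (adequate_cokernel _ (adequate_toMVF_fppf hM R a) (adequate_toMVF_fppf hN R a))

theorem adequateMod_kernel {M N : BigSite.Mod Scheme.fppfPrecoverage S} (φ : M ⟶ N)
    (hM : Adeq.adequateMod Scheme.fppfPrecoverage S M) (hN : Adeq.adequateMod Scheme.fppfPrecoverage S N) :
    Adeq.adequateMod Scheme.fppfPrecoverage S (kernel φ) :=
  adequateMod_fppf_of_forall fun R a =>
    (Adeq.adequate R).prop_of_iso (PreservesKernel.iso (Adeq.toMVF Scheme.fppfPrecoverage a) φ).symm
      (adequate_kernel _ (adequate_toMVF_fppf hM R a) (adequate_toMVF_fppf hN R a))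

end Groth.Agent.AdeqA
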