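import Groth.Agent.Lib.AdeqA.SiteColim
import Mathlib.AlgebraicGeometry.Sites.Fpqc

/-!
# Adequate modules are fpqc sheaves
-/

set_option autoImplicit false
set_option maxHeartbeats 400000

universe u v w

open CategoryTheory CategoryTheory.Limits AlgebraicGeometry Opposite TensorProduct

noncomputable section

namespace Groth.Agent.AdeqA

section Formal

variable {C : Type v} [Category.{u} C] (J₀ J : GrothendieckTopology C) (F : Cᵒᵖ ⥤ Type w)

theorem isSeparatedFor_of_local (h₀ : Presieve.IsSheaf J₀ F)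
    (hloc : ∀ (V : C) (T : Sieve V), T ∈ J V → ∃ (κ : Type u) (W : κ → C) (f : ∀ k, W k ⟶ V),
      Sieve.ofArrows W f ∈ J₀ V ∧ ∀ k, Presieve.IsSeparatedFor F (T.pullback (f k)).arrows)
    (V : C) (T : Sieve V) (hT : T ∈ J V) : Presieve.IsSeparatedFor F T.arrows := by
  intro x t₁ t₂ h₁ h₂
  obtain ⟨κ, W, f, hW, hWT⟩ := hloc V T hT
  refine (Presieve.isSheafFor_iff_generate _ |>.2 (h₀ _ hW)).isSeparatedFor.ext fun Z g hg => ?_
  obtain ⟨k⟩ := hg
  refine (hWT k).ext fun Z' h hh => ?_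
  rw [← Functor.map_comp_apply, ← Functor.map_comp_apply, ← op_comp]
  exact (h₁ _ hh).trans (h₂ _ hh).symm

theorem isSheaf_of_local (h₀ : Presieve.IsSheaf J₀ F)
    (hsep : ∀ (V : C) (T : Sieve V), T ∈ J V → Presieve.IsSeparatedFor F T.arrows)
    (hloc : ∀ (V : C) (T : Sieve V), T ∈ J V → ∃ (κ : Type u) (W : κ → C) (f : ∀ k, W k ⟶ V),
      Sieve.ofArrows W f ∈ J₀ V ∧ ∀ k, Presieve.IsSheafFor F (T.pullback (f k)).arrows) :
    Presieve.IsSheaf J F := by
  intro V T hT x hx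
  obtain ⟨κ, W, f, hW, hWT⟩ := hloc V T hT
  choose y hy hyu using fun k =>
    hWT k (fun _ h hh => x (h ≫ f k) hh) (fun _ _ _ g₁ g₂ f₁ f₂ h₁ h₂ e => hx g₁ g₂ h₁ h₂ (by
      rw [← Category.assoc, e, Category.assoc]))
  obtain ⟨t, ht, -⟩ := (Presieve.isSheafFor_arrows_iff _ _).1
    (Presieve.isSheafFor_iff_generate _ |>.2 (h₀ _ hW)) y fun i j Z gi gj e => by
      refine (hsep Z _ (J.pullback_stable (gi ≫ f i) hT)).ext fun Z' h hh => ?_
      have hh₁ : T ((h ≫ gi) ≫ f i) := by rw [Category.assoc]; exact hh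
      have hh₂ : T ((h ≫ gj) ≫ f j) := by rw [Category.assoc, ← e]; exact hh
      rw [← Functor.map_comp_apply, ← Functor.map_comp_apply, ← op_comp, ← op_comp]
      refine (hy i (h ≫ gi) hh₁).trans (Eq.trans ?_ (hy j (h ≫ gj) hh₂).symm)
      simpa using hx (𝟙 _) (𝟙 _) hh₁ hh₂ (by simp only [Category.id_comp, Category.assoc, e])
  refine ⟨t, fun Y g hg => ?_, fun t' ht' => ?_⟩
  · refine (h₀ _ (J₀.pullback_stable g hW)).isSeparatedFor.ext fun Z h hh => ?_
    obtain ⟨Z', u', v', ⟨k⟩, hu⟩ := hh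
    have hT' : T (u' ≫ f k) := by rw [hu]; exact T.downward_closed hg h
    rw [← Functor.map_comp_apply, ← op_comp, ← hu, op_comp, Functor.map_comp_apply, ht k]
    refine (hy k u' hT').trans ?_
    simpa using hx (𝟙 Z) h hT' hg (by simp [hu])
  · refine (Presieve.isSheafFor_iff_generate _ |>.2 (h₀ _ hW)).isSeparatedFor.ext fun Z g hg => ?_
    obtain ⟨k⟩ := hg
    rw [ht k]
    refine hyu k _ fun Z' h hh => ?_
    rw [← Functor.map_comp_apply, ← op_comp]
    exact ht' _ hh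

end Formal

variable {K : Precoverage Scheme.{u}} [BigSite.OSh K] {S : Scheme.{u}} (M : BigSite.Mod K S)

theorem specStr_self (R : CommRingCat.{u}) : specStr (Adeq.algOf R R) = 𝟙 (Spec R) := by
  show Spec.map (CommRingCat.ofHom (algebraMap R R)) = _
  rw [Algebra.algebraMap_self, CommRingCat.ofHom_id, Spec.map_id]
  rfl

/-- An affine object of the big site as the object of the base ring. -/
def mkSelfIso {R : CommRingCat.{u}} (a : Spec R ⟶ S) : sOb a (Adeq.algOf R R) ≅ Over.mk a :=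
  Over.isoMk (Iso.refl (Spec R)) (by
    rw [Iso.refl_hom]
    exact (Category.id_comp _).trans ((congrArg (· ≫ a) (specStr_self R)).trans (Category.id_comp _)).symm)

theorem exists_flat_family {R : CommRingCat.{u}} (a : Spec R ⟶ S) (T : Sieve (sOb a (Adeq.algOf R R)))
    (hT : T ∈ QuotSh.J Scheme.fpqcPrecoverage S (sOb a (Adeq.algOf R R))) :
    ∃ (J : Type) (_ : Fintype J) (_ : DecidableEq J) (A' : J → Type u) (_ : ∀ j, CommRing (A' j))
      (_ : ∀ j, Algebra R (A' j)), Module.FaithfullyFlat R (∀ j, A' j) ∧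
      Sieve.ofArrows (fun j => sOb a (Adeq.algOf R (A' j)))
          (fun j => sMap a (CommAlgCat.ofHom (Algebra.ofId R (A' j)) : Adeq.algOf R R ⟶ Adeq.algOf R (A' j))) ∈
        QuotSh.J Scheme.fpqcPrecoverage S (sOb a (Adeq.algOf R R)) ∧
      ∀ j, T (sMap a (CommAlgCat.ofHom (Algebra.ofId R (A' j)) : Adeq.algOf R R ⟶ Adeq.algOf R (A' j))) := by
  obtain ⟨R₀, hR₀, hle⟩ := Precoverage.mem_toGrothendieck_iff_of_isStableUnderComposition.1
    ((GrothendieckTopology.mem_over_iff _ _).1 hT)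
  obtain ⟨κ, X, f, rfl⟩ := R₀.exists_eq_ofArrows
  haveI : QuasiCompactCover (⟨κ, X, f⟩ : PreZeroHypercover (Spec R)) :=
    Scheme.presieve₀_mem_qcPrecoverage_iff.1 hR₀.1
  obtain ⟨n, i, W, hW, hcov⟩ := QuasiCompactCover.exists_isAffineOpen_of_isCompact
    (⟨κ, X, f⟩ : PreZeroHypercover (Spec R)) (U := ⊤) isCompact_univ
  let A' : Fin n → Type u := fun j => Γ(X (i j), W j)
  let φ : ∀ j, R ⟶ Γ(X (i j), W j) := fun j => Spec.preimage ((hW j).fromSpec ≫ f (i j))
  have hφ : ∀ j, Spec.map (φ j) = (hW j).fromSpec ≫ f (i j) := fun j => Spec.map_preimage _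
  letI : ∀ j, Algebra R (A' j) := fun j => (φ j).hom.toAlgebra
  have hflat : ∀ j, Flat (Spec.map (φ j)) := fun j => by
    haveI : Flat (f (i j)) := ((Scheme.ofArrows_mem_precoverage_iff _).1 hR₀.2).2 (i j)
    rw [hφ]
    exact MorphismProperty.comp_mem @Flat _ _ (inferInstanceAs (Flat (hW j).fromSpec)) ‹_›
  have hsurj : ∀ x : ↥(Spec R), ∃ j, x ∈ Set.range (Spec.map (φ j)) := fun x => by
    obtain ⟨j, z, hz, rfl⟩ := Set.mem_iUnion.1 (hcov.ge (Set.mem_univ x))
    obtain ⟨q, hq⟩ := (hW j).range_fromSpec.ge hz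
    exact ⟨j, q, (congrArg (fun m => m q) (hφ j)).trans ((Scheme.Hom.comp_apply _ _ _).trans (congrArg (f (i j)) hq))⟩
  refine ⟨Fin n, inferInstance, inferInstance, A', inferInstance, inferInstance, ?_, ?_, fun j => ?_⟩
  · haveI : ∀ j, Module.Flat R (A' j) := fun j =>
      (HasRingHomProperty.Spec_iff (P := @Flat) (φ := φ j)).1 (hflat j)
    refine faithfullyFlat_pi (A := R) A' fun p => ?_
    obtain ⟨j, q, hq⟩ := hsurj p
    exact ⟨j, q, hq⟩
  · rw [GrothendieckTopology.mem_over_iff, Sieve.overEquiv_ofArrows]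
    refine Precoverage.generate_mem_toGrothendieck ⟨?_, ?_⟩
    · refine (Scheme.presieve₀_mem_qcPrecoverage_iff
        (E := (⟨Fin n, fun j => Spec Γ(X (i j), W j), fun j => Spec.map (φ j)⟩ : PreZeroHypercover (Spec R)))).2 ?_
      exact ⟨fun {U} hU => .of_finite_of_isSpectralMap (fun j => (Spec.map (φ j)).isSpectralMap)
        (fun x _ => hsurj x) U.2 hU.isCompact⟩
    · exact (Scheme.ofArrows_mem_precoverage_iff _).2 ⟨hsurj, hflat⟩
  · have h := (Sieve.overEquiv _ T).downward_closed (hle _ _ (Presieve.ofArrows.mk (i j))) (hW j).fromSpec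
    exact of_overEquiv T (sMap a (CommAlgCat.ofHom (Algebra.ofId R (A' j)) : Adeq.algOf R R ⟶ Adeq.algOf R (A' j)))
      (Eq.mp (congrArg (fun q => (Sieve.overEquiv _ T).arrows q) (hφ j).symm) h)

/-- The presheaf of sets underlying a module. -/
abbrev setPre : (Over S)ᵒᵖ ⥤ Type (u + 1) := M.val.presheaf ⋙ forget AddCommGrpCat.{u + 1}

/-- The Zariski topology on the big site. -/
abbrev zarJ (S : Scheme.{u}) : GrothendieckTopology (Over S) := QuotSh.J Scheme.zariskiPrecoverage S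

theorem isSeparatedFor_iso {V V' : Over S} (e : V' ≅ V) {F : (Over S)ᵒᵖ ⥤ Type (u + 1)} {J : GrothendieckTopology (Over S)}
    (h : ∀ T : Sieve V', T ∈ J V' → Presieve.IsSeparatedFor F T.arrows) (T : Sieve V) (hT : T ∈ J V) :
    Presieve.IsSeparatedFor F T.arrows := by
  intro x t₁ t₂ h₁ h₂
  have h' : F.map e.hom.op t₁ = F.map e.hom.op t₂ :=
    (h _ (J.pullback_stable e.hom hT)).ext fun Z g hg => by
      rw [← Functor.map_comp_apply, ← Functor.map_comp_apply, ← op_comp]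
      exact (h₁ _ hg).trans (h₂ _ hg).symm
  exact ((isIso_iff_bijective (F.map e.hom.op)).1 inferInstance).1 h'

theorem separatedFor_affine (h : ∀ (R : CommRingCat.{u}) (a : Spec R ⟶ S), Adeq.adequate R ((Adeq.toMVF K a).obj M))
    {R : CommRingCat.{u}} (a : Spec R ⟶ S) (T : Sieve (Over.mk a))
    (hT : T ∈ QuotSh.J Scheme.fpqcPrecoverage S (Over.mk a)) : Presieve.IsSeparatedFor (setPre M) T.arrows := by
  refine isSeparatedFor_iso (mkSelfIso a) (fun T' hT' => ?_) T hT
  intro x t₁ t₂ h₁ h₂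
  obtain ⟨J, _, _, A', _, _, _, -, hmem⟩ := exists_flat_family a T' hT'
  refine sub_eq_zero.1 ((exact_of_family A' (h R a)).1
    ((t₁ : M.val.presheaf.obj (op (sOb a (Adeq.algOf R R)))) - t₂) fun j => ?_)
  exact fmap_sub_eq_zero a M.val _ _ _ ((h₁ _ (hmem j)).trans (h₂ _ (hmem j)).symm)

theorem affine_cover_mem (V : Over S) :
    Sieve.ofArrows (fun k => Over.mk (V.left.affineCover.f k ≫ V.hom))
      (fun k => (Over.homMk (V.left.affineCover.f k) rfl : Over.mk (V.left.affineCover.f k ≫ V.hom) ⟶ V)) ∈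
        zarJ S V := by
  rw [GrothendieckTopology.mem_over_iff, Sieve.overEquiv_ofArrows]
  exact Precoverage.generate_mem_toGrothendieck V.left.affineCover.mem₀

theorem separatedFor_all (hz : Presieve.IsSheaf (zarJ S) (setPre M))
    (h : ∀ (R : CommRingCat.{u}) (a : Spec R ⟶ S), Adeq.adequate R ((Adeq.toMVF K a).obj M))
    (V : Over S) (T : Sieve V) (hT : T ∈ QuotSh.J Scheme.fpqcPrecoverage S V) :
    Presieve.IsSeparatedFor (setPre M) T.arrows :=
  isSeparatedFor_of_local (zarJ S) (QuotSh.J Scheme.fpqcPrecoverage S) _ hz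
    (fun V T hT => ⟨_, _, _, affine_cover_mem V, fun k =>
      separatedFor_affine M h (V.left.affineCover.f k ≫ V.hom) _
        ((QuotSh.J Scheme.fpqcPrecoverage S).pullback_stable _ hT)⟩) V T hT

theorem sheafFor_self (hz : Presieve.IsSheaf (zarJ S) (setPre M))
    (h : ∀ (R : CommRingCat.{u}) (a : Spec R ⟶ S), Adeq.adequate R ((Adeq.toMVF K a).obj M))
    {R : CommRingCat.{u}} (a : Spec R ⟶ S) (T : Sieve (sOb a (Adeq.algOf R R)))
    (hT : T ∈ QuotSh.J Scheme.fpqcPrecoverage S (sOb a (Adeq.algOf R R))) :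
    Presieve.IsSheafFor (setPre M) T.arrows := by
  intro x hx
  obtain ⟨J, _, _, A', _, _, _, hcov, hmem⟩ := exists_flat_family a T hT
  obtain ⟨t, ht⟩ := (exact_of_family A' (h R a)).2 (fun j => x _ (hmem j)) fun j k => by
    refine hx (sMap a (CommAlgCat.ofHom (Algebra.TensorProduct.includeLeft : A' j →ₐ[R] A' j ⊗[R] A' k) :
        Adeq.algOf R (A' j) ⟶ Adeq.algOf R (A' j ⊗[R] A' k)))
      (sMap a (CommAlgCat.ofHom (Algebra.TensorProduct.includeRight : A' k →ₐ[R] A' j ⊗[R] A' k) :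
        Adeq.algOf R (A' k) ⟶ Adeq.algOf R (A' j ⊗[R] A' k))) (hmem j) (hmem k) ?_
    exact ((Adeq.specOver a).map_comp _ _).symm.trans ((congrArg (fun q => (Adeq.specOver a).map q)
      (Quiver.Hom.unop_inj (CommAlgCat.hom_ext (Subsingleton.elim _ _)))).trans ((Adeq.specOver a).map_comp _ _))
  refine ⟨t, fun Y g hg => ?_, fun t' ht' => ?_⟩
  · refine (separatedFor_all M hz h Y _ ((QuotSh.J Scheme.fpqcPrecoverage S).pullback_stable g hcov)).ext
      fun Z h' hh => ?_
    obtain ⟨W, u', v', ⟨j⟩, hu⟩ := hh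
    have hT' : T (u' ≫ sMap a (CommAlgCat.ofHom (Algebra.ofId R (A' j)))) := T.downward_closed (hmem j) u'
    refine ((Functor.map_comp_apply (setPre M) g.op h'.op t).symm.trans ?_)
    refine (congrArg (fun q => (setPre M).map q t) (congrArg Quiver.Hom.op hu.symm : (h' ≫ g).op = _)).trans ?_
    refine (Functor.map_comp_apply (setPre M) (sMap a (CommAlgCat.ofHom (Algebra.ofId R (A' j)))).op u'.op t).trans ?_
    exact (congrArg ((setPre M).map u'.op) (ht j)).trans (hx u' h' (hmem j) hg hu)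
  · have key : ∀ z w : M.val.presheaf.obj (op (sOb a (Adeq.algOf R R))),
        (∀ j, M.val.presheaf.map (sMap a (CommAlgCat.ofHom (Algebra.ofId R (A' j)) :
            Adeq.algOf R R ⟶ Adeq.algOf R (A' j))).op z =
          M.val.presheaf.map (sMap a (CommAlgCat.ofHom (Algebra.ofId R (A' j)) :
            Adeq.algOf R R ⟶ Adeq.algOf R (A' j))).op w) → z = w := fun z w hzw =>
      sub_eq_zero.1 ((exact_of_family A' (h R a)).1 (z - w) fun j =>
        fmap_sub_eq_zero a M.val _ _ _ (hzw j))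
    exact key t' t fun j => (ht' _ (hmem j)).trans (ht j).symm

theorem sheafFor_affine (hz : Presieve.IsSheaf (zarJ S) (setPre M))
    (h : ∀ (R : CommRingCat.{u}) (a : Spec R ⟶ S), Adeq.adequate R ((Adeq.toMVF K a).obj M))
    {R : CommRingCat.{u}} (a : Spec R ⟶ S) (T : Sieve (Over.mk a))
    (hT : T ∈ QuotSh.J Scheme.fpqcPrecoverage S (Over.mk a)) : Presieve.IsSheafFor (setPre M) T.arrows := by
  have hT' := (QuotSh.J Scheme.fpqcPrecoverage S).pullback_stable (mkSelfIso a).hom hT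
  intro x hx
  obtain ⟨t, ht, -⟩ := sheafFor_self M hz h a _ hT' (fun _ g hg => x (g ≫ (mkSelfIso a).hom) hg)
    (fun _ _ _ g₁ g₂ f₁ f₂ h₁ h₂ e => hx g₁ g₂ h₁ h₂ (by rw [← Category.assoc, e, Category.assoc]))
  refine ⟨(setPre M).map (mkSelfIso a).inv.op t, fun Y g hg => ?_, fun t' ht' => ?_⟩
  · have hg' : T ((g ≫ (mkSelfIso a).inv) ≫ (mkSelfIso a).hom) := by
      rw [Category.assoc, Iso.inv_hom_id, Category.comp_id]; exact hg
    rw [← Functor.map_comp_apply, ← op_comp]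
    refine (ht (g ≫ (mkSelfIso a).inv) hg').trans ?_
    congr 1
  · refine (separatedFor_affine M h a T hT).ext fun Y g hg => ?_
    have hg' : T ((g ≫ (mkSelfIso a).inv) ≫ (mkSelfIso a).hom) := by
      rw [Category.assoc, Iso.inv_hom_id, Category.comp_id]; exact hg
    rw [ht' g hg, ← Functor.map_comp_apply, ← op_comp]
    refine Eq.trans ?_ (ht (g ≫ (mkSelfIso a).inv) hg').symm
    congr 1

theorem isSheaf_fpqc (hz : Presieve.IsSheaf (zarJ S) (setPre M))
    (h : ∀ (R : CommRingCat.{u}) (a : Spec R ⟶ S), Adeq.adequate R ((Adeq.toMVF K a).obj M)) :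
    Presheaf.IsSheaf (QuotSh.J Scheme.fpqcPrecoverage S) ((BigSite.toAbMod K S).obj M).obj := by
  rw [Presheaf.isSheaf_iff_isSheaf_forget _ _ (forget AddCommGrpCat.{u + 1}), isSheaf_iff_isSheaf_of_type]
  exact isSheaf_of_local (zarJ S) (QuotSh.J Scheme.fpqcPrecoverage S) _ hz (separatedFor_all M hz h)
    fun V T hT => ⟨_, _, _, affine_cover_mem V, fun k =>
      sheafFor_affine M hz h (V.left.affineCover.f k ≫ V.hom) _
        ((QuotSh.J Scheme.fpqcPrecoverage S).pullback_stable _ hT)⟩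

theorem isSheaf_zarJ {K : Precoverage Scheme.{u}} [BigSite.OSh K] (hK : Scheme.zariskiPrecoverage ≤ K)
    (M : BigSite.Mod K S) : Presieve.IsSheaf (zarJ S) (setPre M) :=
  Presieve.isSheaf_of_le _ (BigSite.J_mono hK S) ((isSheaf_iff_isSheaf_of_type _ _).1
    ((Presheaf.isSheaf_iff_isSheaf_forget _ M.val.presheaf (forget AddCommGrpCat.{u + 1})).1 M.isSheaf))

end Groth.Agent.AdeqA
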