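import Groth.Agent.Lib.AdeqA.Site

/-!
# Pullback and locality of adequate modules
-/

set_option autoImplicit false
set_option maxHeartbeats 400000

universe u

open CategoryTheory CategoryTheory.Limits AlgebraicGeometry Opposite

noncomputable section

namespace Groth.Agent.AdeqA

variable (K : Precoverage Scheme.{u}) [BigSite.OSh K] {S T : Scheme.{u}} (f : T ⟶ S) {R : CommRingCat.{u}}
  (a : Spec R ⟶ T) (M : BigSite.Mod K S)

/-- The comparison of objects. -/
def pullOb (B : Adeq.Alg R) : sOb (a ≫ f) B ≅ (Over.map f).obj (sOb a B) :=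
  Over.isoMk (Iso.refl _) (by
    rw [Iso.refl_hom]
    exact (Category.id_comp _).trans (Category.assoc _ _ _))

theorem pullOb_natural {B B' : Adeq.Alg R} (φ : B ⟶ B') :
    sMap (a ≫ f) φ ≫ (pullOb f a B).hom = (pullOb f a B').hom ≫ (Over.map f).map (sMap a φ) := by
  ext : 1
  exact (Category.comp_id _).trans (Category.id_comp _).symm

/-- The functor of a pulled back module. -/
def pullSite : (Adeq.toMVF K a).obj ((BigSite.pullMod K f).obj M) ⟶ (Adeq.toMVF K (a ≫ f)).obj M :=
  mkHom
    (fun B =>
      { toFun := fun x => M.val.presheaf.map (pullOb f a B).hom.op x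
        map_add' := map_add (M.val.presheaf.map (pullOb f a B).hom.op).hom
        map_smul' := fun r x => by
          refine (M.val.map_smul (pullOb f a B).hom.op _ x).trans ?_
          refine congrArg (· • _) ?_
          refine ULift.ext _ _ ?_
          show ((Scheme.ΓSpecIso (CommRingCat.of (B : Type u))).inv ≫
            Scheme.Hom.appTop (𝟙 (Spec (CommRingCat.of (B : Type u))))).hom r = _
          rw [Scheme.Hom.id_appTop, Category.comp_id]
          rfl })
    (fun B B' φ x => by
      show M.val.presheaf.map (pullOb f a B').hom.op (M.val.presheaf.map ((Over.map f).map (sMap a φ)).op x) =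
        M.val.presheaf.map (sMap (a ≫ f) φ).op (M.val.presheaf.map (pullOb f a B).hom.op x)
      rw [← ConcreteCategory.comp_apply, ← ConcreteCategory.comp_apply, ← M.val.presheaf.map_comp,
        ← M.val.presheaf.map_comp, ← op_comp, ← op_comp, pullOb_natural])

theorem nonempty_pull_iso :
    Nonempty ((Adeq.toMVF K a).obj ((BigSite.pullMod K f).obj M) ≅ (Adeq.toMVF K (a ≫ f)).obj M) := by
  have hb : ∀ B, Function.Bijective (app (pullSite K f a M) B) := fun B =>
    ConcreteCategory.bijective_of_isIso (M.val.presheaf.map (pullOb f a B).hom.op)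
  haveI := mono_of_injective _ fun B => (hb B).1
  haveI := epi_of_surjective _ fun B => (hb B).2
  haveI := isIso_of_mono_of_epi (pullSite K f a M)
  exact ⟨asIso (pullSite K f a M)⟩

theorem adequateMod_fppf_of_forall {S : Scheme.{u}} {M : BigSite.Mod Scheme.fppfPrecoverage S}
    (h : ∀ (R : CommRingCat.{u}) (a : Spec R ⟶ S), Adeq.adequate R ((Adeq.toMVF Scheme.fppfPrecoverage a).obj M)) :
    Adeq.adequateMod Scheme.fppfPrecoverage S M :=
  ⟨↥S, _, S.affineCover.f,
    Scheme.zariskiPrecoverage_le_fppfPrecoverage _ S.affineCover.mem₀, fun _ => h _ _⟩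

theorem adequateMod_pullMod {M : BigSite.Mod Scheme.fppfPrecoverage S}
    (hM : Adeq.adequateMod Scheme.fppfPrecoverage S M) :
    Adeq.adequateMod Scheme.fppfPrecoverage T ((BigSite.pullMod Scheme.fppfPrecoverage f).obj M) :=
  adequateMod_fppf_of_forall fun R a => by
    obtain ⟨e⟩ := nonempty_pull_iso Scheme.fppfPrecoverage f a M
    exact (Adeq.adequate R).prop_of_iso e.symm (adequate_toMVF_fppf hM R (a ≫ f))

theorem adequateMod_of_local {M : BigSite.Mod Scheme.fppfPrecoverage S} {ι : Type u} {T : ι → Scheme.{u}}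
    {f : ∀ i, T i ⟶ S} (hcov : Presieve.ofArrows T f ∈ Scheme.fppfPrecoverage.coverings S)
    (h : ∀ i, Adeq.adequateMod Scheme.fppfPrecoverage (T i) ((BigSite.pullMod Scheme.fppfPrecoverage (f i)).obj M)) :
    Adeq.adequateMod Scheme.fppfPrecoverage S M := by
  choose κ R a hc had using h
  refine ⟨(i : ι) × κ i, fun p => R p.1 p.2, fun p => a p.1 p.2 ≫ f p.1, ?_, fun p => ?_⟩
  · exact Precoverage.comp_mem_coverings f hcov a hc
  · obtain ⟨e⟩ := nonempty_pull_iso Scheme.fppfPrecoverage (f p.1) (a p.1 p.2) M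
    exact (Adeq.adequate _).prop_of_iso e (had p.1 p.2)

end Groth.Agent.AdeqA
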