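import Groth.Agent.Lib.AdeqA.SiteOps
import Groth.Agent.Lib.AdeqA.FamDescent
import Mathlib.Algebra.Category.ModuleCat.Presheaf.Sheafification
import Mathlib.AlgebraicGeometry.Morphisms.Flat

/-!
# Sheafification of presheaves of modules with adequate values, limits and colimits of adequate modules
-/

set_option autoImplicit false
set_option maxHeartbeats 400000

universe u w w'

open CategoryTheory CategoryTheory.Limits AlgebraicGeometry Opposite TensorProduct

noncomputable section

namespace Groth.Agent.AdeqA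

/-! ### `toMVFPre` and limits -/

section Preserve

variable (K : Precoverage Scheme.{u}) [BigSite.OSh K] {S : Scheme.{u}} {R : CommRingCat.{u}} (a : Spec R ⟶ S)

/-- `toMVFPre` on underlying presheaves. -/
def toMVFPreCompIso : Adeq.toMVFPre K a ⋙ PresheafOfModules.toPresheaf.{u + 1} (Adeq.ringOf R) ≅
    PresheafOfModules.toPresheaf (BigSite.ORing K S).obj ⋙
      (Functor.whiskeringLeft _ _ Ab.{u + 1}).obj (Adeq.specOver a).op :=
  Iso.refl _

instance preservesColimitsOfShape_toMVFPre (J : Type (u + 1)) [SmallCategory J] :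
    PreservesColimitsOfShape J (Adeq.toMVFPre K a) :=
  haveI : PreservesColimitsOfShape J (Adeq.toMVFPre K a ⋙ PresheafOfModules.toPresheaf.{u + 1} (Adeq.ringOf R)) :=
    preservesColimitsOfShape_of_natIso (toMVFPreCompIso K a).symm
  haveI : ReflectsColimitsOfShape J (PresheafOfModules.toPresheaf.{u + 1} (Adeq.ringOf R)) :=
    reflectsColimitsOfShape_of_reflectsIsomorphisms
  preservesColimitsOfShape_of_reflects_of_preserves _ (PresheafOfModules.toPresheaf.{u + 1} (Adeq.ringOf R))

instance preservesFiniteColimits_toMVFPre : PreservesFiniteColimits (Adeq.toMVFPre K a) where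
  preservesFiniteColimits J _ _ :=
    haveI : PreservesColimitsOfShape J (Adeq.toMVFPre K a ⋙ PresheafOfModules.toPresheaf.{u + 1} (Adeq.ringOf R)) :=
      preservesColimitsOfShape_of_natIso (toMVFPreCompIso K a).symm
    haveI : ReflectsColimitsOfShape J (PresheafOfModules.toPresheaf.{u + 1} (Adeq.ringOf R)) :=
      reflectsColimitsOfShape_of_reflectsIsomorphisms
    preservesColimitsOfShape_of_reflects_of_preserves _ (PresheafOfModules.toPresheaf.{u + 1} (Adeq.ringOf R))

instance preservesFiniteLimits_toMVFPre : PreservesFiniteLimits (Adeq.toMVFPre K a) where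
  preservesFiniteLimits J _ _ :=
    haveI : PreservesLimitsOfShape J (Adeq.toMVFPre K a ⋙ PresheafOfModules.toPresheaf.{u + 1} (Adeq.ringOf R)) :=
      preservesLimitsOfShape_of_natIso (toMVFPreCompIso K a).symm
    haveI : ReflectsLimitsOfShape J (PresheafOfModules.toPresheaf.{u + 1} (Adeq.ringOf R)) :=
      reflectsLimitsOfShape_of_reflectsIsomorphisms
    preservesLimitsOfShape_of_reflects_of_preserves _ (PresheafOfModules.toPresheaf.{u + 1} (Adeq.ringOf R))

instance preservesFiniteLimits_toMVF : PreservesFiniteLimits (Adeq.toMVF K a) :=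
  inferInstanceAs (PreservesFiniteLimits (SheafOfModules.forget _ ⋙ Adeq.toMVFPre K a))

end Preserve

/-! ### Locally bijective maps to sheaves are bijective on affine objects -/

variable (P : MorphismProperty Scheme.{u}) [P.IsStableUnderBaseChange] [P.IsMultiplicative]

theorem fmap_sub_eq_zero {K : Precoverage Scheme.{u}} [BigSite.OSh K] {S : Scheme.{u}} {R : CommRingCat.{u}}
    (a : Spec R ⟶ S) (M : PresheafOfModules.{u + 1} (BigSite.ORing K S).obj) {B B' : Adeq.Alg R} (g : B ⟶ B')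
    (x y : M.presheaf.obj (op (sOb a B)))
    (h : M.presheaf.map (sMap a g).op x = M.presheaf.map (sMap a g).op y) :
    fmap ((Adeq.toMVFPre K a).obj M) g (x - y : M.presheaf.obj (op (sOb a B))) = 0 :=
  (map_sub (fmap ((Adeq.toMVFPre K a).obj M) g) x y).trans (sub_eq_zero.2 h)

theorem of_overEquiv {S : Scheme.{u}} {Y Z : Over S} (T : Sieve Y) (v : Z ⟶ Y)
    (h : Sieve.overEquiv Y T v.left) : T v := by
  have h' := (Sieve.overEquiv_iff T v.left).1 h
  have := T.downward_closed h' (Over.homMk (𝟙 Z.left) ((Category.id_comp _).trans (Over.w v)) : Z ⟶ Over.mk (v.left ≫ Y.hom))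
  convert this
  ext : 1
  exact (Category.id_comp _).symm

theorem mem_fam {R : CommRingCat.{u}} {S : Scheme.{u}} (hP : ∀ ⦃X Y : Scheme.{u}⦄ (f : X ⟶ Y), P f → IsOpenMap f)
    (hO : ∀ ⦃X Y : Scheme.{u}⦄ (f : X ⟶ Y), IsOpenImmersion f → P f)
    (hF : ∀ ⦃X Y : Scheme.{u}⦄ (f : X ⟶ Y), P f → Flat f)
    (a : Spec R ⟶ S) (T : Sieve (sOb a (Adeq.algOf R R)))
    (hT : T ∈ QuotSh.J (Scheme.precoverage P) S (sOb a (Adeq.algOf R R))) :
    ∃ (J : Type) (_ : Fintype J) (_ : DecidableEq J) (A' : J → Type u) (_ : ∀ j, CommRing (A' j))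
      (_ : ∀ j, Algebra R (A' j)), Module.FaithfullyFlat R (∀ j, A' j) ∧
      Sieve.ofArrows (fun j => sOb a (Adeq.algOf R (A' j)))
          (fun j => sMap a (CommAlgCat.ofHom (Algebra.ofId R (A' j)) : Adeq.algOf R R ⟶ Adeq.algOf R (A' j))) ∈
        QuotSh.J (Scheme.precoverage P) S (sOb a (Adeq.algOf R R)) ∧
      ∀ j, T (sMap a (CommAlgCat.ofHom (Algebra.ofId R (A' j)) : Adeq.algOf R R ⟶ Adeq.algOf R (A' j))) := by
  obtain ⟨R₀, hR₀, hle⟩ := Precoverage.mem_toGrothendieck_iff_of_isStableUnderComposition.1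
    ((GrothendieckTopology.mem_over_iff _ _).1 hT)
  obtain ⟨κ, X, f, rfl⟩ := R₀.exists_eq_ofArrows
  obtain ⟨J, _, B, φ, hc, ⟨hsurj, hp⟩, hg⟩ := exists_finite_affine_refinement P hP hO R X f hR₀
  classical
  haveI := Fintype.ofFinite J
  letI : ∀ j, Algebra R (B j) := fun j => (φ j).hom.toAlgebra
  refine ⟨J, inferInstance, inferInstance, fun j => (B j : Type u), inferInstance, inferInstance, ?_, ?_, fun j => ?_⟩
  · haveI : ∀ j, Module.Flat R (B j) := fun j => by
      haveI := hF _ (hp j)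
      exact (HasRingHomProperty.Spec_iff (P := @Flat) (φ := φ j)).1 inferInstance
    refine faithfullyFlat_pi (A := R) (fun j => (B j : Type u)) fun p => ?_
    obtain ⟨j, q, hq⟩ := hsurj p
    exact ⟨j, q, hq⟩
  · rw [GrothendieckTopology.mem_over_iff, Sieve.overEquiv_ofArrows]
    exact hc
  · obtain ⟨i, g, hgi⟩ := hg j
    have h := (Sieve.overEquiv _ T).downward_closed (hle _ _ (Presieve.ofArrows.mk i)) g
    exact of_overEquiv T (sMap a (CommAlgCat.ofHom (Algebra.ofId R (B j)) : Adeq.algOf R R ⟶ Adeq.algOf R (B j)))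
      (Eq.mp (congrArg (fun q => (Sieve.overEquiv _ T).arrows q) hgi) h)

variable [BigSite.OSh (Scheme.precoverage P)] {S : Scheme.{u}}
  (hP : ∀ ⦃X Y : Scheme.{u}⦄ (f : X ⟶ Y), P f → IsOpenMap f)
  (hO : ∀ ⦃X Y : Scheme.{u}⦄ (f : X ⟶ Y), IsOpenImmersion f → P f)
  (hF : ∀ ⦃X Y : Scheme.{u}⦄ (f : X ⟶ Y), P f → Flat f)
  (M : PresheafOfModules.{u + 1} (BigSite.ORing (Scheme.precoverage P) S).obj)
  (h : ∀ (R : CommRingCat.{u}) (a : Spec R ⟶ S),
      Adeq.adequate R ((Adeq.toMVFPre (Scheme.precoverage P) a).obj M))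
  (Q : (Over S)ᵒᵖ ⥤ Ab.{u + 1}) (f : M.presheaf ⟶ Q)

include hP hO hF h in
theorem injective_affine [Presheaf.IsLocallyInjective (QuotSh.J (Scheme.precoverage P) S) f]
    (R : CommRingCat.{u}) (a : Spec R ⟶ S) :
    Function.Injective (f.app (op (sOb a (Adeq.algOf R R)))) := by
  intro x y hxy
  obtain ⟨J, _, _, A', _, _, hff, -, hT⟩ := mem_fam P hP hO hF a _
    (Presheaf.equalizerSieve_mem _ f x y hxy)
  refine sub_eq_zero.1 ((exact_of_family A' (h R a)).1 (x - y) fun j => ?_)
  exact fmap_sub_eq_zero a M (CommAlgCat.ofHom (Algebra.ofId R (A' j))) x y (hT j)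

/-- An algebra as an algebra over itself, viewed over the base. -/
def selfIso {R : CommRingCat.{u}} (B : Adeq.Alg R) :
    (Adeq.Alg.restr R (B : Type u)).obj (Adeq.algOf (B : Type u) (B : Type u)) ≅ B :=
  let i : Algebra R (B : Type u) := ((algebraMap (B : Type u) (B : Type u)).comp (algebraMap R (B : Type u))).toAlgebra
  { hom := ConcreteCategory.ofHom (C := CommAlgCat R)
      (@AlgHom.mk R (B : Type u) (B : Type u) _ _ _ i B.algebra (RingHom.id (B : Type u)) (fun _ => rfl))
    inv := ConcreteCategory.ofHom (C := CommAlgCat R)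
      (@AlgHom.mk R (B : Type u) (B : Type u) _ _ _ B.algebra i (RingHom.id (B : Type u)) (fun _ => rfl)) }

theorem exists_sOb_iso {R : CommRingCat.{u}} (a : Spec R ⟶ S) (B : Adeq.Alg R) : ∃ (R' : CommRingCat.{u})
    (a' : Spec R' ⟶ S), Nonempty (sOb a B ≅ sOb a' (Adeq.algOf R' R')) :=
  letI : Algebra R (CommRingCat.of (B : Type u)) := B.algebra
  ⟨CommRingCat.of (B : Type u), Spec.map (CommRingCat.ofHom (algebraMap R (CommRingCat.of (B : Type u)))) ≫ a,
    ⟨(Adeq.specOver a).mapIso (selfIso B).op ≪≫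
      (restrOb a _ rfl (Adeq.algOf (CommRingCat.of (B : Type u)) (CommRingCat.of (B : Type u)))).symm⟩⟩

include hP hO hF h in
theorem injective_app [Presheaf.IsLocallyInjective (QuotSh.J (Scheme.precoverage P) S) f]
    (R : CommRingCat.{u}) (a : Spec R ⟶ S) (B : Adeq.Alg R) :
    Function.Injective (f.app (op (sOb a B))) := by
  intro x y hxy
  obtain ⟨R', a', ⟨e⟩⟩ := exists_sOb_iso a B
  refine (ConcreteCategory.bijective_of_isIso (M.presheaf.map e.inv.op)).1
    (injective_affine P hP hO hF M h Q f R' a' ?_)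
  rw [← ConcreteCategory.comp_apply, ← ConcreteCategory.comp_apply, f.naturality,
    ConcreteCategory.comp_apply, ConcreteCategory.comp_apply, hxy]

include hP hO hF h in
theorem surjective_affine (hQ : Presheaf.IsSheaf (QuotSh.J (Scheme.precoverage P) S) Q)
    [Presheaf.IsLocallyInjective (QuotSh.J (Scheme.precoverage P) S) f]
    [Presheaf.IsLocallySurjective (QuotSh.J (Scheme.precoverage P) S) f]
    (R : CommRingCat.{u}) (a : Spec R ⟶ S) :
    Function.Surjective (f.app (op (sOb a (Adeq.algOf R R)))) := by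
  intro s
  have hQ' := (isSheaf_iff_isSheaf_of_type _ _).1
    ((Presheaf.isSheaf_iff_isSheaf_forget _ Q (forget AddCommGrpCat.{u + 1})).1 hQ)
  obtain ⟨J, _, _, A', _, _, hff, hcov, hT⟩ := mem_fam P hP hO hF a _
    (Presheaf.imageSieve_mem _ f s)
  choose y hy using hT
  have key : ∀ (C : Adeq.Alg R) (j : J) (g : Adeq.algOf R (A' j) ⟶ C),
      f.app (op (sOb a C)) (M.presheaf.map (sMap a g).op (y j)) =
        Q.map (sMap a ((CommAlgCat.ofHom (Algebra.ofId R (A' j)) : Adeq.algOf R R ⟶ Adeq.algOf R (A' j)) ≫ g)).op s :=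
    fun C j g => by
      rw [← ConcreteCategory.comp_apply, f.naturality, ConcreteCategory.comp_apply, hy j,
        ← ConcreteCategory.comp_apply, ← Q.map_comp, ← op_comp,
        show sMap a ((CommAlgCat.ofHom (Algebra.ofId R (A' j)) : Adeq.algOf R R ⟶ Adeq.algOf R (A' j)) ≫ g) =
          sMap a g ≫ sMap a (CommAlgCat.ofHom (Algebra.ofId R (A' j))) from
          (Adeq.specOver a).map_comp g.op (CommAlgCat.ofHom (Algebra.ofId R (A' j))).op]
  obtain ⟨x, hx⟩ := (exact_of_family A' (h R a)).2 y fun j k => injective_app P hP hO hF M h Q f R a _ (by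
    refine (key _ j _).trans (Eq.trans ?_ (key _ k _).symm)
    exact congrArg (fun t => Q.map (sMap a t).op s) (CommAlgCat.hom_ext (Subsingleton.elim _ _)))
  refine ⟨x, (hQ'.isSheafFor _ hcov).isSeparatedFor.ext fun Y g hg => ?_⟩
  obtain ⟨j⟩ := hg
  exact ((NatTrans.naturality_apply f
    (sMap a (CommAlgCat.ofHom (Algebra.ofId R (A' j)) : Adeq.algOf R R ⟶ Adeq.algOf R (A' j))).op x).symm).trans
    ((congrArg (fun z => f.app (op (sOb a (Adeq.algOf R (A' j)))) z) (hx j)).trans (hy j))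

/-- Presheaves of modules with adequate values are unchanged on affines by locally bijective maps to sheaves. -/
theorem bijective_app (hP : ∀ ⦃X Y : Scheme.{u}⦄ (f : X ⟶ Y), P f → IsOpenMap f)
    (hO : ∀ ⦃X Y : Scheme.{u}⦄ (f : X ⟶ Y), IsOpenImmersion f → P f)
    (hF : ∀ ⦃X Y : Scheme.{u}⦄ (f : X ⟶ Y), P f → Flat f)
    (h : ∀ (R : CommRingCat.{u}) (a : Spec R ⟶ S),
      Adeq.adequate R ((Adeq.toMVFPre (Scheme.precoverage P) a).obj M))
    (hQ : Presheaf.IsSheaf (QuotSh.J (Scheme.precoverage P) S) Q)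
    [Presheaf.IsLocallyInjective (QuotSh.J (Scheme.precoverage P) S) f]
    [Presheaf.IsLocallySurjective (QuotSh.J (Scheme.precoverage P) S) f]
    (R : CommRingCat.{u}) (a : Spec R ⟶ S) (B : Adeq.Alg R) :
    Function.Bijective (f.app (op (sOb a B))) := by
  refine ⟨injective_app P hP hO hF M h Q f R a B, fun s => ?_⟩
  obtain ⟨R', a', ⟨e⟩⟩ := exists_sOb_iso a B
  obtain ⟨x, hx⟩ := surjective_affine P hP hO hF M h Q f hQ R' a' (Q.map e.inv.op s)
  refine ⟨M.presheaf.map e.hom.op x, ?_⟩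
  rw [← ConcreteCategory.comp_apply, f.naturality, ConcreteCategory.comp_apply, hx, ← ConcreteCategory.comp_apply,
    ← Q.map_comp, ← op_comp, e.hom_inv_id, op_id, Q.map_id]
  rfl

end Groth.Agent.AdeqA
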