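import Groth.Agent.Lib.AdeqA.Cover
import Mathlib.Algebra.Polynomial.Eval.SMul

/-!
# Linearly adequate functors are projective against surjections with adequate kernel
-/

set_option autoImplicit false
set_option maxHeartbeats 400000

universe u

open CategoryTheory Opposite Limits TensorProduct

noncomputable section

namespace Groth.Agent.AdeqA

variable {A : Type u} [CommRing A]

/-! ### Auxiliary maps of polynomial algebras -/

/-- Evaluation at `1`. -/
def ev1 (B : Adeq.Alg A) : Pol B ⟶ B :=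
  CommAlgCat.ofHom (Polynomial.aevalTower (AlgHom.id A (B : Type u)) 1)

/-- `p ↦ p(1) - p₁`. -/
def Lam (B : Adeq.Alg A) : Polynomial (B : Type u) →ₗ[A] (B : Type u) :=
  (ev1 B).hom.toLinearMap - coeffL B 1

/-- `t ↦ s t`. -/
def Ψ1 (B : Adeq.Alg A) : Pol B ⟶ Pol (Pol B) :=
  CommAlgCat.ofHom (Polynomial.aevalTower ((ι0 (Pol B)).hom.comp (ι0 B).hom)
    (Polynomial.X * Polynomial.C Polynomial.X))

/-- `t ↦ s`, with a map applied to the coefficients. -/
def Ψ2 {B : Adeq.Alg A} (f : B ⟶ Pol B) : Pol B ⟶ Pol (Pol B) :=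
  CommAlgCat.ofHom (Polynomial.aevalTower ((ι0 (Pol B)).hom.comp f.hom) Polynomial.X)

theorem ev1_monomial (B : Adeq.Alg A) (n : ℕ) (c : B) : (ev1 B).hom (Polynomial.monomial n c) = c := by
  show Polynomial.aevalTower (AlgHom.id A (B : Type u)) 1 (Polynomial.monomial n c) = c
  rw [← Polynomial.C_mul_X_pow_eq_monomial, map_mul, map_pow, Polynomial.aevalTower_C, Polynomial.aevalTower_X]
  simp

theorem Lam_monomial (B : Adeq.Alg A) (n : ℕ) (c : B) :
    Lam B (Polynomial.monomial n c) = c - if n = 1 then c else 0 := by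
  show (ev1 B).hom (Polynomial.monomial n c) - Polynomial.coeff (Polynomial.monomial n c) 1 = _
  rw [ev1_monomial, Polynomial.coeff_monomial]

theorem Ψ1_monomial (B : Adeq.Alg A) (n : ℕ) (c : B) :
    (Ψ1 B).hom (Polynomial.monomial n c) = Polynomial.monomial n (Polynomial.monomial n c) := by
  show Polynomial.aevalTower ((ι0 (Pol B)).hom.comp (ι0 B).hom) (Polynomial.X * Polynomial.C Polynomial.X)
    (Polynomial.monomial n c) = _
  rw [← Polynomial.C_mul_X_pow_eq_monomial, map_mul, map_pow, Polynomial.aevalTower_C, Polynomial.aevalTower_X,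
    mul_pow, ← Polynomial.C_pow, AlgHom.comp_apply, ι0_apply, ι0_apply]
  rw [← Polynomial.C_mul_X_pow_eq_monomial, map_mul]
  ring

theorem Ψ2_monomial {B : Adeq.Alg A} (f : B ⟶ Pol B) (n : ℕ) (c : B) :
    (Ψ2 f).hom (Polynomial.monomial n c) = Polynomial.monomial n (f.hom c) := by
  show Polynomial.aevalTower ((ι0 (Pol B)).hom.comp f.hom) Polynomial.X (Polynomial.monomial n c) = _
  rw [← Polynomial.C_mul_X_pow_eq_monomial, map_mul, map_pow, Polynomial.aevalTower_C, Polynomial.aevalTower_X,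
    AlgHom.comp_apply, ι0_apply, Polynomial.C_mul_X_pow_eq_monomial]

theorem Lam_Ψ1 (B : Adeq.Alg A) :
    Lam (Pol B) ∘ₗ (Ψ1 B).hom.toLinearMap =
      LinearMap.id - LinearMap.mulLeft A (Polynomial.X : Polynomial (B : Type u)) ∘ₗ
        (ι0 B).hom.toLinearMap ∘ₗ coeffL B 1 := by
  refine LinearMap.ext fun p => ?_
  induction p using Polynomial.induction_on' with
  | add p q hp hq => rw [map_add, map_add, hp, hq]
  | monomial n c =>
    show Lam (Pol B) ((Ψ1 B).hom (Polynomial.monomial n c)) =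
      Polynomial.monomial n c - Polynomial.X * Polynomial.C (Polynomial.coeff (Polynomial.monomial n c) 1)
    rw [Ψ1_monomial, Lam_monomial, Polynomial.coeff_monomial]
    split_ifs with h
    · subst h
      rw [Polynomial.X_mul_C, Polynomial.C_mul_X_eq_monomial]
    · simp

theorem Lam_Ψ2 {B : Adeq.Alg A} (f : B ⟶ Pol B) :
    Lam (Pol B) ∘ₗ (Ψ2 f).hom.toLinearMap = f.hom.toLinearMap ∘ₗ Lam B := by
  refine LinearMap.ext fun p => ?_
  induction p using Polynomial.induction_on' with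
  | add p q hp hq => rw [map_add, map_add, hp, hq]
  | monomial n c =>
    show Lam (Pol B) ((Ψ2 f).hom (Polynomial.monomial n c)) = f.hom (Lam B (Polynomial.monomial n c))
    rw [Ψ2_monomial, Lam_monomial, Lam_monomial, map_sub]
    split_ifs <;> simp

theorem Lam_mul_ι0 (B : Adeq.Alg A) :
    Lam (Pol B) ∘ₗ LinearMap.mulLeft A (Polynomial.X : Polynomial (Polynomial (B : Type u))) ∘ₗ
      (ι0 (Pol B)).hom.toLinearMap = 0 := by
  refine LinearMap.ext fun p => ?_
  rw [LinearMap.comp_apply, LinearMap.comp_apply, LinearMap.mulLeft_apply, AlgHom.toLinearMap_apply,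
    ι0_apply, Polynomial.X_mul_C, Polynomial.C_mul_X_eq_monomial, Lam_monomial, if_pos rfl, sub_self]
  rfl

/-- Correction of an inhomogeneous cocycle. -/
theorem cocycle_eq {B : Adeq.Alg A} {M : Type (u + 1)} [AddCommGroup M] [Module A M] (f : B ⟶ Pol B)
    (ε : Polynomial (B : Type u) ⊗[A] M)
    (h1 : (ev1 B).hom.toLinearMap.rTensor M ε = 0)
    (h : (Ψ1 B).hom.toLinearMap.rTensor M ε = (Ψ2 f).hom.toLinearMap.rTensor M ε +
      (Polynomial.X : Polynomial (Polynomial (B : Type u))) • (ι0 (Pol B)).hom.toLinearMap.rTensor M ε) :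
    ε = (Polynomial.X : Polynomial (B : Type u)) • (ι0 B).hom.toLinearMap.rTensor M ((coeffL B 1).rTensor M ε) -
      f.hom.toLinearMap.rTensor M ((coeffL B 1).rTensor M ε) := by
  have hL : (Lam B).rTensor M ε = -(coeffL B 1).rTensor M ε := by
    rw [Lam, LinearMap.rTensor_sub, LinearMap.sub_apply, h1, zero_sub]
  have h2 := congrArg ((Lam (Pol B)).rTensor M) h
  rw [map_add, smul_eq_rTensor] at h2
  simp only [← LinearMap.rTensor_comp_apply] at h2
  rw [Lam_Ψ1, Lam_Ψ2, Lam_mul_ι0, LinearMap.rTensor_zero, LinearMap.zero_apply,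
    add_zero, LinearMap.rTensor_sub, LinearMap.sub_apply, LinearMap.rTensor_id, LinearMap.id_apply,
    LinearMap.rTensor_comp_apply, LinearMap.rTensor_comp_apply, LinearMap.rTensor_comp_apply, hL, map_neg,
    ← smul_eq_rTensor, sub_eq_iff_eq_add, neg_add_eq_sub] at h2
  exact h2

/-! ### Lifting -/

variable {ι κ : Type} [Fintype ι] [Fintype κ] {L : Adeq.MVF A} {P P' : ModuleCat.{u + 1} A} {φ₀ : P ⟶ P'}
  {k : L ⟶ uO A P}

theorem vec_injective (b : Module.Basis ι A P) {B : Adeq.Alg A} {β γ : ι → B}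
    (h : vec b β = vec b γ) : β = γ := by
  classical
  funext i
  have h1 := congrArg (fun z => (b.baseChange (B : Type u)).repr z i) h
  simpa [vec, map_sum, Finsupp.single_apply] using h1

section Lift

variable {F G : Adeq.MVF A} {M N : ModuleCat.{u + 1} A} {f₀ : M ⟶ N}
  {j : F ⟶ uO A M} (hj : IsKer (uM A f₀) j) (i : F ⟶ G) (hi : ∀ B, Function.Injective (app i B))
  (b : Module.Basis ι A P) (c : Module.Basis κ A P') (x : El G (U (matr φ₀ b c)))

/-- The natural family attached to an element at the universal algebra. -/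
def fam {B : Adeq.Alg A} (β : ι → B) (hβ : ∀ j, ∑ i, matr φ₀ b c i j • β i = 0) : El G B :=
  fmap G (desc (matr φ₀ b c) β hβ) x

theorem fam_congr {B : Adeq.Alg A} {β γ : ι → B} (h : β = γ) (hβ : ∀ j, ∑ i, matr φ₀ b c i j • β i = 0)
    (hγ : ∀ j, ∑ i, matr φ₀ b c i j • γ i = 0) : fam b c x β hβ = fam b c x γ hγ := by
  subst h
  rfl

theorem point_map {B B' : Adeq.Alg A} (f : B ⟶ B') {β : ι → B}
    (hβ : ∀ j, ∑ i, matr φ₀ b c i j • β i = 0) (j : κ) :
    ∑ i, matr φ₀ b c i j • f.hom (β i) = 0 := by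
  simp only [← map_smul, ← map_sum, hβ j, map_zero]

theorem fam_map {B B' : Adeq.Alg A} (f : B ⟶ B') (β : ι → B) (hβ : ∀ j, ∑ i, matr φ₀ b c i j • β i = 0) :
    fmap G f (fam b c x β hβ) = fam b c x (fun i => f.hom (β i)) (point_map b c f hβ) := by
  rw [fam, fam, ← fmap_comp]
  congr 1
  refine congrArg (fmap G) (U_hom_ext _ fun i => ?_)
  rw [desc_Xu]
  exact congrArg f.hom (desc_Xu _ β hβ i)

theorem fam_map_eq {B B' : Adeq.Alg A} (f : B ⟶ B') {β : ι → B}
    {hβ : ∀ j, ∑ i, matr φ₀ b c i j • β i = 0} {γ : ι → B'} (h : (fun i => f.hom (β i)) = γ)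
    (hγ : ∀ j, ∑ i, matr φ₀ b c i j • γ i = 0) :
    fmap G f (fam b c x β hβ) = fam b c x γ hγ :=
  (fam_map b c x f β hβ).trans (fam_congr b c x h _ _)

theorem point_smul {B : Adeq.Alg A} (r : B) {β : ι → B} (hβ : ∀ j, ∑ i, matr φ₀ b c i j • β i = 0)
    (j : κ) : ∑ i, matr φ₀ b c i j • (r * β i) = 0 := by
  simp only [← mul_smul_comm, ← Finset.mul_sum, hβ j, mul_zero]

theorem fam_smul (hx : fmap G (σ (matr φ₀ b c)) x =
      (Polynomial.X : Polynomial (UAlg (matr φ₀ b c))) • fmap G (ι0 (U (matr φ₀ b c))) x)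
    {B : Adeq.Alg A} (r : B) (β : ι → B) (hβ : ∀ j, ∑ i, matr φ₀ b c i j • β i = 0) :
    fam b c x (fun i => r * β i) (point_smul b c r hβ) = r • fam b c x β hβ := by
  let e : Pol (U (matr φ₀ b c)) ⟶ B :=
    CommAlgCat.ofHom (Polynomial.aevalTower (desc (matr φ₀ b c) β hβ).hom r)
  have h1 := congrArg (fmap G e) hx
  rw [fmap_smul, ← fmap_comp, ← fmap_comp] at h1
  have e1 : σ (matr φ₀ b c) ≫ e = desc (matr φ₀ b c) (fun i => r * β i) (point_smul b c r hβ) := by
    refine U_hom_ext _ fun i => ?_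
    rw [desc_Xu]
    show Polynomial.aevalTower (desc (matr φ₀ b c) β hβ).hom r ((σ (matr φ₀ b c)).hom (Xu (matr φ₀ b c) i)) =
      r * β i
    rw [σ_Xu, map_mul, Polynomial.aevalTower_X, Polynomial.aevalTower_C, desc_Xu]
  have e2 : ι0 (U (matr φ₀ b c)) ≫ e = desc (matr φ₀ b c) β hβ := by
    refine U_hom_ext _ fun i => ?_
    exact Polynomial.aevalTower_C _ _ _
  have e3 : e.hom (Polynomial.X : Polynomial (UAlg (matr φ₀ b c))) = r := Polynomial.aevalTower_X _ _
  rw [e1, e2] at h1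
  exact h1.trans (congrArg (fun t : (B : Type u) => t • fmap G (desc (matr φ₀ b c) β hβ) x) e3)

theorem point_add {B : Adeq.Alg A} {β γ : ι → B} (hβ : ∀ j, ∑ i, matr φ₀ b c i j • β i = 0)
    (hγ : ∀ j, ∑ i, matr φ₀ b c i j • γ i = 0) (j : κ) : ∑ i, matr φ₀ b c i j • (β i + γ i) = 0 := by
  simp only [smul_add, Finset.sum_add_distrib, hβ j, hγ j, add_zero]

include hj hi in
theorem fam_add (hx : fmap G (σ (matr φ₀ b c)) x =
      (Polynomial.X : Polynomial (UAlg (matr φ₀ b c))) • fmap G (ι0 (U (matr φ₀ b c))) x)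
    (hd : ∀ (B : Adeq.Alg A) (β γ : ι → B) (hβ : ∀ j, ∑ i, matr φ₀ b c i j • β i = 0)
      (hγ : ∀ j, ∑ i, matr φ₀ b c i j • γ i = 0),
      ∃ y : El F B, app i B y =
        fam b c x (fun i => β i + γ i) (point_add b c hβ hγ) - fam b c x β hβ - fam b c x γ hγ)
    {B : Adeq.Alg A} (β γ : ι → B) (hβ : ∀ j, ∑ i, matr φ₀ b c i j • β i = 0)
    (hγ : ∀ j, ∑ i, matr φ₀ b c i j • γ i = 0) :
    fam b c x (fun i => β i + γ i) (point_add b c hβ hγ) = fam b c x β hβ + fam b c x γ hγ := by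
  classical
  -- the doubled matrix
  let a2 : ι ⊕ ι → κ ⊕ κ → A :=
    Sum.elim (fun i => Sum.elim (matr φ₀ b c i) 0) (fun i => Sum.elim 0 (matr φ₀ b c i))
  have hl : ∀ {B : Adeq.Alg A} (ω : ι ⊕ ι → B), (∀ j, ∑ i, a2 i j • ω i = 0) →
      (∀ j, ∑ i, matr φ₀ b c i j • ω (Sum.inl i) = 0) ∧ ∀ j, ∑ i, matr φ₀ b c i j • ω (Sum.inr i) = 0 := by
    intro B ω hω
    constructor
    · intro j
      simpa [a2, Fintype.sum_sum_type] using hω (Sum.inl j)
    · intro j
      simpa [a2, Fintype.sum_sum_type] using hω (Sum.inr j)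
  obtain ⟨hX, hY⟩ := hl (B := U a2) (Xu a2) (rel_Xu a2)
  obtain ⟨y, hy⟩ := hd (U a2) _ _ hX hY
  let δ := toT (app j (U a2) y)
  -- homogeneity
  have hσ : fmap G (σ a2) (app i (U a2) y) =
      (Polynomial.X : Polynomial (UAlg a2)) • fmap G (ι0 (U a2)) (app i (U a2) y) := by
    rw [hy, map_sub, map_sub, map_sub, map_sub, fam_map, fam_map, fam_map, fam_map, fam_map, fam_map,
      smul_sub, smul_sub]
    erw [← fam_smul b c x hx, ← fam_smul b c x hx, ← fam_smul b c x hx]
    congr 1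
    · congr 1
      · refine fam_congr b c x (funext fun i => ?_) _ _
        rw [map_add, map_add, σ_Xu, σ_Xu, ι0_apply, ι0_apply, mul_add]
      · refine fam_congr b c x (funext fun i => ?_) _ _
        rw [σ_Xu, ι0_apply]
    · refine fam_congr b c x (funext fun i => ?_) _ _
      rw [σ_Xu, ι0_apply]
  rw [← app_fmap, ← app_fmap] at hσ
  erw [← (app i (Pol (U a2))).map_smul] at hσ
  have hσ' := congrArg (app j (Pol (U a2))) (hi _ hσ)
  rw [app_fmap, (app j _).map_smul, app_fmap, ← ofT_toT (app j (U a2) y), fmap_ofT, fmap_ofT,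
    ← ofT_smul (B := Pol (U a2)) (M := M) (Polynomial.X : Polynomial (UAlg a2)), ofT_inj] at hσ'
  obtain ⟨m, hm⟩ := exists_of_homogeneous a2 _ hσ'
  -- vanishing on the axes
  have hzero : ∀ (B : Adeq.Alg A) (h0 : ∀ j, ∑ i, matr φ₀ b c i j • (0 : B) = 0),
      fam b c x (fun _ => (0 : B)) h0 = 0 := by
    intro B h0
    have h1 := fam_smul b c x hx (0 : B) (fun _ => (0 : B)) h0
    rw [zero_smul] at h1
    rw [← h1]
    exact fam_congr b c x (funext fun _ => (mul_zero _).symm) _ _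
  have hp : ∀ (f : U a2 ⟶ U a2), fmap G f (app i (U a2) y) = 0 → fmap (uO A M) f (app j (U a2) y) = 0 := by
    intro f hf
    rw [← app_fmap, hi _ (show app i (U a2) (fmap F f y) = app i (U a2) 0 by rw [app_fmap, hf, map_zero]), map_zero]
  let ω1 : ι ⊕ ι → UAlg a2 := Sum.elim (fun i => Xu a2 (Sum.inl i)) 0
  let ω2 : ι ⊕ ι → UAlg a2 := Sum.elim 0 (fun i => Xu a2 (Sum.inr i))
  have hω1 : ∀ j, ∑ i, a2 i j • ω1 i = 0 := by
    rintro (j | j)
    · simpa [a2, ω1, Fintype.sum_sum_type] using hX j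
    · simp [a2, ω1, Fintype.sum_sum_type]
  have hω2 : ∀ j, ∑ i, a2 i j • ω2 i = 0 := by
    rintro (j | j)
    · simp [a2, ω2, Fintype.sum_sum_type]
    · simpa [a2, ω2, Fintype.sum_sum_type] using hY j
  have hl1 : ∀ i, (desc a2 (B := U a2) ω1 hω1).hom (Xu a2 (Sum.inl i)) = Xu a2 (Sum.inl i) := fun i =>
    desc_Xu a2 (B := U a2) ω1 hω1 (Sum.inl i)
  have hr1 : ∀ i, (desc a2 (B := U a2) ω1 hω1).hom (Xu a2 (Sum.inr i)) = 0 := fun i =>
    desc_Xu a2 (B := U a2) ω1 hω1 (Sum.inr i)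
  have hl2 : ∀ i, (desc a2 (B := U a2) ω2 hω2).hom (Xu a2 (Sum.inl i)) = 0 := fun i =>
    desc_Xu a2 (B := U a2) ω2 hω2 (Sum.inl i)
  have hr2 : ∀ i, (desc a2 (B := U a2) ω2 hω2).hom (Xu a2 (Sum.inr i)) = Xu a2 (Sum.inr i) := fun i =>
    desc_Xu a2 (B := U a2) ω2 hω2 (Sum.inr i)
  have h0 : ∀ j, ∑ i, matr φ₀ b c i j • (0 : UAlg a2) = 0 := fun j => by simp
  have h1 : fmap (uO A M) (desc a2 (B := U a2) ω1 hω1) (app j (U a2) y) = 0 := by
    refine hp _ ?_
    rw [hy, map_sub, map_sub, fam_map_eq b c x _ (hβ := hX) (γ := fun i => Xu a2 (Sum.inl i)) (funext hl1) hX,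
      fam_map_eq b c x _ (hβ := hY) (γ := fun _ => (0 : UAlg a2)) (funext hr1) h0,
      fam_map_eq b c x _ (γ := fun i => Xu a2 (Sum.inl i)) (funext fun i => by
        rw [map_add, hl1, hr1]; exact add_zero _) hX,
      hzero (U a2), sub_self, sub_zero]
  have h2 : fmap (uO A M) (desc a2 (B := U a2) ω2 hω2) (app j (U a2) y) = 0 := by
    refine hp _ ?_
    rw [hy, map_sub, map_sub, fam_map_eq b c x _ (hβ := hX) (γ := fun _ => (0 : UAlg a2)) (funext hl2) h0,
      fam_map_eq b c x _ (hβ := hY) (γ := fun i => Xu a2 (Sum.inr i)) (funext hr2) hY,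
      fam_map_eq b c x _ (γ := fun i => Xu a2 (Sum.inr i)) (funext fun i => by
        rw [map_add, hl2, hr2]; exact zero_add _) hY,
      hzero (U a2), sub_zero, sub_self]
  rw [← ofT_toT (app j (U a2) y), fmap_ofT, ofT_eq_zero, hm, map_sum, Fintype.sum_sum_type] at h1 h2
  simp only [LinearMap.rTensor_tmul, AlgHom.toLinearMap_apply] at h1 h2
  simp only [hl1, hr1, TensorProduct.zero_tmul, Finset.sum_const_zero, add_zero] at h1
  simp only [hl2, hr2, TensorProduct.zero_tmul, Finset.sum_const_zero, zero_add] at h2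
  have hy0 : y = 0 := hj.inj _ (by
    rw [← ofT_toT (app j (U a2) y), hm, Fintype.sum_sum_type, h1, h2, add_zero, ofT_zero, map_zero])
  rw [hy0, map_zero, eq_comm, sub_sub, sub_eq_zero] at hy
  -- specialise
  have hω : ∀ j, ∑ i, a2 i j • (Sum.elim β γ) i = 0 := by
    rintro (j | j)
    · simpa [a2, Fintype.sum_sum_type] using hβ j
    · simpa [a2, Fintype.sum_sum_type] using hγ j
  have h3 := congrArg (fmap G (desc a2 (Sum.elim β γ) hω)) hy
  rw [map_add, fam_map, fam_map, fam_map] at h3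
  rw [fam_congr b c x (γ := fun i => β i + γ i) (funext fun i => by rw [map_add, desc_Xu, desc_Xu]; rfl) _
      (point_add b c hβ hγ),
    fam_congr b c x (γ := β) (funext fun i => desc_Xu a2 (Sum.elim β γ) hω (Sum.inl i)) _ hβ,
    fam_congr b c x (γ := γ) (funext fun i => desc_Xu a2 (Sum.elim β γ) hω (Sum.inr i)) _ hγ] at h3
  exact h3

end Lift

theorem exists_lift_aux (hk : IsKer (uM A φ₀) k) (b : Module.Basis ι A P) (c : Module.Basis κ A P')
    {F G H : Adeq.MVF A} {i : F ⟶ G} {τ : G ⟶ H} (hi : IsKer τ i)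
    (hτ : ∀ B, Function.Surjective (app τ B)) (hF : Adeq.adequate A F) (α : L ⟶ H) :
    ∃ l : L ⟶ G, l ≫ τ = α := by
  classical
  obtain ⟨M, N, f₀, j, hj⟩ := (adequate_iff F).1 hF
  set a := matr φ₀ b c with ha
  obtain ⟨uu, huu⟩ : ∃ uu : El L (U a), app k (U a) uu = ofT (vec b (B := U a) (Xu a)) := exists_univ hk b c
  obtain ⟨x₀, hx₀⟩ := hτ (U a) (app α (U a) uu)
  have hσu : fmap L (σ a) uu = (Polynomial.X : Polynomial (UAlg a)) • fmap L (ι0 (U a)) uu := by
    refine hk.inj _ ?_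
    rw [app_fmap, huu, fmap_ofT, rTensor_vec, (app k (Pol (U a))).map_smul, app_fmap, huu, fmap_ofT,
      rTensor_vec, ← ofT_smul (B := Pol (U a)) (M := P) (Polynomial.X : Polynomial (UAlg a)), ofT_inj, vec,
      vec, Finset.smul_sum]
    refine Finset.sum_congr rfl fun i _ => ?_
    rw [σ_Xu, ι0_apply, TensorProduct.smul_tmul', smul_eq_mul]
  -- the defect of homogeneity
  obtain ⟨y, hy⟩ := hi.exists_lift (Pol (U a))
    (fmap G (σ a) x₀ - (Polynomial.X : Polynomial (UAlg a)) • fmap G (ι0 (U a)) x₀) (by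
      rw [map_sub, (app τ (Pol (U a))).map_smul, app_fmap, app_fmap, hx₀, ← app_fmap, ← app_fmap,
        ← (app α (Pol (U a))).map_smul, hσu, sub_self])
  have hσ1 : σ a ≫ Ψ1 (U a) = σ a ≫ Ψ2 (σ a) := by
    refine U_hom_ext _ fun i => ?_
    show (Ψ1 (U a)).hom ((σ a).hom (Xu a i)) = (Ψ2 (σ a)).hom ((σ a).hom (Xu a i))
    rw [σ_Xu, Polynomial.X_mul_C, Polynomial.C_mul_X_eq_monomial, Ψ1_monomial, Ψ2_monomial, σ_Xu,
      Polynomial.X_mul_C, Polynomial.C_mul_X_eq_monomial]
  have hι1 : ι0 (U a) ≫ Ψ1 (U a) = ι0 (U a) ≫ ι0 (Pol (U a)) := by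
    refine CommAlgCat.hom_ext (AlgHom.ext fun p => ?_)
    show (Ψ1 (U a)).hom (Polynomial.monomial 0 p) = Polynomial.C (Polynomial.C p)
    rw [Ψ1_monomial, Polynomial.monomial_zero_left, Polynomial.monomial_zero_left]
  have hι2 : ι0 (U a) ≫ Ψ2 (σ a) = σ a ≫ ι0 (Pol (U a)) := by
    refine CommAlgCat.hom_ext (AlgHom.ext fun p => ?_)
    show (Ψ2 (σ a)).hom (Polynomial.monomial 0 p) = Polynomial.C ((σ a).hom p)
    rw [Ψ2_monomial, Polynomial.monomial_zero_left]
  have hX1 : (Ψ1 (U a)).hom (Polynomial.X : Polynomial (UAlg a)) =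
      Polynomial.X * Polynomial.C Polynomial.X :=
    Polynomial.aevalTower_X _ _
  have hX2 : (Ψ2 (σ a)).hom (Polynomial.X : Polynomial (UAlg a)) = Polynomial.X :=
    Polynomial.aevalTower_X _ _
  have hy2 : fmap F (Ψ1 (U a)) y = fmap F (Ψ2 (σ a)) y +
      (Polynomial.X : Polynomial (Polynomial (UAlg a))) • fmap F (ι0 (Pol (U a))) y := by
    refine hi.inj _ ?_
    rw [map_add, (app i _).map_smul, app_fmap, app_fmap, app_fmap, hy, map_sub, map_sub, map_sub, fmap_smul,
      fmap_smul, fmap_smul, ← fmap_comp, ← fmap_comp, ← fmap_comp, ← fmap_comp, hσ1, hι1, hι2, hX1, hX2,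
      smul_sub, smul_smul, ι0_apply, ← fmap_comp, ← fmap_comp]
    abel
  set ε := toT (app j (Pol (U a)) y) with hε
  have hεc : (Ψ1 (U a)).hom.toLinearMap.rTensor M ε = (Ψ2 (σ a)).hom.toLinearMap.rTensor M ε +
      (Polynomial.X : Polynomial (Polynomial (UAlg a))) • (ι0 (Pol (U a))).hom.toLinearMap.rTensor M ε := by
    have h := congrArg (app j (Pol (Pol (U a)))) hy2
    rwa [map_add, (app j _).map_smul, app_fmap, app_fmap, app_fmap, ← ofT_toT (app j (Pol (U a)) y), ← hε,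
      fmap_ofT, fmap_ofT, fmap_ofT,
      ← ofT_smul (B := Pol (Pol (U a))) (M := M) (Polynomial.X : Polynomial (Polynomial (UAlg a))),
      ← ofT_add, ofT_inj] at h
  have hev : fmap F (ev1 (U a)) y = 0 := by
    refine hi.inj _ ?_
    have e1 : σ a ≫ ev1 (U a) = 𝟙 (U a) := by
      refine U_hom_ext _ fun i => ?_
      show (ev1 (U a)).hom ((σ a).hom (Xu a i)) = Xu a i
      rw [σ_Xu, Polynomial.X_mul_C, Polynomial.C_mul_X_eq_monomial, ev1_monomial]
    have e2 : ι0 (U a) ≫ ev1 (U a) = 𝟙 (U a) := by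
      refine CommAlgCat.hom_ext (AlgHom.ext fun p => ?_)
      exact ev1_monomial (U a) 0 p
    rw [app_fmap, hy, map_sub, fmap_smul, ← fmap_comp, ← fmap_comp, e1, e2, fmap_id, map_zero,
      show (ev1 (U a)).hom (Polynomial.X : Polynomial (UAlg a)) = 1 from Polynomial.aevalTower_X _ _,
      one_smul, sub_self]
  have hev' : (ev1 (U a)).hom.toLinearMap.rTensor M ε = 0 := by
    have h := congrArg (app j (U a)) hev
    rwa [app_fmap, map_zero, ← ofT_toT (app j (Pol (U a)) y), fmap_ofT, ofT_eq_zero] at h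
  have key := cocycle_eq (σ a) ε hev' hεc
  -- the correction
  obtain ⟨w, hw⟩ := hj.exists_lift (U a) (ofT ((coeffL (U a) 1).rTensor M ε)) (by
    have h0 := hj.zero _ y
    rw [← ofT_toT (app j (Pol (U a)) y), app_uM, ofT_eq_zero] at h0
    rw [app_uM, ofT_eq_zero, ← LinearMap.comp_apply, LinearMap.lTensor_comp_rTensor,
      ← LinearMap.rTensor_comp_lTensor, LinearMap.comp_apply]
    rw [hε, h0, map_zero])
  have hyw : y = (Polynomial.X : Polynomial (UAlg a)) • fmap F (ι0 (U a)) w - fmap F (σ a) w := by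
    refine hj.inj _ ?_
    rw [map_sub, (app j _).map_smul, app_fmap, app_fmap, hw, fmap_ofT, fmap_ofT,
      ← ofT_smul (B := Pol (U a)) (M := M) (Polynomial.X : Polynomial (UAlg a)), ← ofT_sub, ← key, hε, ofT_toT]
  let x := x₀ + app i (U a) w
  have hx : fmap G (σ a) x = (Polynomial.X : Polynomial (UAlg a)) • fmap G (ι0 (U a)) x := by
    rw [hyw, map_sub, (app i _).map_smul, app_fmap, app_fmap] at hy
    rw [← sub_eq_zero]
    simp only [x, map_add, smul_add]
    rw [add_sub_add_comm, ← hy]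
    abel
  have hτx : app τ (U a) x = app α (U a) uu := by rw [map_add, hi.zero, add_zero, hx₀]
  have huf : ∀ {B : Adeq.Alg A} (β : ι → B) (hβ : ∀ j, ∑ i, a i j • β i = 0),
      app k B (fmap L (desc a β hβ) uu) = ofT (vec b β) := by
    intro B β hβ
    rw [app_fmap, huu, fmap_ofT, rTensor_vec]
    exact congrArg (fun β' => ofT (vec b β')) (funext fun i => desc_Xu _ β hβ i)
  have hd : ∀ (B : Adeq.Alg A) (β γ : ι → B) (hβ : ∀ j, ∑ i, matr φ₀ b c i j • β i = 0)
      (hγ : ∀ j, ∑ i, matr φ₀ b c i j • γ i = 0),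
      ∃ z : El F B, app i B z =
        fam b c x (fun i => β i + γ i) (point_add b c hβ hγ) - fam b c x β hβ - fam b c x γ hγ := by
    intro B β γ hβ hγ
    refine hi.exists_lift B _ ?_
    simp only [fam]
    rw [map_sub, map_sub, app_fmap, app_fmap, app_fmap, hτx]
    rw [← app_fmap, ← app_fmap, ← app_fmap, ← map_sub, ← map_sub, ← map_zero (app α B)]
    refine congrArg (app α B) (hk.inj B ?_)
    rw [map_sub, map_sub, map_zero, huf, huf, huf, sub_sub, sub_eq_zero, ← ofT_add, vec, vec, vec,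
      ← Finset.sum_add_distrib]
    simp only [TensorProduct.add_tmul]
  choose βf hβf hβk using fun (B : Adeq.Alg A) (z : El L B) => exists_point hk b c z
  have huniq : ∀ (B : Adeq.Alg A) (z : El L B) (β : ι → B) (hβ : ∀ j, ∑ i, a i j • β i = 0),
      app k B z = ofT (vec b β) → fam b c x (βf B z) (hβf B z) = fam b c x β hβ := fun B z β hβ h =>
    fam_congr b c x (vec_injective b (ofT_inj.1 ((hβk B z).symm.trans h))) _ _
  refine ⟨mkHom (fun B =>
      { toFun := fun z => fam b c x (βf B z) (hβf B z)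
        map_add' := fun z z' => ?_
        map_smul' := fun r z => ?_ }) (fun B B' f z => ?_), hom_ext fun B z => ?_⟩
  · rw [huniq B (z + z') _ (point_add b c (hβf B z) (hβf B z'))]
    · exact fam_add hj i hi.inj b c x hx hd _ _ _ _
    · rw [map_add, hβk, hβk, ← ofT_add, vec, vec, vec, ← Finset.sum_add_distrib]
      simp only [TensorProduct.add_tmul]
  · rw [RingHom.id_apply, huniq B (r • z) _ (point_smul b c r (hβf B z))]
    · exact fam_smul b c x hx r _ _
    · rw [map_smul, hβk, ← ofT_smul, vec, vec, Finset.smul_sum]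
      simp only [TensorProduct.smul_tmul', smul_eq_mul]
  · show fam b c x (βf B' (fmap L f z)) _ = fmap G f (fam b c x (βf B z) _)
    rw [fam_map, huniq B' (fmap L f z) _ (point_map b c f (hβf B z))]
    rw [app_fmap, hβk, fmap_ofT, rTensor_vec]
  · rw [app_comp, app_mkHom]
    show app τ B (fam b c x (βf B z) (hβf B z)) = app α B z
    rw [fam, app_fmap, hτx, ← app_fmap]
    exact congrArg (app α B) (hk.inj B ((huf _ _).trans (hβk B z).symm))

/-- A linearly adequate functor lifts along surjections with adequate kernel. -/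
theorem exists_lift (hk : IsKer (uM A φ₀) k) [Module.Finite A P] [Module.Free A P] [Module.Finite A P']
    [Module.Free A P'] {F G H : Adeq.MVF A} {i : F ⟶ G} {τ : G ⟶ H} (hi : IsKer τ i)
    (hτ : ∀ B, Function.Surjective (app τ B)) (hF : Adeq.adequate A F) (α : L ⟶ H) :
    ∃ l : L ⟶ G, l ≫ τ = α := by
  obtain ⟨n, ⟨b⟩⟩ := exists_fin_basis P
  obtain ⟨m, ⟨c⟩⟩ := exists_fin_basis P'
  exact exists_lift_aux hk b c hi hτ hF α

end Groth.Agent.AdeqA
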