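import Groth.Agent.Lib.AdeqA.Basic
import Groth.Prelude.Def_W4stkadequateTF
import Mathlib.Algebra.Homology.ShortComplex.ShortExact
import Mathlib.Algebra.Category.ModuleCat.Abelian

/-!
# Tangent functors of module-valued functors
-/

set_option autoImplicit false

universe u

open CategoryTheory Opposite Limits TensorProduct AdeqTF

noncomputable section

namespace Groth.Agent.AdeqA

variable {A : Type u} [CommRing A] {B : Adeq.Alg A} {F G H : Adeq.MVF A}

theorem tf_map_id (N : ModuleCat.{u} B) : AdeqTF.map B (𝟙 N) = 𝟙 (ext B N) := by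
  refine CommAlgCat.hom_ext (AlgHom.ext fun x => ?_)
  show TrivSqZeroExt.map (LinearMap.id : N →ₗ[(B : Type u)] N) x = x
  rw [TrivSqZeroExt.map_id, AlgHom.id_apply]

theorem tf_map_comp {N N' N'' : ModuleCat.{u} B} (g : N ⟶ N') (h : N' ⟶ N'') :
    AdeqTF.map B (g ≫ h) = AdeqTF.map B g ≫ AdeqTF.map B h := by
  refine CommAlgCat.hom_ext (AlgHom.ext fun x => ?_)
  show TrivSqZeroExt.map (h.hom ∘ₗ g.hom) x = TrivSqZeroExt.map h.hom (TrivSqZeroExt.map g.hom x)
  rw [TrivSqZeroExt.map_comp_map]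
  rfl

theorem tf_map_zero (N N' : ModuleCat.{u} B) :
    AdeqTF.map B (0 : N ⟶ N') = AdeqTF.fst B N ≫ AdeqTF.inl B N' := by
  refine CommAlgCat.hom_ext (AlgHom.ext fun x => ?_)
  show TrivSqZeroExt.map (0 : N →ₗ[(B : Type u)] N') x =
    algebraMap (B : Type u) (TrivSqZeroExt (B : Type u) N') x.fst
  rw [← TrivSqZeroExt.inl_fst_add_inr_snd_eq x, map_add, TrivSqZeroExt.map_inl, TrivSqZeroExt.map_inr,
    TrivSqZeroExt.algebraMap_eq_inl]
  simp

theorem tf_inl_fst (N : ModuleCat.{u} B) : AdeqTF.inl B N ≫ AdeqTF.fst B N = 𝟙 B :=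
  CommAlgCat.hom_ext (AlgHom.ext fun b => TrivSqZeroExt.fst_inl N b)

theorem tangent_val {N N' : ModuleCat.{u} B} (g : N ⟶ N') (x : tangent B N F) :
    (tangentMap B F g x : El F (ext B N')) = fmap F (AdeqTF.map B g) (x : El F (ext B N)) :=
  rfl

theorem mem_tangent {N : ModuleCat.{u} B} (x : El F (ext B N)) :
    x ∈ tangent B N F ↔ fmap F (AdeqTF.fst B N) x = 0 :=
  Iff.rfl

theorem tangentMap_id (N : ModuleCat.{u} B) (x : tangent B N F) : tangentMap B F (𝟙 N) x = x := by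
  refine Subtype.ext ?_
  rw [tangent_val, tf_map_id, fmap_id]

theorem tangentMap_comp {N N' N'' : ModuleCat.{u} B} (g : N ⟶ N') (h : N' ⟶ N'') (x : tangent B N F) :
    tangentMap B F (g ≫ h) x = tangentMap B F h (tangentMap B F g x) := by
  refine Subtype.ext ?_
  rw [tangent_val, tangent_val, tangent_val, tf_map_comp, fmap_comp]

theorem tangentMap_zero (N N' : ModuleCat.{u} B) (x : tangent B N F) :
    tangentMap B F (0 : N ⟶ N') x = 0 := by
  refine Subtype.ext ?_
  rw [tangent_val, tf_map_zero, fmap_comp, (mem_tangent (x : El F (ext B N))).1 x.2, map_zero]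
  rfl

/-- The map of tangent modules induced by a morphism of functors. -/
def tApp (φ : F ⟶ G) (N : ModuleCat.{u} B) : tangent B N F →+ tangent B N G where
  toFun x := ⟨app φ (ext B N) (x : El F (ext B N)), (mem_tangent _).2 (by
    rw [← app_fmap, (mem_tangent (x : El F (ext B N))).1 x.2, map_zero])⟩
  map_zero' := Subtype.ext (map_zero (app φ (ext B N)))
  map_add' x y := Subtype.ext (map_add (app φ (ext B N)) (x : El F (ext B N)) (y : El F (ext B N)))

theorem tApp_tangentMap (φ : F ⟶ G) {N N' : ModuleCat.{u} B} (g : N ⟶ N') (x : tangent B N F) :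
    tApp φ N' (tangentMap B F g x) = tangentMap B G g (tApp φ N x) :=
  Subtype.ext (app_fmap φ (AdeqTF.map B g) (x : El F (ext B N)))

section Exact

variable {C : ShortComplex (Adeq.MVF A)} (hC : C.ShortExact) {N : ModuleCat.{u} B}

include hC in
theorem tApp_injective : Function.Injective (tApp C.f N) := fun x y h => by
  haveI := hC.mono_f
  exact Subtype.ext (injective_of_mono C.f _ (congrArg Subtype.val h))

theorem tApp_comp_zero (x : tangent B N C.X₁) : tApp C.g N (tApp C.f N x) = 0 :=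
  Subtype.ext (show app C.g (ext B N) (app C.f (ext B N) (x : El C.X₁ (ext B N))) = 0 by rw [← app_comp, C.zero, app_zero])

include hC in
theorem tApp_exists (y : tangent B N C.X₂) (hy : tApp C.g N y = 0) : ∃ x, tApp C.f N x = y := by
  haveI := hC.mono_f
  obtain ⟨x, hx⟩ := exists_of_exact hC.exact (ext B N) (y : El C.X₂ (ext B N)) (congrArg Subtype.val hy)
  refine ⟨⟨x, (mem_tangent x).2 (injective_of_mono C.f B ?_)⟩, Subtype.ext hx⟩
  rw [app_fmap, hx, map_zero, (mem_tangent (y : El C.X₂ (ext B N))).1 y.2]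

include hC in
theorem tApp_surjective : Function.Surjective (tApp C.g N) := fun z => by
  haveI := hC.epi_g
  obtain ⟨y, hy⟩ := surjective_of_epi C.g (ext B N) (z : El C.X₃ (ext B N))
  refine ⟨⟨y - fmap C.X₂ (AdeqTF.inl B N) (fmap C.X₂ (AdeqTF.fst B N) y), (mem_tangent _).2 ?_⟩, Subtype.ext ?_⟩
  · rw [map_sub, ← fmap_comp C.X₂ (AdeqTF.inl B N), tf_inl_fst, fmap_id, sub_self]
  · show app C.g (ext B N) _ = (z : El C.X₃ (ext B N))
    rw [map_sub, app_fmap, app_fmap, hy, (mem_tangent (z : El C.X₃ (ext B N))).1 z.2, map_zero, sub_zero]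

end Exact

/-- Right exactness of the tangent functors. -/
def TFExact (F : Adeq.MVF A) : Prop :=
  ∀ (B : Adeq.Alg A) (S : ShortComplex (ModuleCat.{u} B)), S.ShortExact →
    Function.Surjective (tangentMap B F S.g) ∧ (tangentMap B F S.g).ker = (tangentMap B F S.f).range

theorem ker_eq_range {S : ShortComplex (ModuleCat.{u} B)}
    (h : ∀ y, tangentMap B F S.g y = 0 → ∃ x, tangentMap B F S.f x = y) :
    (tangentMap B F S.g).ker = (tangentMap B F S.f).range := by
  refine le_antisymm (fun y hy => h y hy) ?_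
  rintro _ ⟨x, rfl⟩
  show tangentMap B F S.g (tangentMap B F S.f x) = 0
  rw [← tangentMap_comp, S.zero, tangentMap_zero]

theorem exists_of_ker_eq_range {S : ShortComplex (ModuleCat.{u} B)}
    (h : (tangentMap B F S.g).ker = (tangentMap B F S.f).range) (y : tangent B S.X₂ F)
    (hy : tangentMap B F S.g y = 0) : ∃ x, tangentMap B F S.f x = y := by
  have : y ∈ (tangentMap B F S.g).ker := hy
  rwa [h] at this

theorem TFExact.third {C : ShortComplex (Adeq.MVF A)} (hC : C.ShortExact) (h₁ : TFExact C.X₁)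
    (h₂ : TFExact C.X₂) : TFExact C.X₃ := by
  intro B S hS
  refine ⟨fun z => ?_, ker_eq_range fun z hz => ?_⟩
  · obtain ⟨y, rfl⟩ := tApp_surjective hC z
    obtain ⟨x, rfl⟩ := (h₂ B S hS).1 y
    exact ⟨tApp C.g _ x, (tApp_tangentMap C.g S.g x).symm⟩
  · obtain ⟨y, rfl⟩ := tApp_surjective hC z
    rw [← tApp_tangentMap] at hz
    obtain ⟨x'', hx''⟩ := tApp_exists hC _ hz
    obtain ⟨x, rfl⟩ := (h₁ B S hS).1 x''
    obtain ⟨w, hw⟩ := exists_of_ker_eq_range (h₂ B S hS).2 (y - tApp C.f _ x) (by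
      rw [map_sub, ← tApp_tangentMap, hx'', sub_self])
    exact ⟨tApp C.g _ w, by rw [← tApp_tangentMap, hw, map_sub, tApp_comp_zero, sub_zero]⟩

theorem TFExact.middle {C : ShortComplex (Adeq.MVF A)} (hC : C.ShortExact) (h₁ : TFExact C.X₁)
    (h₃ : TFExact C.X₃) : TFExact C.X₂ := by
  intro B S hS
  refine ⟨fun y'' => ?_, ker_eq_range fun y hy => ?_⟩
  · obtain ⟨z, hz⟩ := (h₃ B S hS).1 (tApp C.g _ y'')
    obtain ⟨y, rfl⟩ := tApp_surjective hC z
    obtain ⟨x'', hx''⟩ := tApp_exists hC (y'' - tangentMap B C.X₂ S.g y) (by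
      rw [map_sub, tApp_tangentMap, hz, sub_self])
    obtain ⟨x, rfl⟩ := (h₁ B S hS).1 x''
    exact ⟨y + tApp C.f _ x, by rw [map_add, ← tApp_tangentMap, hx'', add_sub_cancel]⟩
  · obtain ⟨w, hw⟩ := exists_of_ker_eq_range (h₃ B S hS).2 (tApp C.g _ y) (by
      rw [← tApp_tangentMap, hy, map_zero])
    obtain ⟨v, rfl⟩ := tApp_surjective hC w
    obtain ⟨x, hx⟩ := tApp_exists hC (y - tangentMap B C.X₂ S.f v) (by
      rw [map_sub, tApp_tangentMap C.g S.f v, hw, sub_self])
    have hgx : tangentMap B C.X₁ S.g x = 0 := tApp_injective hC (by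
      rw [map_zero, tApp_tangentMap, hx, map_sub, hy, ← tangentMap_comp, S.zero, tangentMap_zero, sub_zero])
    obtain ⟨x', rfl⟩ := exists_of_ker_eq_range (h₁ B S hS).2 x hgx
    exact ⟨tApp C.f _ x' + v, by rw [map_add, ← tApp_tangentMap, hx, sub_add_cancel]⟩

theorem TFExact.bijective_coprod (hF : TFExact F) (N₁ N₂ : ModuleCat.{u} B) :
    Function.Bijective ((tangentMap B F (biprod.inl : N₁ ⟶ N₁ ⊞ N₂)).coprod
      (tangentMap B F (biprod.inr : N₂ ⟶ N₁ ⊞ N₂))) := by
  let S : ShortComplex (ModuleCat.{u} B) :=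
    ShortComplex.mk (biprod.inl : N₁ ⟶ N₁ ⊞ N₂) biprod.snd biprod.inl_snd
  have hS : S.ShortExact := (ShortComplex.Splitting.ofHasBinaryBiproduct N₁ N₂).shortExact
  constructor
  · rw [injective_iff_map_eq_zero]
    rintro ⟨a, b⟩ h
    rw [AddMonoidHom.coprod_apply] at h
    have h2 := congrArg (tangentMap B F (biprod.snd : N₁ ⊞ N₂ ⟶ N₂)) h
    rw [map_add, map_zero, ← tangentMap_comp, ← tangentMap_comp, biprod.inl_snd, biprod.inr_snd, tangentMap_zero,
      tangentMap_id, zero_add] at h2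
    subst h2
    rw [map_zero, add_zero] at h
    have h1 := congrArg (tangentMap B F (biprod.fst : N₁ ⊞ N₂ ⟶ N₁)) h
    rw [map_zero, ← tangentMap_comp, biprod.inl_fst, tangentMap_id] at h1
    exact Prod.ext h1 rfl
  · intro y
    obtain ⟨a, ha⟩ := exists_of_ker_eq_range (hF B S hS).2
      (y - tangentMap B F (biprod.inr : N₂ ⟶ N₁ ⊞ N₂) (tangentMap B F (biprod.snd : N₁ ⊞ N₂ ⟶ N₂) y)) (by
        show tangentMap B F (biprod.snd : N₁ ⊞ N₂ ⟶ N₂) _ = 0
        rw [map_sub, ← tangentMap_comp biprod.inr, biprod.inr_snd, tangentMap_id, sub_self])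
    refine ⟨(a, tangentMap B F (biprod.snd : N₁ ⊞ N₂ ⟶ N₂) y), ?_⟩
    rw [AddMonoidHom.coprod_apply, show tangentMap B F (biprod.inl : N₁ ⟶ N₁ ⊞ N₂) a = _ from ha, sub_add_cancel]

end Groth.Agent.AdeqA
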