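import Groth.Agent.Lib.AdeqA.Basic
import Mathlib.Algebra.MvPolynomial.CommRing
import Mathlib.LinearAlgebra.Dimension.Free
import Mathlib.RingTheory.FiniteType
import Mathlib.Algebra.Polynomial.AlgebraMap
import Mathlib.LinearAlgebra.Quotient.Basic
import Mathlib.LinearAlgebra.TensorProduct.Basis
import Mathlib.LinearAlgebra.TensorProduct.RightExactness
import Mathlib.RingTheory.TensorProduct.Free

/-!
# The algebra representing a linearly adequate functor

For a matrix `a`, `U a = A[X_i] / (∑_i a i j X_i)`.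
-/

set_option autoImplicit false

universe u

open CategoryTheory Opposite Limits TensorProduct

noncomputable section

namespace Groth.Agent.AdeqA

variable {A : Type u} [CommRing A] {ι κ : Type} [Fintype ι] [Fintype κ] (a : ι → κ → A)

/-- The linear relations. -/
def rel (j : κ) : MvPolynomial ι A := ∑ i, MvPolynomial.C (a i j) * MvPolynomial.X i

/-- The ideal of relations. -/
def relIdeal : Ideal (MvPolynomial ι A) := Ideal.span (Set.range (rel a))

/-- The universal algebra. -/
abbrev UAlg : Type u := MvPolynomial ι A ⧸ relIdeal a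

/-- The universal algebra as an object of `Adeq.Alg A`. -/
abbrev U : Adeq.Alg A := Adeq.algOf A (UAlg a)

/-- The universal coordinates. -/
def Xu (i : ι) : UAlg a := Ideal.Quotient.mk (relIdeal a) (MvPolynomial.X i)

theorem rel_Xu (j : κ) : ∑ i, a i j • Xu a i = 0 := by
  have h : ∑ i, a i j • Xu a i = Ideal.Quotient.mk (relIdeal a) (rel a j) := by
    rw [rel, map_sum]
    refine Finset.sum_congr rfl fun i _ => ?_
    rw [map_mul]
    exact Algebra.smul_def (a i j) (Xu a i)
  rw [h, Ideal.Quotient.eq_zero_iff_mem]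
  exact Ideal.subset_span ⟨j, rfl⟩

/-- The map out of the universal algebra given by a point. -/
def descAlg {B : Type u} [CommRing B] [Algebra A B] (β : ι → B) (hβ : ∀ j, ∑ i, a i j • β i = 0) :
    UAlg a →ₐ[A] B :=
  Ideal.Quotient.liftₐ (relIdeal a) (MvPolynomial.aeval β) fun p hp => by
    refine (Ideal.span_le.2 ?_ : relIdeal a ≤ RingHom.ker (MvPolynomial.aeval β)) hp
    rintro _ ⟨j, rfl⟩
    rw [SetLike.mem_coe, RingHom.mem_ker, rel, map_sum]
    refine (Finset.sum_congr rfl fun i _ => ?_).trans (hβ j)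
    rw [map_mul, MvPolynomial.aeval_C, MvPolynomial.aeval_X, Algebra.smul_def]

theorem descAlg_Xu {B : Type u} [CommRing B] [Algebra A B] (β : ι → B)
    (hβ : ∀ j, ∑ i, a i j • β i = 0) (i : ι) : descAlg a β hβ (Xu a i) = β i :=
  MvPolynomial.aeval_X β i

/-- The map out of the universal algebra given by a point, in `Adeq.Alg A`. -/
def desc {B : Adeq.Alg A} (β : ι → B) (hβ : ∀ j, ∑ i, a i j • β i = 0) : U a ⟶ B :=
  CommAlgCat.ofHom (descAlg a β hβ)

theorem desc_Xu {B : Adeq.Alg A} (β : ι → B) (hβ : ∀ j, ∑ i, a i j • β i = 0) (i : ι) :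
    (desc a β hβ).hom (Xu a i) = β i :=
  descAlg_Xu a β hβ i

theorem U_hom_ext {B : Adeq.Alg A} {f g : U a ⟶ B} (h : ∀ i, f.hom (Xu a i) = g.hom (Xu a i)) : f = g := by
  refine CommAlgCat.hom_ext (Ideal.Quotient.algHom_ext A (MvPolynomial.algHom_ext fun i => ?_))
  exact h i

/-- Polynomials in one variable over an algebra. -/
abbrev Pol (B : Adeq.Alg A) : Adeq.Alg A := Adeq.algOf A (Polynomial (B : Type u))

/-- The inclusion of the constants. -/
def ι0 (B : Adeq.Alg A) : B ⟶ Pol B :=
  CommAlgCat.ofHom (IsScalarTower.toAlgHom A (B : Type u) (Polynomial (B : Type u)))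

theorem ι0_apply (B : Adeq.Alg A) (b : B) : (ι0 B).hom b = Polynomial.C b :=
  rfl

/-- The scaling map `X_i ↦ t X_i`. -/
def σ : U a ⟶ Pol (U a) :=
  desc a (fun i => (Polynomial.X * Polynomial.C (Xu a i) : Polynomial (UAlg a))) fun j => by
    rw [← mul_zero (Polynomial.X : Polynomial (UAlg a)), ← map_zero (Polynomial.C (R := UAlg a)),
      ← rel_Xu a j, map_sum, Finset.mul_sum]
    refine Finset.sum_congr rfl fun i _ => ?_
    rw [← mul_smul_comm, Polynomial.smul_C]

theorem σ_Xu (i : ι) : (σ a).hom (Xu a i) = Polynomial.X * Polynomial.C (Xu a i) :=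
  desc_Xu a _ _ i

/-- The coefficient of the linear monomial `X_i`. -/
def lin (p : MvPolynomial ι A) (i : ι) : A := MvPolynomial.coeff (Finsupp.single i 1) p

theorem lin_mul_X [DecidableEq ι] (p : MvPolynomial ι A) (i k : ι) :
    lin (p * MvPolynomial.X k) i = if i = k then MvPolynomial.constantCoeff p else 0 := by
  rw [lin, MvPolynomial.coeff_mul_X']
  by_cases h : i = k
  · subst h
    simp [MvPolynomial.constantCoeff_eq]
  · rw [if_neg h, if_neg]
    simp [Ne.symm h]

/-- The columns of the matrix. -/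
def cols : (κ → A) →ₗ[A] ι → A := ∑ j, (LinearMap.proj j).smulRight (fun i => a i j)

theorem cols_apply (c : κ → A) (i : ι) : cols a c i = ∑ j, c j * a i j := by
  simp [cols, LinearMap.sum_apply, Finset.sum_apply]

/-- `(ι → A)` modulo the columns of the matrix: the linear part of the universal algebra. -/
abbrev Q1 : Type u := (ι → A) ⧸ LinearMap.range (cols a)

/-- The linear part, on polynomials. -/
def τ0 : MvPolynomial ι A →ₗ[A] Q1 a :=
  (LinearMap.range (cols a)).mkQ ∘ₗ
    { toFun := lin
      map_add' := fun p q => funext fun i => MvPolynomial.coeff_add _ p q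
      map_smul' := fun c p => funext fun i => MvPolynomial.coeff_smul _ c p }

theorem τ0_eq_zero {p : MvPolynomial ι A} (hp : p ∈ relIdeal a) : τ0 a p = 0 := by
  classical
  obtain ⟨c, rfl⟩ := (Ideal.mem_span_range_iff_exists_fun (R := MvPolynomial ι A)).1 hp
  refine (Submodule.Quotient.mk_eq_zero _).2 ⟨fun j => MvPolynomial.constantCoeff (c j), ?_⟩
  funext i
  rw [cols_apply]
  show _ = lin (∑ j, c j * rel a j) i
  rw [lin, MvPolynomial.coeff_sum]
  refine Finset.sum_congr rfl fun j _ => ?_
  rw [rel, Finset.mul_sum, MvPolynomial.coeff_sum, Finset.sum_eq_single i]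
  · rw [← mul_assoc]
    change _ = lin (c j * MvPolynomial.C (a i j) * MvPolynomial.X i) i
    rw [lin_mul_X, if_pos rfl, map_mul, MvPolynomial.constantCoeff_C]
  · intro k _ hk
    rw [← mul_assoc]
    change lin (c j * MvPolynomial.C (a k j) * MvPolynomial.X k) i = 0
    rw [lin_mul_X, if_neg (Ne.symm hk)]
  · simp

/-- The linear part. -/
def τ : UAlg a →ₗ[A] Q1 a :=
  (((relIdeal a).restrictScalars A).liftQ (τ0 a) fun _ hp => τ0_eq_zero a hp) ∘ₗ
    (Submodule.Quotient.restrictScalarsEquiv A (relIdeal a)).symm.toLinearMap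

theorem τ_mk (p : MvPolynomial ι A) :
    τ a (Ideal.Quotient.mk (relIdeal a) p) = Submodule.Quotient.mk (lin p) :=
  rfl

theorem τ_Xu [DecidableEq ι] (k : ι) : τ a (Xu a k) = Submodule.Quotient.mk (Pi.single k 1) := by
  rw [Xu, τ_mk]
  congr 1
  funext i
  rw [← one_mul (MvPolynomial.X k), lin_mul_X, map_one, Pi.single_apply]

/-- The linear combination of the coordinates. -/
def liftQ1 : Q1 a →ₗ[A] UAlg a :=
  (LinearMap.range (cols a)).liftQ (∑ i, (LinearMap.proj i).smulRight (Xu a i)) (by
    rintro _ ⟨c, rfl⟩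
    rw [LinearMap.mem_ker, LinearMap.sum_apply]
    simp only [LinearMap.smulRight_apply, LinearMap.proj_apply, cols_apply, Finset.sum_smul]
    rw [Finset.sum_comm]
    refine Finset.sum_eq_zero fun j _ => ?_
    simp only [mul_smul, ← Finset.smul_sum, rel_Xu, smul_zero])

theorem liftQ1_mk (v : ι → A) : liftQ1 a (Submodule.Quotient.mk v) = ∑ i, v i • Xu a i := by
  rw [liftQ1, Submodule.liftQ_apply, LinearMap.sum_apply]
  rfl

/-- The projection to the linear part. -/
def κU : UAlg a →ₗ[A] UAlg a := liftQ1 a ∘ₗ τ a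

/-- The `k`th coefficient, `A`-linearly. -/
def coeffL (B : Adeq.Alg A) (k : ℕ) : Polynomial (B : Type u) →ₗ[A] (B : Type u) :=
  (Polynomial.lcoeff (B : Type u) k).restrictScalars A

theorem coeff_σ (c : UAlg a) :
    coeffL (U a) 1 ((σ a).hom c) = κU a c := by
  classical
  obtain ⟨p, rfl⟩ := Ideal.Quotient.mk_surjective c
  have key : Polynomial.coeff ((σ a).hom (Ideal.Quotient.mk (relIdeal a) p)) 0 =
      algebraMap A (UAlg a) (MvPolynomial.constantCoeff p) ∧
      Polynomial.coeff ((σ a).hom (Ideal.Quotient.mk (relIdeal a) p)) 1 = ∑ i, lin p i • Xu a i := by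
    induction p using MvPolynomial.induction_on with
    | C r =>
      rw [show (σ a).hom (Ideal.Quotient.mk (relIdeal a) (MvPolynomial.C r)) =
        Polynomial.C (algebraMap A (UAlg a) r) from (σ a).hom.commutes r]
      refine ⟨by rw [Polynomial.coeff_C_zero, MvPolynomial.constantCoeff_C], ?_⟩
      rw [Polynomial.coeff_C_ne_zero (by norm_num), Finset.sum_eq_zero]
      intro i _
      rw [lin, MvPolynomial.coeff_C, if_neg (by simp [eq_comm]), zero_smul]
    | add p q hp hq =>
      rw [map_add, map_add, Polynomial.coeff_add, Polynomial.coeff_add, hp.1, hp.2, hq.1, hq.2, map_add,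
        map_add]
      refine ⟨rfl, ?_⟩
      rw [← Finset.sum_add_distrib]
      simp only [lin, MvPolynomial.coeff_add, add_smul]
    | mul_X p k hp =>
      rw [map_mul, map_mul, show (σ a).hom (Ideal.Quotient.mk (relIdeal a) (MvPolynomial.X k)) =
        Polynomial.X * Polynomial.C (Xu a k) from σ_Xu a k, ← mul_assoc, Polynomial.coeff_mul_C,
        Polynomial.coeff_mul_C]
      refine ⟨?_, ?_⟩
      · rw [Polynomial.coeff_mul_X_zero, zero_mul, map_mul, MvPolynomial.constantCoeff_X, mul_zero, map_zero]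
      · rw [Polynomial.coeff_mul_X, hp.1, Finset.sum_eq_single k]
        · rw [lin_mul_X, if_pos rfl]
          exact (Algebra.smul_def _ (Xu a k)).symm
        · intro i _ hi
          rw [lin_mul_X, if_neg hi, zero_smul]
        · simp
  show Polynomial.coeff _ 1 = _
  refine key.2.trans ?_
  rw [κU, LinearMap.comp_apply, τ_mk, liftQ1_mk]

theorem exists_rTensor_κU {M : Type (u + 1)} [AddCommGroup M] [Module A M] (z : UAlg a ⊗[A] M) :
    ∃ m : ι → M, (κU a).rTensor M z = ∑ i, Xu a i ⊗ₜ[A] m i := by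
  induction z using TensorProduct.induction_on with
  | zero => exact ⟨0, by simp⟩
  | tmul c m =>
    obtain ⟨v, hv⟩ := Submodule.Quotient.mk_surjective _ (τ a c)
    refine ⟨fun i => v i • m, ?_⟩
    rw [LinearMap.rTensor_tmul, κU, LinearMap.comp_apply, ← hv, liftQ1_mk, TensorProduct.sum_tmul]
    exact Finset.sum_congr rfl fun i _ => TensorProduct.smul_tmul _ _ _
  | add x y hx hy =>
    obtain ⟨m, hm⟩ := hx
    obtain ⟨n, hn⟩ := hy
    exact ⟨m + n, by simp [hm, hn, TensorProduct.tmul_add, Finset.sum_add_distrib]⟩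

/-- A family killed by the universal element comes from the relations. -/
theorem exists_of_sum_Xu_eq_zero {M : Type (u + 1)} [AddCommGroup M] [Module A M] (m : ι → M)
    (h : ∑ i, Xu a i ⊗ₜ[A] m i = 0) : ∃ n : κ → M, ∀ i, m i = ∑ j, a i j • n j := by
  classical
  have h1 : (LinearMap.range (cols a)).mkQ.rTensor M (∑ i, Pi.single i (1 : A) ⊗ₜ[A] m i) = 0 := by
    rw [map_sum, ← map_zero ((τ a).rTensor M), ← h, map_sum]
    refine Finset.sum_congr rfl fun i _ => ?_
    rw [LinearMap.rTensor_tmul, LinearMap.rTensor_tmul, τ_Xu]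
    rfl
  obtain ⟨w, hw⟩ := (rTensor_exact M (LinearMap.exact_map_mkQ_range (cols a))
    (Submodule.mkQ_surjective _) _).1 h1
  let e : (κ → A) ⊗[A] M →ₗ[A] κ → M :=
    LinearMap.pi fun j => (TensorProduct.lid A M).toLinearMap ∘ₗ (LinearMap.proj j).rTensor M
  refine ⟨e w, fun i => ?_⟩
  have h2 := congrArg ((TensorProduct.lid A M).toLinearMap ∘ₗ
    (LinearMap.proj (R := A) (φ := fun _ : ι => A) i).rTensor M) hw
  have h3 : ∀ w, ((TensorProduct.lid A M).toLinearMap ∘ₗ
      (LinearMap.proj (R := A) (φ := fun _ : ι => A) i).rTensor M) ((cols a).rTensor M w) =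
      ∑ j, a i j • e w j := by
    intro w
    induction w using TensorProduct.induction_on with
    | zero => simp
    | tmul c x =>
      simp only [LinearMap.comp_apply, LinearMap.rTensor_tmul, LinearMap.proj_apply, LinearEquiv.coe_coe,
        TensorProduct.lid_tmul, cols_apply, Finset.sum_smul, e, LinearMap.pi_apply]
      exact Finset.sum_congr rfl fun j _ => by rw [mul_comm, mul_smul]
    | add x y hx hy => simp only [map_add, hx, hy, Pi.add_apply, smul_add, Finset.sum_add_distrib]
  rw [h3] at h2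
  rw [h2, map_sum]
  simp only [LinearMap.comp_apply, LinearMap.rTensor_tmul, LinearMap.proj_apply, LinearEquiv.coe_coe,
    TensorProduct.lid_tmul, Pi.single_apply, ite_smul, one_smul, zero_smul, Finset.sum_ite_eq,
    Finset.mem_univ, if_true]

theorem smul_eq_rTensor {B : Type u} [CommRing B] [Algebra A B] {M : Type (u + 1)} [AddCommGroup M]
    [Module A M] (b : B) (z : B ⊗[A] M) : b • z = (LinearMap.mulLeft A b).rTensor M z := by
  induction z using TensorProduct.induction_on with
  | zero => simp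
  | tmul c m => simp [TensorProduct.smul_tmul']
  | add x y hx hy => rw [smul_add, map_add, hx, hy]

/-- An element of degree one in the scaling is a linear combination of the coordinates. -/
theorem exists_of_homogeneous {M : Type (u + 1)} [AddCommGroup M] [Module A M] (z : UAlg a ⊗[A] M)
    (h : (σ a).hom.toLinearMap.rTensor M z =
      (Polynomial.X : Polynomial (UAlg a)) • (ι0 (U a)).hom.toLinearMap.rTensor M z) :
    ∃ m : ι → M, z = ∑ i, Xu a i ⊗ₜ[A] m i := by
  obtain ⟨m, hm⟩ := exists_rTensor_κU a z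
  refine ⟨m, ?_⟩
  rw [← hm]
  have h1 := congrArg ((coeffL (U a) 1).rTensor M) h
  rw [smul_eq_rTensor, ← LinearMap.rTensor_comp_apply, ← LinearMap.rTensor_comp_apply,
    ← LinearMap.rTensor_comp_apply] at h1
  rw [LinearMap.comp_assoc] at h1
  rw [show coeffL (U a) 1 ∘ₗ (σ a).hom.toLinearMap = κU a from LinearMap.ext (coeff_σ a),
    show coeffL (U a) 1 ∘ₗ LinearMap.mulLeft A (Polynomial.X : Polynomial (UAlg a)) ∘ₗ
      (ι0 (U a)).hom.toLinearMap = LinearMap.id from LinearMap.ext fun c => by
        show Polynomial.coeff (Polynomial.X * Polynomial.C c) 1 = c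
        rw [Polynomial.coeff_X_mul, Polynomial.coeff_C_zero], LinearMap.rTensor_id] at h1
  exact h1.symm

/-! ### Points of a linearly adequate functor -/

variable {L : Adeq.MVF A} {P P' : ModuleCat.{u + 1} A} {φ₀ : P ⟶ P'} {k : L ⟶ uO A P}
  (hk : IsKer (uM A φ₀) k) (b : Module.Basis ι A P) (c : Module.Basis κ A P')

/-- The matrix of a map of finite free modules. -/
def matr (φ₀ : P ⟶ P') (b : Module.Basis ι A P) (c : Module.Basis κ A P') (i : ι) (j : κ) : A :=
  c.repr (φ₀.hom (b i)) j

/-- The vector with given coordinates. -/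
def vec (b : Module.Basis ι A P) {B : Adeq.Alg A} (β : ι → B) : (B : Type u) ⊗[A] P :=
  ∑ i, β i ⊗ₜ[A] b i

theorem rTensor_vec (b : Module.Basis ι A P) {B B' : Adeq.Alg A} (f : B ⟶ B') (β : ι → B) :
    f.hom.toLinearMap.rTensor P (vec b β) = vec b fun i => f.hom (β i) := by
  rw [vec, map_sum]
  rfl

theorem lTensor_vec {B : Adeq.Alg A} (β : ι → B) :
    φ₀.hom.lTensor (B : Type u) (vec b β) =
      ∑ j, (∑ i, matr φ₀ b c i j • β i) ⊗ₜ[A] c j := by
  simp only [vec, map_sum, LinearMap.lTensor_tmul, TensorProduct.sum_tmul, matr, TensorProduct.smul_tmul]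
  rw [Finset.sum_comm]
  refine Finset.sum_congr rfl fun i _ => ?_
  rw [← TensorProduct.tmul_sum, c.sum_repr]

include hk in
theorem exists_point {B : Adeq.Alg A} (y : El L B) :
    ∃ β : ι → B, (∀ j, ∑ i, matr φ₀ b c i j • β i = 0) ∧ app k B y = ofT (vec b β) := by
  classical
  let e := b.baseChange (B : Type u)
  have h1 : toT (app k B y) = vec b fun i => e.repr (toT (app k B y)) i := by
    conv_lhs => rw [← e.sum_repr (toT (app k B y))]
    refine Finset.sum_congr rfl fun i _ => ?_
    rw [Module.Basis.baseChange_apply, TensorProduct.smul_tmul', smul_eq_mul, mul_one]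
  refine ⟨fun i => e.repr (toT (app k B y)) i, fun j => ?_, by rw [← h1, ofT_toT]⟩
  have h2 := hk.zero B y
  rw [← ofT_toT (app k B y), h1, app_uM, ofT_eq_zero, lTensor_vec b c] at h2
  have h3 := congrArg (fun z => (c.baseChange (B : Type u)).repr z j) h2
  simpa [map_sum, Finsupp.single_apply] using h3

include hk in
/-- The universal element. -/
theorem exists_univ : ∃ uu : El L (U (matr φ₀ b c)),
    app k (U (matr φ₀ b c)) uu = ofT (vec b (B := U (matr φ₀ b c)) (Xu (matr φ₀ b c))) := by
  refine hk.exists_lift _ _ ?_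
  rw [app_uM, ofT_eq_zero, lTensor_vec b c]
  exact Finset.sum_eq_zero fun j _ => by rw [rel_Xu (matr φ₀ b c) j, TensorProduct.zero_tmul]

include hk in
/-- Every element is the image of the universal one. -/
theorem exists_desc {uu : El L (U (matr φ₀ b c))}
    (huu : app k (U (matr φ₀ b c)) uu = ofT (vec b (B := U (matr φ₀ b c)) (Xu (matr φ₀ b c)))) {B : Adeq.Alg A}
    (y : El L B) : ∃ f : U (matr φ₀ b c) ⟶ B, fmap L f uu = y := by
  obtain ⟨β, hβ, hy⟩ := exists_point hk b c y
  refine ⟨desc _ β hβ, hk.inj B ?_⟩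
  rw [app_fmap, huu, fmap_ofT, rTensor_vec, hy]
  exact congrArg (fun β' => ofT (vec b β')) (funext fun i => desc_Xu _ β hβ i)

include hk in
/-- A morphism from a linearly adequate functor to some `underline M` extends. -/
theorem exists_extension_aux {M : ModuleCat.{u + 1} A} (φ : L ⟶ uO A M)
    (b : Module.Basis ι A P) (c : Module.Basis κ A P') : ∃ g : P ⟶ M, k ≫ uM A g = φ := by
  classical
  set a := matr φ₀ b c with ha
  obtain ⟨uu, huu⟩ := exists_univ hk b c
  have hσ : fmap L (σ a) uu = (Polynomial.X : Polynomial (UAlg a)) • fmap L (ι0 (U a)) uu := by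
    refine hk.inj _ ?_
    rw [app_fmap, huu, fmap_ofT, rTensor_vec, (app k (Pol (U a))).map_smul, app_fmap, huu, fmap_ofT,
      rTensor_vec, ← ofT_smul (B := Pol (U a)) (M := P) (Polynomial.X : Polynomial (UAlg a)), ofT_inj, vec, vec, Finset.smul_sum]
    refine Finset.sum_congr rfl fun i _ => ?_
    rw [σ_Xu, ι0_apply, TensorProduct.smul_tmul', smul_eq_mul]
  have hm := congrArg (app φ (Pol (U a))) hσ
  rw [app_fmap, (app φ (Pol (U a))).map_smul, app_fmap, ← ofT_toT (app φ (U a) uu), fmap_ofT, fmap_ofT,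
    ← ofT_smul (B := Pol (U a)) (M := M) (Polynomial.X : Polynomial (UAlg a)), ofT_inj] at hm
  obtain ⟨m, hm'⟩ := exists_of_homogeneous a _ hm
  refine ⟨ModuleCat.ofHom (b.constr A m), hom_ext fun B y => ?_⟩
  obtain ⟨f, rfl⟩ := exists_desc hk b c huu y
  rw [app_comp, app_fmap, app_fmap, app_fmap, huu, app_uM, ← ofT_toT (app φ (U a) uu), hm']
  congr 2
  rw [vec, map_sum]
  simp [Module.Basis.constr_basis]
  rfl

include hk in
/-- The extension is unique up to a map factoring through `φ₀`. -/
theorem exists_factor_aux {M : ModuleCat.{u + 1} A} (g : P ⟶ M) (hg : k ≫ uM A g = 0)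
    (b : Module.Basis ι A P) (c : Module.Basis κ A P') : ∃ h : P' ⟶ M, φ₀ ≫ h = g := by
  classical
  obtain ⟨uu, huu⟩ := exists_univ hk b c
  have h0 : app (k ≫ uM A g) (U (matr φ₀ b c)) uu = 0 := by rw [hg, app_zero]
  rw [app_comp, huu, app_uM, ofT_eq_zero, vec, map_sum] at h0
  obtain ⟨n, hn⟩ := exists_of_sum_Xu_eq_zero (matr φ₀ b c) (fun i => g.hom (b i)) h0
  refine ⟨ModuleCat.ofHom (c.constr A n), ModuleCat.hom_ext (b.ext fun i => ?_)⟩
  rw [ModuleCat.hom_comp, LinearMap.comp_apply, ModuleCat.hom_ofHom, hn i, Module.Basis.constr_apply_fintype]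
  rfl

theorem exists_fin_basis (P : ModuleCat.{u + 1} A) [Module.Finite A P] [Module.Free A P] :
    ∃ n : ℕ, Nonempty (Module.Basis (Fin n) A P) := by
  cases subsingleton_or_nontrivial A
  · have : Subsingleton P := Module.subsingleton A P
    exact ⟨0, ⟨Module.Basis.empty P⟩⟩
  · exact ⟨_, ⟨Module.finBasis A P⟩⟩

variable [Module.Finite A P] [Module.Free A P] [Module.Finite A P'] [Module.Free A P']

include hk in
/-- A morphism from a linearly adequate functor to some `underline M` extends. -/
theorem exists_extension {M : ModuleCat.{u + 1} A} (φ : L ⟶ uO A M) :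
    ∃ g : P ⟶ M, k ≫ uM A g = φ := by
  obtain ⟨n, ⟨b⟩⟩ := exists_fin_basis P
  obtain ⟨m, ⟨c⟩⟩ := exists_fin_basis P'
  exact exists_extension_aux hk φ b c

include hk in
/-- The extension is unique up to a map factoring through `φ₀`. -/
theorem exists_factor {M : ModuleCat.{u + 1} A} (g : P ⟶ M) (hg : k ≫ uM A g = 0) :
    ∃ h : P' ⟶ M, φ₀ ≫ h = g := by
  obtain ⟨n, ⟨b⟩⟩ := exists_fin_basis P
  obtain ⟨m, ⟨c⟩⟩ := exists_fin_basis P'
  exact exists_factor_aux hk g hg b c

end Groth.Agent.AdeqA
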