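import Groth.Agent.Lib.AdeqA.Cartan
import Groth.Agent.Lib.BigSite16.Zar

/-!
# Zariski and fppf cohomology of acyclic sheaves
-/

set_option autoImplicit false
set_option maxHeartbeats 800000

universe u

open CategoryTheory CategoryTheory.Limits AlgebraicGeometry Opposite Abelian

set_option backward.isDefEq.respectTransparency false
set_option backward.isDefEq.respectTransparency.types false

noncomputable section

namespace Groth.Agent.AdeqA

theorem nonempty_equiv_of_surjective {A A' X X' : Type*} [AddCommGroup A] [AddCommGroup A'] [AddCommGroup X]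
    [AddCommGroup X'] (f : A →+ X) (g : A' →+ X') (hf : Function.Surjective f) (hg : Function.Surjective g)
    (e : A ≃+ A') (h : ∀ x, f x = 0 ↔ g (e x) = 0) : Nonempty (X ≃+ X') := by
  choose s hs using hf
  have key : ∀ x y, f x = f y → g (e x) = g (e y) := fun x y hxy => by
    rw [← sub_eq_zero, ← map_sub, ← map_sub, ← h, map_sub, hxy, sub_self]
  let φ : X →+ X' := AddMonoidHom.mk' (fun x => g (e (s x))) fun x y => by
    rw [← map_add, ← map_add]
    exact key _ _ (by rw [hs, map_add, hs, hs])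
  refine ⟨AddEquiv.ofBijective φ ⟨(injective_iff_map_eq_zero φ).2 fun x hx => ?_, fun y => ?_⟩⟩
  · rw [← hs x]
    exact (h _).2 hx
  · obtain ⟨a, rfl⟩ := hg y
    exact ⟨f (e.symm a), (key _ (e.symm a) (hs _)).trans (by rw [e.apply_symm_apply])⟩

variable (S : Scheme.{u}) [BigSite.ZarCont Scheme.fppfPrecoverage S]

/-- The constant sheaf `ℤ` on the big site. -/
abbrev ZB : BigSite.Ab Scheme.fppfPrecoverage S :=
  (constantSheaf (QuotSh.J Scheme.fppfPrecoverage S) AddCommGrpCat.{u + 1}).obj (AddCommGrpCat.of (ULift.{u + 1} ℤ))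

/-- The constant sheaf `ℤ` on the small site. -/
abbrev ZS : EtZar.Ab S :=
  (constantSheaf (Opens.grothendieckTopology S) AddCommGrpCat.{u + 1}).obj (AddCommGrpCat.of (ULift.{u + 1} ℤ))

theorem exists_homEquiv : ∃ η : ZS S ⟶ (BigSite.resZar Scheme.fppfPrecoverage S).obj (ZB S),
    ∀ Y, Function.Bijective fun x : ZB S ⟶ Y => η ≫ (BigSite.resZar Scheme.fppfPrecoverage S).map x := by
  let R := BigSite.resZar Scheme.fppfPrecoverage S
  let Z := AddCommGrpCat.of (ULift.{u + 1} ℤ)
  let aC := constantSheafAdj (Opens.grothendieckTopology S) AddCommGrpCat.{u + 1} (isTerminalTop : IsTerminal (⊤ : S.Opens))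
  let aD := constantSheafAdj (QuotSh.J Scheme.fppfPrecoverage S) AddCommGrpCat.{u + 1} (Groth.Agent.BigSite16.zarTerminal S)
  refine ⟨(aC.homEquiv Z (R.obj _)).symm (aD.homEquiv Z _ (𝟙 _)), fun Y => ?_⟩
  have e : (fun x : ZB S ⟶ Y => (aC.homEquiv Z (R.obj (ZB S))).symm (aD.homEquiv Z _ (𝟙 _)) ≫ R.map x) =
      fun x => (aC.homEquiv Z (R.obj Y)).symm (aD.homEquiv Z Y x) := funext fun x => by
    refine (aC.homEquiv_naturality_right_symm _ _).symm.trans (congrArg (aC.homEquiv Z (R.obj Y)).symm ?_)
    exact (aD.homEquiv_naturality_right _ x).symm.trans (congrArg _ (Category.id_comp x))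
  rw [e]
  exact (aC.homEquiv Z (R.obj Y)).symm.bijective.comp (aD.homEquiv Z Y).bijective

theorem shortExact_resZar {C : ShortComplex (BigSite.Ab Scheme.fppfPrecoverage S)} (hC : C.ShortExact)
    (hF : CechAcyc C.X₁) : (C.map (BigSite.resZar Scheme.fppfPrecoverage S)).ShortExact := by
  haveI := hC.mono_f
  haveI := (BigSite.piZarAdj Scheme.fppfPrecoverage S).isRightAdjoint
  have hm : Mono ((BigSite.resZar Scheme.fppfPrecoverage S).map C.f) := inferInstance
  refine ShortComplex.ShortExact.mk' (hC.exact.map_of_mono_of_preservesKernel _ inferInstance inferInstance) hm ?_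
  haveI : Sheaf.IsLocallySurjective ((BigSite.resZar Scheme.fppfPrecoverage S).map C.g) := by
    refine ⟨fun {U} s x hx => ?_⟩
    obtain ⟨_, ⟨V, hV, rfl⟩, hxV, hle⟩ := S.isBasis_affineOpens.exists_subset_of_mem_open hx U.2
    haveI : IsAffine ((BigSite.zarIncl S).obj V).left := hV
    refine ⟨V, homOfLE hle, ?_, hxV⟩
    exact surjective_of_cechAcyc' hC hF ((BigSite.zarIncl S).obj V) _
  exact Sheaf.epi_of_isLocallySurjective ((BigSite.resZar Scheme.fppfPrecoverage S).map C.g)

theorem nonempty_H_resZar_equiv : ∀ (n : ℕ) (F : BigSite.Ab Scheme.fppfPrecoverage S), CechAcyc F →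
    Nonempty (Ext (ZS S) ((BigSite.resZar Scheme.fppfPrecoverage S).obj F) n ≃+ Ext (ZB S) F n) := by
  let R := BigSite.resZar Scheme.fppfPrecoverage S
  haveI : PreservesFiniteLimits (BigSite.piZarPull Scheme.fppfPrecoverage S) :=
    Groth.Agent.BigSite16.preservesFiniteLimits_sheafPullback.{u + 1} (BigSite.zarIncl S) _ _
  haveI : R.Additive := inferInstance
  have hI : ∀ I : BigSite.Ab Scheme.fppfPrecoverage S, Injective I → Injective (R.obj I) := fun I hI =>
    haveI := hI
    Injective.injective_of_adjoint (BigSite.piZarAdj Scheme.fppfPrecoverage S) I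
  obtain ⟨η, hη⟩ := exists_homEquiv S
  have h0 : ∀ Y, ∃ e : Ext (ZB S) Y 0 ≃+ Ext (ZS S) (R.obj Y) 0, ∀ x, e (Ext.mk₀ x) = Ext.mk₀ (η ≫ R.map x) :=
    fun Y => by
      let e : (ZB S ⟶ Y) ≃+ (ZS S ⟶ R.obj Y) := AddEquiv.ofBijective
        (AddMonoidHom.mk' (fun x => η ≫ R.map x) fun x y => by rw [R.map_add, Preadditive.comp_add]) (hη Y)
      refine ⟨Ext.addEquiv₀.trans (e.trans Ext.addEquiv₀.symm), fun x => ?_⟩
      show Ext.addEquiv₀.symm (e (Ext.addEquiv₀ (Ext.mk₀ x))) = _
      rw [← Ext.addEquiv₀_symm_apply, AddEquiv.apply_symm_apply]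
      rfl
  intro n
  induction n using Nat.strong_induction_on with
  | _ n ih =>
    intro F hF
    match n with
    | 0 =>
      obtain ⟨e, -⟩ := h0 F
      exact ⟨e.symm⟩
    | n + 1 =>
      let T := ShortComplex.mk (Injective.ι F) (cokernel.π (Injective.ι F)) (cokernel.condition _)
      have hT : T.ShortExact :=
        { exact := ShortComplex.exact_of_g_is_cokernel _ (cokernelIsCokernel _) }
      have hT' := shortExact_resZar S hT hF
      haveI : Injective (T.map R).X₂ := hI _ (inferInstanceAs (Injective (Injective.under F)))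
      haveI : Injective T.X₂ := inferInstanceAs (Injective (Injective.under F))
      let f : Ext (ZS S) (R.obj T.X₃) n →+ Ext (ZS S) (R.obj F) (n + 1) := hT'.extClass.postcomp _ rfl
      let g : Ext (ZB S) T.X₃ n →+ Ext (ZB S) F (n + 1) := hT.extClass.postcomp _ rfl
      have hf : Function.Surjective f := fun x =>
        Ext.covariant_sequence_exact₁ _ hT' x (Ext.eq_zero_of_injective _) (n₀ := n) rfl
      have hg : Function.Surjective g := fun x =>
        Ext.covariant_sequence_exact₁ _ hT x (Ext.eq_zero_of_injective _) (n₀ := n) rfl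
      cases n with
      | zero =>
        obtain ⟨e, he⟩ := h0 T.X₃
        obtain ⟨r⟩ := nonempty_equiv_of_surjective g f hg hf e fun x => by
          obtain ⟨x, rfl⟩ := (Ext.mk₀_bijective _ _).2 x
          rw [he]
          constructor <;> intro hx
          · obtain ⟨y, hy⟩ := Ext.covariant_sequence_exact₃ _ hT _ rfl hx
            obtain ⟨y, rfl⟩ := (Ext.mk₀_bijective _ _).2 y
            rw [Ext.mk₀_comp_mk₀] at hy
            rw [← (Ext.mk₀_bijective _ _).1 hy, R.map_comp, ← Category.assoc, ← Ext.mk₀_comp_mk₀]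
            show ((Ext.mk₀ (η ≫ R.map y)).comp (Ext.mk₀ (T.map R).g) (zero_add 0)).comp hT'.extClass (zero_add 1) = 0
            rw [Ext.comp_assoc_of_second_deg_zero, hT'.comp_extClass, Ext.comp_zero]
          · obtain ⟨y, hy⟩ := Ext.covariant_sequence_exact₃ _ hT' _ rfl hx
            obtain ⟨y, rfl⟩ := (Ext.mk₀_bijective _ _).2 y
            obtain ⟨y, rfl⟩ := (hη T.X₂).2 y
            rw [Ext.mk₀_comp_mk₀] at hy
            have h1 : η ≫ R.map (y ≫ T.g) = η ≫ R.map x := by
              rw [R.map_comp, ← Category.assoc]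
              exact (Ext.mk₀_bijective _ _).1 hy
            rw [← (hη _).1 h1, ← Ext.mk₀_comp_mk₀]
            show ((Ext.mk₀ y).comp (Ext.mk₀ T.g) (zero_add 0)).comp hT.extClass (zero_add 1) = 0
            rw [Ext.comp_assoc_of_second_deg_zero, hT.comp_extClass, Ext.comp_zero]
        exact ⟨r.symm⟩
      | succ m =>
        have hf' : Function.Injective f := (injective_iff_map_eq_zero f).2 fun x hx => by
          obtain ⟨y, rfl⟩ := Ext.covariant_sequence_exact₃ _ hT' _ rfl hx
          obtain rfl : y = 0 := Ext.eq_zero_of_injective y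
          exact Ext.zero_comp _ _ _ _ _
        have hg' : Function.Injective g := (injective_iff_map_eq_zero g).2 fun x hx => by
          obtain ⟨y, rfl⟩ := Ext.covariant_sequence_exact₃ _ hT _ rfl hx
          obtain rfl : y = 0 := Ext.eq_zero_of_injective y
          exact Ext.zero_comp _ _ _ _ _
        obtain ⟨e⟩ := ih (m + 1) (Nat.lt_succ_self _) T.X₃ (cechAcyc_quotient hT hF (cechAcyc_of_injective _))
        exact ⟨(AddEquiv.ofBijective f ⟨hf', hf⟩).symm.trans (e.trans (AddEquiv.ofBijective g ⟨hg', hg⟩))⟩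

end Groth.Agent.AdeqA
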